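import Mathlib
import Cfsg.Agent.PGroups.Basic

/-!
A 2-group of normal rank at most two with an automorphism of odd prime order: the commutator with the automorphism
and elementary coprime action.
-/

set_option autoImplicit false
set_option linter.unusedSectionVars false
set_option linter.style.haveILetI false

namespace Cfsg.Lib.NormalRankTwo

open Subgroup

variable {T : Type*} [Group T] [Finite T]

/-- the standing hypotheses -/
structure Ctx (T : Type*) [Group T] (φ : MulAut T) : Prop where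
  two : IsPGroup 2 T
  small : ∀ A : Subgroup T, A.Normal → (∀ a ∈ A, ∀ b ∈ A, a * b = b * a) →
    {a : T | a ∈ A ∧ a * a = 1}.ncard ≤ 4
  prime : (orderOf φ).Prime
  odd : orderOf φ ≠ 2

/-- the commutator of the group with the automorphism -/
def XX (φ : MulAut T) : Subgroup T := closure {g | ∃ x : T, g = x⁻¹ * φ x}

/-- the fixed points -/
def FX (φ : MulAut T) : Subgroup T where
  carrier := {x | φ x = x}
  one_mem' := map_one φ
  mul_mem' := fun {a b} (ha : φ a = a) (hb : φ b = b) => show φ (a * b) = a * b by rw [map_mul, ha, hb]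
  inv_mem' := fun {a} (ha : φ a = a) => show φ a⁻¹ = a⁻¹ by rw [map_inv, ha]

variable {φ : MulAut T}

theorem mem_FX {x : T} : x ∈ FX φ ↔ φ x = x := Iff.rfl

theorem comm_mem_XX (x : T) : x⁻¹ * φ x ∈ XX φ := subset_closure ⟨x, rfl⟩

theorem map_mem_XX {x : T} (hx : x ∈ XX φ) : φ x ∈ XX φ := by
  refine closure_induction (fun y hy => ?_) ?_ (fun a b _ _ ha hb => ?_) (fun a _ ha => ?_) hx
  · obtain ⟨z, rfl⟩ := hy
    rw [map_mul, map_inv]
    exact comm_mem_XX (φ z)
  · rw [map_one]; exact one_mem _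
  · rw [map_mul]; exact mul_mem ha hb
  · rw [map_inv]; exact inv_mem ha

theorem XX_normal : (XX φ).Normal := ⟨fun y hy g => by
  refine closure_induction (fun y hy => ?_) ?_ (fun a b _ _ ha hb => ?_) (fun a _ ha => ?_) hy
  · obtain ⟨x, rfl⟩ := hy
    have h1 := comm_mem_XX (φ := φ) g⁻¹
    have h2 := comm_mem_XX (φ := φ) (x * g⁻¹)
    have := mul_mem h2 (inv_mem h1)
    rw [map_mul, map_inv] at this
    convert this using 1
    group
  · simp
  · rw [show g * (a * b) * g⁻¹ = g * a * g⁻¹ * (g * b * g⁻¹) by group]; exact mul_mem ha hb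
  · rw [show g * a⁻¹ * g⁻¹ = (g * a * g⁻¹)⁻¹ by group]; exact inv_mem ha⟩

/-- a normal subgroup as a predicate -/
theorem conj_mem_XX {x : T} (hx : x ∈ XX φ) (g : T) : g * x * g⁻¹ ∈ XX φ := (XX_normal (φ := φ)).conj_mem x hx g

namespace Ctx

variable (h : Ctx T φ)

include h

theorem odd_order : Odd (orderOf φ) := h.prime.odd_of_ne_two h.odd

theorem coprime (k : ℕ) : Nat.Coprime (orderOf φ) (2 ^ k) :=
  (Nat.coprime_two_right.2 h.odd_order).pow_right k

/-- an invariant coset of an invariant subgroup contains a fixed element -/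
theorem exists_fixed {N : Subgroup T} (hN : ∀ x ∈ N, φ x ∈ N) {t : T} (ht : t⁻¹ * φ t ∈ N) :
    ∃ r ∈ FX φ, t⁻¹ * r ∈ N := by
  classical
  haveI : Fintype T := Fintype.ofFinite T
  haveI := Fact.mk h.prime
  set s : Finset T := Finset.univ.filter fun x => t⁻¹ * x ∈ N
  have hinv : ∀ x, t⁻¹ * x ∈ N → t⁻¹ * φ x ∈ N := fun x hx => by
    have := mul_mem ht (hN _ hx)
    rwa [map_mul, map_inv, mul_assoc, mul_inv_cancel_left] at this
  let f : {x : T // t⁻¹ * x ∈ N} → {x : T // t⁻¹ * x ∈ N} := fun x => ⟨φ x, hinv x x.2⟩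
  have hf : Function.Bijective f := Finite.injective_iff_bijective.1 fun a b e =>
    Subtype.ext (φ.injective (congrArg Subtype.val e))
  let σ : Equiv.Perm {x : T // t⁻¹ * x ∈ N} := Equiv.ofBijective f hf
  have hcard : Nat.card {x : T // t⁻¹ * x ∈ N} = Nat.card N :=
    Nat.card_congr ⟨fun x => ⟨t⁻¹ * x, x.2⟩, fun y => ⟨t * y, by simp⟩, fun x => by simp, fun y => by simp⟩
  have hσpow : ∀ (i : ℕ) x, (((σ ^ i) x : {x : T // t⁻¹ * x ∈ N}) : T) = (φ ^ i) (x : T) := by
    intro i
    induction i with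
    | zero => intro x; rfl
    | succ i ih =>
      intro x
      rw [pow_succ', pow_succ', Equiv.Perm.mul_apply, MulAut.mul_apply, ← ih x]
      rfl
  have hσ : σ ^ (orderOf φ) ^ 1 = 1 := Equiv.ext fun x => Subtype.ext (by
    rw [hσpow, pow_one, pow_orderOf_eq_one]; rfl)
  have hnd : ¬ orderOf φ ∣ Fintype.card {x : T // t⁻¹ * x ∈ N} := by
    rw [← Nat.card_eq_fintype_card, hcard]
    obtain ⟨k, hk⟩ := IsPGroup.iff_card.1 (h.two.to_subgroup N)
    rw [hk]
    exact fun hd => h.prime.ne_one (Nat.eq_one_of_dvd_coprimes (h.coprime k) dvd_rfl hd)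
  obtain ⟨x, hx⟩ := Equiv.Perm.exists_fixed_point_of_prime hnd hσ
  exact ⟨x, congrArg Subtype.val hx, x.2⟩

/-- the group is the commutator times the fixed points -/
theorem decomp (t : T) : ∃ r ∈ FX φ, t⁻¹ * r ∈ XX φ :=
  h.exists_fixed (fun _ hx => map_mem_XX hx) (comm_mem_XX t)

/-- the commutator is generated by its own commutators -/
theorem XX_gen : XX φ ≤ closure {g | ∃ x ∈ XX φ, g = x⁻¹ * φ x} := by
  refine (closure_le _).2 ?_
  rintro _ ⟨t, rfl⟩
  obtain ⟨r, hr, hx⟩ := h.decomp t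
  have hx' : t * r⁻¹ ∈ XX φ := by
    have := conj_mem_XX hx t
    rw [show t * (t⁻¹ * r) * t⁻¹ = (t * r⁻¹)⁻¹ by group] at this
    simpa using inv_mem this
  refine subset_closure ⟨r⁻¹ * (t * r⁻¹) * r, by simpa using conj_mem_XX hx' r⁻¹, ?_⟩
  rw [map_mul, map_mul, map_mul, map_inv, mem_FX.1 hr]
  group

/-- a property of the commutator holding on the commutators and closed under products holds -/
theorem XX_induction {P : T → Prop} (hgen : ∀ x ∈ XX φ, P (x⁻¹ * φ x)) (h1 : P 1)
    (hmul : ∀ a ∈ XX φ, ∀ b ∈ XX φ, P a → P b → P (a * b)) (hinv : ∀ a ∈ XX φ, P a → P a⁻¹) :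
    ∀ x ∈ XX φ, P x := by
  intro x hx
  have hsub : closure {g | ∃ x ∈ XX φ, g = x⁻¹ * φ x} ≤ XX φ := (closure_le _).2 (by
    rintro _ ⟨y, -, rfl⟩; exact comm_mem_XX y)
  refine closure_induction (p := fun y _ => P y) (fun y hy => ?_) h1 (fun a b ha hb pa pb => ?_)
    (fun a ha pa => ?_) (h.XX_gen hx)
  · obtain ⟨z, hz, rfl⟩ := hy; exact hgen z hz
  · exact hmul a (hsub ha) b (hsub hb) pa pb
  · exact hinv a (hsub ha) pa

theorem eq_one_of_pow {M : Type*} [Monoid M] {m : M} (h1 : m ^ orderOf φ = 1) {k : ℕ} (h2 : m ^ 2 ^ k = 1) :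
    m = 1 :=
  orderOf_eq_one_iff.1 (Nat.eq_one_of_dvd_coprimes (h.coprime k) (orderOf_dvd_of_pow_eq_one h1)
    (orderOf_dvd_of_pow_eq_one h2))

/-- averaging: a map multiplicative on the commutator kills what it does not tell from its image -/
theorem avg {M : Type*} [CommGroup M] (f : T → M) (hf : ∀ a ∈ XX φ, ∀ b ∈ XX φ, f (a * b) = f a * f b)
    {y : T} (hy : y ∈ XX φ) (hfix : ∀ i : ℕ, f ((φ ^ i) y) = f y) : f y = 1 := by
  have h1 : f 1 = 1 := by
    have := hf 1 (one_mem _) 1 (one_mem _)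
    rwa [one_mul, left_eq_mul] at this
  have hpow : ∀ (i : ℕ) {x : T}, x ∈ XX φ → (φ ^ i) x ∈ XX φ := by
    intro i
    induction i with
    | zero => intro x hx; exact hx
    | succ i ih => intro x hx; rw [pow_succ', MulAut.mul_apply]; exact map_mem_XX (ih hx)
  have hfi : ∀ a ∈ XX φ, f a⁻¹ = (f a)⁻¹ := fun a ha => by
    refine eq_inv_of_mul_eq_one_left ?_
    rw [← hf _ (inv_mem ha) _ ha, inv_mul_cancel, h1]
  set Ψ : T → M := fun x => ∏ i ∈ Finset.range (orderOf φ), f ((φ ^ i) x) with hΨ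
  have hshift : ∀ x, Ψ (φ x) = Ψ x := by
    intro x
    have e1 : Ψ (φ x) = ∏ i ∈ Finset.range (orderOf φ), f ((φ ^ (i + 1)) x) :=
      Finset.prod_congr rfl fun i _ => by rw [pow_succ, MulAut.mul_apply]
    have e2 := Finset.prod_range_succ' (fun i => f ((φ ^ i) x)) (orderOf φ)
    have e3 := Finset.prod_range_succ (fun i => f ((φ ^ i) x)) (orderOf φ)
    rw [e2, ← e1, pow_orderOf_eq_one, pow_zero] at e3
    exact mul_right_cancel e3
  have hmul : ∀ a ∈ XX φ, ∀ b ∈ XX φ, Ψ (a * b) = Ψ a * Ψ b := fun a ha b hb => by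
    rw [hΨ, ← Finset.prod_mul_distrib]
    exact Finset.prod_congr rfl fun i _ => by rw [map_mul, hf _ (hpow i ha) _ (hpow i hb)]
  have hinv : ∀ a ∈ XX φ, Ψ a⁻¹ = (Ψ a)⁻¹ := fun a ha => by
    rw [hΨ, ← Finset.prod_inv_distrib]
    exact Finset.prod_congr rfl fun i _ => by rw [map_inv, hfi _ (hpow i ha)]
  have hall : ∀ x ∈ XX φ, Ψ x = 1 := h.XX_induction
    (fun x hx => by rw [hmul _ (inv_mem hx) _ (map_mem_XX hx), hinv x hx, hshift, inv_mul_cancel])
    (Finset.prod_eq_one fun i _ => by rw [map_one, h1])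
    (fun a ha b hb ea eb => by rw [hmul a ha b hb, ea, eb, one_mul])
    (fun a ha ea => by rw [hinv a ha, ea, inv_one])
  have h2 : f y ^ orderOf φ = 1 := by
    have := hall y hy
    rw [hΨ] at this
    simp only at this
    rwa [Finset.prod_congr rfl fun i _ => hfix i, Finset.prod_const, Finset.card_range] at this
  obtain ⟨k, hk⟩ := h.two y
  have hfp : ∀ j : ℕ, f (y ^ j) = f y ^ j := by
    intro j
    induction j with
    | zero => rw [pow_zero, pow_zero, h1]
    | succ j ih => rw [pow_succ, pow_succ, hf _ (pow_mem hy j) _ hy, ih]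
  exact h.eq_one_of_pow h2 (k := k) (by rw [← hfp, hk, h1])

/-- an element moved by a fixed shift is fixed -/
theorem fix_of_shift {x c : T} (hx : φ x = x * c) (hc : φ c = c) : c = 1 := by
  have h1 : ∀ i : ℕ, (φ ^ i) x = x * c ^ i := by
    intro i
    induction i with
    | zero => simp
    | succ i ih =>
      rw [pow_succ', MulAut.mul_apply, ih, map_mul, map_pow, hx, hc, mul_assoc, ← pow_succ']
  have h2 := h1 (orderOf φ)
  rw [pow_orderOf_eq_one, MulAut.one_apply, left_eq_mul] at h2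
  obtain ⟨k, hk⟩ := h.two c
  exact h.eq_one_of_pow h2 hk

/-- an element fixed by the square is fixed -/
theorem fix_of_square {x : T} (hx : φ (φ x) = x) : φ x = x := by
  obtain ⟨j, hj⟩ := h.odd_order
  have h1 : ∀ i : ℕ, (φ ^ (2 * i)) x = x := by
    intro i
    induction i with
    | zero => simp
    | succ i ih => rw [show 2 * (i + 1) = 2 + 2 * i by ring, pow_add, MulAut.mul_apply, ih, pow_two, MulAut.mul_apply, hx]
  have h2 := DFunLike.congr_fun (pow_orderOf_eq_one φ) x
  rw [hj, pow_succ', MulAut.mul_apply, h1, MulAut.one_apply] at h2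
  exact h2

end Ctx

end Cfsg.Lib.NormalRankTwo
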