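import Cfsg.Agent.NormalRankTwo.Reduce
import Cfsg.Agent.S0501

/-!
A special commutator: the bilinear calculus and the counting of invariant sections.
-/

set_option autoImplicit false
set_option linter.unusedSectionVars false
set_option linter.style.haveILetI false

namespace Cfsg.Lib.NormalRankTwo

open Subgroup

variable {T : Type*} [Group T] [Finite T] {φ : MulAut T}

/-- pairwise incongruent members of a subgroup are bounded by the relative index -/
theorem card_le_relIndex {N K : Subgroup T} (l : Finset T) (hl : ∀ x ∈ l, x ∈ K)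
    (hd : ∀ x ∈ l, ∀ y ∈ l, x⁻¹ * y ∈ N → x = y) : l.card ≤ N.relIndex K := by
  classical
  rw [← Nat.card_eq_finsetCard]
  refine Nat.card_le_card_of_injective
    (fun x : l => (QuotientGroup.mk (⟨x, hl x x.2⟩ : K) : K ⧸ N.subgroupOf K)) fun x y e => ?_
  exact Subtype.ext (hd x x.2 y y.2 (mem_subgroupOf.1 (QuotientGroup.eq.1 e)))

/-- fewer representatives than the relative index miss an element -/
theorem exists_out {N K : Subgroup T} (l : Finset T) (hlt : l.card < N.relIndex K) :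
    ∃ x ∈ K, ∀ r ∈ l, r⁻¹ * x ∉ N := by
  classical
  by_contra hno
  push Not at hno
  have : ∀ q : K ⧸ N.subgroupOf K, ∃ r : l, ∃ x : K, QuotientGroup.mk x = q ∧ (r : T)⁻¹ * x ∈ N := by
    intro q
    obtain ⟨x, rfl⟩ := QuotientGroup.mk_surjective q
    obtain ⟨r, hr, hrx⟩ := hno x x.2
    exact ⟨⟨r, hr⟩, x, rfl, hrx⟩
  choose g x hx hg using this
  have hinj : Function.Injective g := by
    intro q q' e
    rw [← hx q, ← hx q']
    refine QuotientGroup.eq.2 (mem_subgroupOf.2 ?_)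
    have h1 := mul_mem (inv_mem (hg q)) (e ▸ hg q')
    simpa [mul_assoc] using h1
  have h2 := Nat.card_le_card_of_injective g hinj
  rw [Nat.card_eq_finsetCard] at h2
  exact absurd (lt_of_lt_of_le hlt h2) (lt_irrefl _)

theorem eq_inv_of_sq {x : T} (hx : x * x = 1) : x⁻¹ = x := inv_eq_of_mul_eq_one_right hx

namespace Special

variable (h : Ctx T φ) (S : Special φ)

include S

theorem v_comm {v : T} (hv : v ∈ ZX φ) {x : T} (hx : x ∈ XX φ) : x * v = v * x := (mem_ZX.1 hv).2 x hx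

theorem v_conj {v : T} (hv : v ∈ ZX φ) {x : T} (hx : x ∈ XX φ) : x * v * x⁻¹ = v := by
  rw [S.v_comm hv hx, mul_inv_cancel_right]

theorem v_inv {v : T} (hv : v ∈ ZX φ) : v⁻¹ = v := eq_inv_of_sq (S.exp v hv)

theorem cm_l {x y z : T} (hx : x ∈ XX φ) (hy : y ∈ XX φ) (hz : z ∈ XX φ) :
    cm (x * y) z = cm x z * cm y z := by
  rw [cm_mul_left, S.v_conj (S.com y hy z hz) hx]
  exact S.v_comm (S.com x hx z hz) (ZX_le (S.com y hy z hz))

theorem cm_r {x y z : T} (hx : x ∈ XX φ) (hy : y ∈ XX φ) (hz : z ∈ XX φ) :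
    cm x (y * z) = cm x y * cm x z := by
  rw [cm_mul_right, S.v_conj (S.com x hx z hz) hy]

theorem cm_symm {x y : T} (hx : x ∈ XX φ) (hy : y ∈ XX φ) : cm y x = cm x y := by
  rw [← S.v_inv (S.com x hx y hy)]
  simp only [cm]; group

theorem cm_self (x : T) : cm x x = 1 := cm_eq_one.2 rfl

theorem cm_v {x v : T} (hx : x ∈ XX φ) (hv : v ∈ ZX φ) : cm x v = 1 := cm_eq_one.2 (S.v_comm hv hx)

theorem sq_mul {x y : T} (hx : x ∈ XX φ) (hy : y ∈ XX φ) : x * y * (x * y) = x * x * (y * y) * cm x y := by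
  rw [show x * y * (x * y) = x * cm y x * x⁻¹ * (x * x) * (y * y) by simp only [cm]; group, S.cm_symm hx hy,
    S.v_conj (S.com x hx y hy) hx, mul_assoc]
  exact (S.v_comm (S.com x hx y hy) (mul_mem (mul_mem hx hx) (mul_mem hy hy))).symm

/-- congruent elements have the same square -/
theorem sq_mod {x y : T} (hx : x ∈ XX φ) (hm : x⁻¹ * y ∈ ZX φ) : y * y = x * x := by
  conv_lhs => rw [show y = x * (x⁻¹ * y) by group]
  rw [S.sq_mul hx (ZX_le hm), S.exp _ hm, mul_one, S.cm_v hx hm, mul_one]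

/-- congruent elements have the same commutators -/
theorem cm_mod {x y z : T} (hx : x ∈ XX φ) (hz : z ∈ XX φ) (hm : x⁻¹ * y ∈ ZX φ) : cm z y = cm z x := by
  conv_lhs => rw [show y = x * (x⁻¹ * y) by group]
  rw [S.cm_r hz hx (ZX_le hm), S.cm_v hz hm, mul_one]

include h

theorem mem_of_fix {y : T} (hy : y ∈ XX φ) (hfix : y⁻¹ * φ y ∈ ZX φ) : y ∈ ZX φ :=
  h.fixed_mem ZX_normal (fun _ hx => h.ZX_inv hx) (fun a ha b hb => S.com a ha b hb) hy hfix

/-- the product over an orbit of length three is central -/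
theorem three_prod (h3 : orderOf φ = 3) {y : T} (hy : y ∈ XX φ) : y * φ y * φ (φ y) ∈ ZX φ := by
  have hy1 := map_mem_XX hy
  have hy2 := map_mem_XX hy1
  have hc : φ (φ (φ y)) = y := by
    have := DFunLike.congr_fun (pow_orderOf_eq_one φ) y
    rwa [h3, show (3 : ℕ) = 1 + 1 + 1 from rfl, pow_succ, pow_succ, pow_one] at this
  refine S.mem_of_fix h (mul_mem (mul_mem hy hy1) hy2) ?_
  rw [map_mul, map_mul, hc]
  have := S.com _ (inv_mem (mul_mem hy1 hy2)) _ (inv_mem hy)
  convert this using 1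
  simp only [cm]; group

/-- the index of an invariant section is one modulo the prime -/
theorem relIndex_mod {N : Subgroup T} (hN : N ≤ XX φ) (hinv : ∀ x ∈ N, φ x ∈ N) :
    (ZX φ).relIndex N ≡ 1 [MOD orderOf φ] := by
  classical
  haveI := Fact.mk h.prime
  haveI := ZX_normal (φ := φ)
  let Q := N ⧸ (ZX φ).subgroupOf N
  haveI : Fintype Q := Fintype.ofFinite Q
  let ψ : N →* N := MonoidHom.mk' (fun x => ⟨φ x, hinv x x.2⟩) fun a b => Subtype.ext (map_mul φ (a : T) b)
  let f₀ : Q →* Q := QuotientGroup.map ((ZX φ).subgroupOf N) ((ZX φ).subgroupOf N) ψ fun x hx =>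
    mem_comap.2 (mem_subgroupOf.2 (h.ZX_inv (mem_subgroupOf.1 hx)))
  let f : Function.End Q := fun q => f₀ q
  have hpi : ∀ (i : ℕ) (x : N), ((ψ^[i] x : N) : T) = (φ ^ i) (x : T) := by
    intro i
    induction i with
    | zero => intro x; rfl
    | succ i ih =>
      intro x
      rw [Function.iterate_succ_apply', pow_succ', MulAut.mul_apply, ← ih]
      rfl
  have hit : ∀ (i : ℕ) (x : N), (f ^ i) (QuotientGroup.mk x) = QuotientGroup.mk (ψ^[i] x) := by
    intro i
    induction i with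
    | zero => intro x; rfl
    | succ i ih =>
      intro x
      rw [pow_succ', Function.iterate_succ_apply']
      show f ((f ^ i) (QuotientGroup.mk x)) = _
      rw [ih x]
      rfl
  have hf : f ^ (orderOf φ) ^ 1 = 1 := by
    funext q
    obtain ⟨x, rfl⟩ := QuotientGroup.mk_surjective q
    rw [hit, pow_one]
    show _ = (QuotientGroup.mk x : Q)
    refine congrArg _ (Subtype.ext ?_)
    rw [hpi, pow_orderOf_eq_one]
    rfl
  have h1 := Equiv.Perm.card_fixedPoints_modEq hf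
  have h2 : Fintype.card f.fixedPoints = 1 := by
    rw [Fintype.card_eq_one_iff]
    refine ⟨⟨(1 : Q), map_one f₀⟩, ?_⟩
    rintro ⟨q, hq⟩
    refine Subtype.ext ?_
    obtain ⟨x, rfl⟩ := QuotientGroup.mk_surjective q
    have h3 : ψ x = ψ^[1] x := rfl
    have h4 : (QuotientGroup.mk (ψ x) : Q) = QuotientGroup.mk x := hq
    have h5 : (x : T)⁻¹ * φ x ∈ ZX φ := by
      have := mem_subgroupOf.1 (QuotientGroup.eq.1 h4.symm)
      exact this
    exact (QuotientGroup.eq_one_iff x).2 (mem_subgroupOf.2 (S.mem_of_fix h (hN x.2) h5))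
  rw [h2, ← Nat.card_eq_fintype_card] at h1
  exact h1

/-- the section has order at most sixteen -/
theorem relIndex_le : (ZX φ).relIndex (XX φ) ≤ 16 := by
  haveI := ZX_normal (φ := φ)
  have hR := Cfsg.Agent.S0501.result h.two fun A hA hc he => h.card_le_four hA fun a ha => by
    rw [← pow_two]; exact he a ha
  have := hR (XX φ) ((ZX φ).subgroupOf (XX φ)) ⊤ ?_ ?_
  · rw [Subgroup.card_top] at this
    exact this
  · refine ⟨⟨fun a b => Subtype.ext ?_⟩⟩
    obtain ⟨⟨x, hx⟩, hxa⟩ := QuotientGroup.mk_surjective (a : XX φ ⧸ (ZX φ).subgroupOf (XX φ))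
    obtain ⟨⟨y, hy⟩, hyb⟩ := QuotientGroup.mk_surjective (b : XX φ ⧸ (ZX φ).subgroupOf (XX φ))
    show (a : XX φ ⧸ (ZX φ).subgroupOf (XX φ)) * b = b * a
    rw [← hxa, ← hyb, ← QuotientGroup.mk_mul, ← QuotientGroup.mk_mul]
    refine (QuotientGroup.eq.2 (mem_subgroupOf.2 ?_)).symm
    show (y * x)⁻¹ * (x * y) ∈ ZX φ
    have := S.com _ (inv_mem hx) _ (inv_mem hy)
    convert this using 1
    simp only [cm]; group
  · intro a _
    obtain ⟨⟨x, hx⟩, rfl⟩ := QuotientGroup.mk_surjective a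
    rw [pow_two, ← QuotientGroup.mk_mul]
    exact (QuotientGroup.eq_one_iff _).2 (mem_subgroupOf.2 (S.sq x hx))

theorem relIndex_pow {N : Subgroup T} : ∃ k, (ZX φ).relIndex N = 2 ^ k := by
  haveI := ZX_normal (φ := φ)
  obtain ⟨k, hk⟩ := IsPGroup.iff_card.1 ((h.two.to_subgroup N).to_quotient ((ZX φ).subgroupOf N))
  exact ⟨k, hk⟩

/-- the possible dimensions -/
theorem dims : ((ZX φ).relIndex (XX φ) = 4 ∧ orderOf φ = 3) ∨ ((ZX φ).relIndex (XX φ) = 8 ∧ orderOf φ = 7) ∨
    ((ZX φ).relIndex (XX φ) = 16 ∧ (orderOf φ = 3 ∨ orderOf φ = 5)) := by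
  obtain ⟨k, hk⟩ := S.relIndex_pow h (N := XX φ)
  have hm := S.relIndex_mod h (N := XX φ) le_rfl (fun _ hx => map_mem_XX hx)
  have hle := S.relIndex_le h
  have hk4 : k ≤ 4 := by
    rw [hk] at hle
    exact (Nat.pow_le_pow_iff_right (by norm_num : 1 < 2)).1 (by simpa using hle)
  rw [hk] at hm ⊢
  have hp := h.prime
  have h1 := h.odd
  have hd : orderOf φ ∣ 2 ^ k - 1 := (Nat.modEq_iff_dvd' Nat.one_le_two_pow).1 hm.symm
  interval_cases k
  · exfalso
    obtain ⟨x, hx, y, hy, hxy⟩ := S.nab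
    have hXZ : XX φ ≤ ZX φ := relIndex_eq_one.1 (by rw [hk]; norm_num)
    exact hxy (ZX_comm (hXZ hx) (hXZ hy))
  · norm_num at hd; exact (hp.ne_one (by rw [hd, orderOf_one])).elim
  · norm_num at hd ⊢
    exact (Nat.prime_dvd_prime_iff_eq hp Nat.prime_three).1 hd
  · norm_num at hd ⊢
    exact (Nat.prime_dvd_prime_iff_eq hp (by norm_num)).1 hd
  · norm_num at hd ⊢
    have h15 : orderOf φ ∣ 3 * 5 := by simpa using hd
    rcases hp.dvd_mul.1 h15 with r | r
    · exact Or.inl ((Nat.prime_dvd_prime_iff_eq hp Nat.prime_three).1 r)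
    · exact Or.inr ((Nat.prime_dvd_prime_iff_eq hp (by norm_num)).1 r)

/-- invariant intermediate subgroups in dimension four -/
theorem mid_cases (h16 : (ZX φ).relIndex (XX φ) = 16) {N : Subgroup T} (hVN : ZX φ ≤ N) (hN : N ≤ XX φ)
    (hinv : ∀ x ∈ N, φ x ∈ N) : N ≤ ZX φ ∨ (ZX φ).relIndex N = 4 ∧ orderOf φ = 3 ∨ XX φ ≤ N := by
  obtain ⟨k, hk⟩ := S.relIndex_pow h (N := N)
  have hmul := relIndex_mul_relIndex (ZX φ) N (XX φ) hVN hN
  rw [h16, hk] at hmul
  have hk4 : k ≤ 4 := (Nat.pow_dvd_pow_iff_le_right (by norm_num : 1 < 2)).1 ⟨_, hmul.symm⟩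
  have hm := S.relIndex_mod h hN hinv
  rw [hk] at hm
  have hd : orderOf φ ∣ 2 ^ k - 1 := (Nat.modEq_iff_dvd' Nat.one_le_two_pow).1 hm.symm
  interval_cases k
  · exact Or.inl (relIndex_eq_one.1 (by rw [hk]; norm_num))
  · norm_num at hd; exact (h.prime.ne_one (by rw [hd, orderOf_one])).elim
  · norm_num at hd hk
    exact Or.inr (Or.inl ⟨hk, (Nat.prime_dvd_prime_iff_eq h.prime Nat.prime_three).1 hd⟩)
  · exfalso
    norm_num at hd
    have h7 := (Nat.prime_dvd_prime_iff_eq h.prime (by norm_num : Nat.Prime 7)).1 hd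
    rcases S.dims h with r | r | ⟨-, r | r⟩ <;> omega
  · exact Or.inr (Or.inr (relIndex_eq_one.1 (by omega)))

end Special

end Cfsg.Lib.NormalRankTwo
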