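import Cfsg.Agent.NormalRankTwo.Homocyclic
import Cfsg.Agent.NormalRankTwo.SpecialBasic
import Cfsg.Agent.InvolCalc.CyclicNormalisers.Common
import Cfsg.Agent.S0111
import Cfsg.Agent.S0949
import Cfsg.Agent.BenderSE.AbelianSylow.RankTwo

/-!
A simple group has neither an inverted abelian subgroup of index two in a Sylow subgroup as above nor a large
abelian Sylow subgroup of rank two.
-/

set_option autoImplicit false
set_option linter.unusedSectionVars false
set_option linter.style.haveILetI false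

namespace Cfsg.Lib.NormalRankTwo

open Subgroup

variable {G : Type*} [Group G] [Finite G]

/-- a Sylow subgroup centralising an element receives the centraliser of any conjugate -/
theorem exists_conj_centralizer (T : Sylow 2 G) {s z g₀ : G} (hz : ∀ t ∈ (T : Subgroup G), z * t = t * z)
    (h₀ : g₀ * s * g₀⁻¹ = z) :
    ∃ g : G, g * s * g⁻¹ = z ∧ ∀ t ∈ (T : Subgroup G), t * s = s * t → g * t * g⁻¹ ∈ (T : Subgroup G) := by
  haveI : Fact (Nat.Prime 2) := ⟨Nat.prime_two⟩
  set C := centralizer ({z} : Set G) with hC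
  have hTC : (T : Subgroup G) ≤ C := fun t ht => mem_centralizer_singleton_iff.2 (hz t ht).symm
  let f : (((T : Subgroup G) ⊓ centralizer ({s} : Set G) : Subgroup G)) →* C :=
    MonoidHom.mk' (fun t => ⟨g₀ * (t : G) * g₀⁻¹, mem_centralizer_singleton_iff.2 (by
      have h1 := mem_centralizer_singleton_iff.1 t.2.2
      rw [← h₀]
      calc g₀ * (t : G) * g₀⁻¹ * (g₀ * s * g₀⁻¹) = g₀ * ((t : G) * s) * g₀⁻¹ := by group
        _ = g₀ * (s * (t : G)) * g₀⁻¹ := by rw [h1]
        _ = _ := by group)⟩) fun a b => Subtype.ext (by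
        show g₀ * ((a : G) * b) * g₀⁻¹ = g₀ * a * g₀⁻¹ * (g₀ * b * g₀⁻¹); group)
  have hf : IsPGroup 2 f.range :=
    (T.2.to_le inf_le_left).of_surjective f.rangeRestrict f.rangeRestrict_surjective
  obtain ⟨Q, hQ⟩ := hf.exists_le_sylow
  obtain ⟨c, hc⟩ := MulAction.exists_smul_eq C Q (T.subtype hTC)
  refine ⟨(c : G) * g₀, ?_, fun t ht hts => ?_⟩
  · have h1 := mem_centralizer_singleton_iff.1 c.2
    rw [show (c : G) * g₀ * s * ((c : G) * g₀)⁻¹ = c * (g₀ * s * g₀⁻¹) * (c : G)⁻¹ by group, h₀, h1,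
      mul_inv_cancel_right]
  · have hmem : f ⟨t, ⟨ht, mem_centralizer_singleton_iff.2 hts⟩⟩ ∈ (Q : Subgroup C) := hQ ⟨_, rfl⟩
    have h2 := Subgroup.smul_mem_pointwise_smul _ (MulAut.conj c) _ hmem
    have h3 : MulAut.conj c • f ⟨t, ⟨ht, mem_centralizer_singleton_iff.2 hts⟩⟩ ∈ (T.subtype hTC : Subgroup C) := by
      rw [← hc]; exact h2
    have h4 : (c : G) * (g₀ * t * g₀⁻¹) * (c : G)⁻¹ ∈ (T : Subgroup G) := h3
    rwa [show (c : G) * g₀ * t * ((c : G) * g₀)⁻¹ = c * (g₀ * t * g₀⁻¹) * (c : G)⁻¹ by group]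

/-- a four group with an outside involution commuting with it -/
def fourExt {V : Subgroup G} {r : G} (hr : r * r = 1) (hc : ∀ v ∈ V, v * r = r * v) : Subgroup G where
  carrier := {e | e ∈ V ∨ e * r ∈ V}
  one_mem' := Or.inl (one_mem _)
  mul_mem' := by
    rintro a b (ha | ha) (hb | hb)
    · exact Or.inl (mul_mem ha hb)
    · right; rw [mul_assoc]; exact mul_mem ha hb
    · right; rw [mul_assoc, hc b hb, ← mul_assoc]; exact mul_mem ha hb
    · left
      have e : r * (b * r) * (r * r) = r * b * r := by rw [hr, mul_one]; group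
      have e2 : b * r * r = b := by rw [mul_assoc, hr, mul_one]
      have e3 : r * b * r = b * r * r := by rw [mul_assoc, ← hc _ hb]
      have e4 : a * r * (b * r) = a * b := by
        calc a * r * (b * r) = a * (r * b * r) := by group
          _ = a * b := by rw [e3, e2]
      rw [← e4]; exact mul_mem ha hb
  inv_mem' := by
    rintro a (ha | ha)
    · exact Or.inl (inv_mem ha)
    · right
      have h1 := hc _ (inv_mem ha)
      rw [mul_inv_rev, inv_eq_of_mul_eq_one_right hr] at h1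
      have h2 : a⁻¹ * r = r * a⁻¹ := by
        calc a⁻¹ * r = r * r * a⁻¹ * r := by rw [hr, one_mul]
          _ = r * (r * a⁻¹ * r) := by group
          _ = r * (r * (r * a⁻¹)) := by rw [h1]
          _ = r * a⁻¹ := by rw [← mul_assoc r r, hr, one_mul]
      rw [h2]
      have h3 := inv_mem ha
      rwa [mul_inv_rev, inv_eq_of_mul_eq_one_right hr] at h3

/-- the inverted configuration does not occur -/
theorem inverted_false [IsSimpleGroup G] (hna : ¬ IsMulCommutative G) (T : Sylow 2 G)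
    {A₀ V₀ : Subgroup ↥T} {r₀ : ↥T} (hI : Inverted A₀ V₀ r₀) : False := by
  classical
  haveI : Fact (Nat.Prime 2) := ⟨Nat.prime_two⟩
  set T' : Subgroup G := (T : Subgroup G) with hT'
  set A : Subgroup G := A₀.map T'.subtype with hA
  set V : Subgroup G := V₀.map T'.subtype with hV
  set r : G := (r₀ : G) with hr
  have hAT : A ≤ T' := map_subtype_le _
  have hVA : V ≤ A := map_mono fun v hv => ((hI.v_iff v).1 hv).1
  have hrT : r ∈ T' := r₀.2
  have hr2 : r * r = 1 := congrArg Subtype.val hI.r_sq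
  have hrA : r ∉ A := by
    rintro ⟨a, ha, e⟩
    exact hI.r_not ((Subtype.ext e : a = r₀) ▸ ha)
  have hAc : ∀ x ∈ A, ∀ y ∈ A, x * y = y * x := by
    rintro _ ⟨x, hx, rfl⟩ _ ⟨y, hy, rfl⟩
    exact congrArg Subtype.val (hI.a_comm x hx y hy)
  have hcov : ∀ t ∈ T', t ∈ A ∨ t * r ∈ A := fun t ht => by
    rcases hI.cover ⟨t, ht⟩ with e | e
    · exact Or.inl ⟨_, e, rfl⟩
    · exact Or.inr ⟨_, e, rfl⟩
  have hVin : ∀ x ∈ A, x * x = 1 → x ∈ V := by
    rintro _ ⟨x, hx, rfl⟩ e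
    exact ⟨x, (hI.v_iff x).2 ⟨hx, Subtype.ext e⟩, rfl⟩
  have hV2 : ∀ v ∈ V, v * v = 1 := by
    rintro _ ⟨v, hv, rfl⟩
    exact congrArg Subtype.val ((hI.v_iff v).1 hv).2
  have hVc : ∀ v ∈ V, ∀ t ∈ T', t * v = v * t := by
    rintro _ ⟨v, hv, rfl⟩ t ht
    exact congrArg Subtype.val (mem_center_iff.1 (hI.cen hv) ⟨t, ht⟩)
  have hVcard : Nat.card V = 4 := (card_map_of_injective T'.subtype_injective).trans hI.card
  have hroot : ∀ v ∈ V, ∃ x ∈ A, x * x = v ∧ r * x * r⁻¹ = x⁻¹ := by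
    rintro _ ⟨v, hv, rfl⟩
    obtain ⟨x, hx, hx2, hxr⟩ := hI.root v hv
    exact ⟨x, ⟨x, hx, rfl⟩, congrArg Subtype.val hx2, congrArg Subtype.val hxr⟩
  have hfix : ∀ a ∈ A, r * a = a * r → a ∈ V := by
    rintro _ ⟨a, ha, rfl⟩ e
    exact hVin _ ⟨a, ha, rfl⟩ (congrArg Subtype.val (hI.fix a ha (Subtype.ext e)))
  have hidx : A.relIndex T' = 2 := by
    rw [relIndex, subgroupOf, hA, comap_map_eq_self_of_injective T'.subtype_injective, index_eq_two_iff]
    refine ⟨r₀, fun b => ?_⟩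
    rcases hI.cover b with e | e
    · exact Or.inr ⟨e, fun e' => hI.r_not (by
        have := mul_mem (inv_mem e) e'; rwa [inv_mul_cancel_left] at this)⟩
    · exact Or.inl ⟨e, fun e' => hI.r_not (by
        have := mul_mem (inv_mem e') e; rwa [inv_mul_cancel_left] at this)⟩
  have hr1 : r ≠ 1 := fun e => hrA (e ▸ one_mem _)
  -- transfer
  rcases Cfsg.Agent.S0111.result T A hAT hidx r
    (orderOf_eq_prime (by rw [pow_two, hr2]) hr1) hrT hrA with ⟨M, hMn, hM2, -⟩ | ⟨g₀, hg₀⟩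
  · exact Cfsg.Lib.CyclicNorm.no_index_two hna hMn hM2
  set z := g₀ * r * g₀⁻¹ with hz
  have hzV : z ∈ V := hVin z hg₀ (by
    rw [hz, show g₀ * r * g₀⁻¹ * (g₀ * r * g₀⁻¹) = g₀ * (r * r) * g₀⁻¹ by group, hr2]; group)
  obtain ⟨g, hgr, hgT⟩ := exists_conj_centralizer T (s := r) (z := z) (fun t ht => (hVc z hzV t ht).symm) rfl
  set E := fourExt hr2 (fun v hv => (hVc v hv r hrT).symm) with hEdef
  have memE : ∀ e, e ∈ E ↔ e ∈ V ∨ e * r ∈ V := fun e => Iff.rfl
  have hET : ∀ e ∈ E, e ∈ T' ∧ e * r = r * e ∧ e * e = 1 := by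
    intro e he
    rcases (memE e).1 he with h1 | h1
    · exact ⟨hAT (hVA h1), (hVc e h1 r hrT).symm, hV2 e h1⟩
    · have h2 := hVc _ h1 r hrT
      have e1 : e * r = r * e := by
        calc e * r = r * r * (e * r) := by rw [hr2, one_mul]
          _ = r * (r * (e * r)) := by group
          _ = r * (e * r * r) := by rw [h2]
          _ = r * e := by rw [mul_assoc e, hr2, mul_one]
      refine ⟨?_, e1, ?_⟩
      · have := mul_mem (hAT (hVA h1)) (inv_mem hrT)
        rwa [mul_inv_cancel_right] at this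
      · have h3 := hV2 _ h1
        rwa [(show Commute r e from e1.symm).mul_mul_mul_comm, hr2, mul_one] at h3
  have hEcomm : ∀ a ∈ E, ∀ b ∈ E, a * b = b * a := by
    intro a ha b hb
    have h1 := (hET _ (mul_mem ha hb)).2.2
    calc a * b = (a * b)⁻¹ := (inv_eq_of_mul_eq_one_right h1).symm
      _ = b * a := by rw [mul_inv_rev, inv_eq_of_mul_eq_one_right (hET a ha).2.2,
        inv_eq_of_mul_eq_one_right (hET b hb).2.2]
  have hVE : V ≤ E := fun v hv => Or.inl hv
  have hrE : r ∈ E := (memE r).2 (Or.inr (by rw [hr2]; exact one_mem _))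
  have hEcard : 8 ≤ Nat.card E := by
    have h1 := relIndex_mul_relIndex (⊥ : Subgroup G) V E bot_le hVE
    rw [relIndex_bot_left, relIndex_bot_left, hVcard] at h1
    have h2 : 2 ≤ V.relIndex E := by
      have h3 := card_le_relIndex (N := V) (K := E) ({1, r} : Finset G) (fun x hx => by
          simp only [Finset.mem_insert, Finset.mem_singleton] at hx
          rcases hx with rfl | rfl
          exacts [one_mem _, hrE])
        (fun x hx y hy hm => by
          simp only [Finset.mem_insert, Finset.mem_singleton] at hx hy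
          rcases hx with hx | hx <;> rcases hy with hy | hy <;> rw [hx, hy] at hm ⊢
          · exact absurd (hVA (by simpa using hm)) hrA
          · exact absurd (hVA (inv_mem_iff.1 (by simpa using hm))) hrA)
      rwa [Finset.card_pair hr1.symm] at h3
    omega
  -- conjugates of the elementary group inside the Sylow subgroup contain the four group
  have hcontain : ∀ k : G, (∀ e ∈ E, k * e * k⁻¹ ∈ T') → ∀ v ∈ V, k⁻¹ * v * k ∈ E := by
    intro k hk v hv
    set F := E.map (MulAut.conj k).toMonoidHom with hF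
    have hFT : F ≤ T' := by rintro _ ⟨e, he, rfl⟩; exact hk e he
    have hFcard : Nat.card F = Nat.card E := card_map_of_injective (MulAut.conj k).injective
    have hFAV : F ⊓ A ≤ V := by
      rintro _ ⟨⟨e, he, rfl⟩, hA'⟩
      refine hVin _ hA' ?_
      show (MulAut.conj k).toMonoidHom e * (MulAut.conj k).toMonoidHom e = 1
      rw [← map_mul, (hET e he).2.2, map_one]
    have hle : A.relIndex F ≤ 2 := hidx ▸ relIndex_le_of_le_right hFT (by rw [hidx]; norm_num)
    have h1 := relIndex_mul_relIndex (⊥ : Subgroup G) (F ⊓ A) F bot_le inf_le_left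
    rw [relIndex_bot_left, relIndex_bot_left, inf_relIndex_left, hFcard] at h1
    have h4 : 4 ≤ Nat.card (F ⊓ A : Subgroup G) := by
      by_contra hlt
      have : Nat.card (F ⊓ A : Subgroup G) * A.relIndex F ≤ 3 * 2 := Nat.mul_le_mul (by omega) hle
      omega
    have heq : F ⊓ A = V := Subgroup.eq_of_le_of_card_ge hFAV (by rw [hVcard]; exact h4)
    obtain ⟨e, he, e'⟩ := (heq.ge hv).1
    rw [← e']
    show k⁻¹ * (k * e * k⁻¹) * k ∈ E
    rwa [show k⁻¹ * (k * e * k⁻¹) * k = e by group]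
  have hgE : ∀ e ∈ E, g * e * g⁻¹ ∈ T' := fun e he => hgT e (hET e he).1 (hET e he).2.1
  -- a common element
  obtain ⟨l, hlV, hl1, hlg⟩ : ∃ l ∈ V, l ≠ 1 ∧ g * l * g⁻¹ ∈ V := by
    obtain ⟨v, hv, w, hw, hv1, hw1, hvw⟩ : ∃ v ∈ V, ∃ w ∈ V, v ≠ 1 ∧ w ≠ 1 ∧ v ≠ w := by
      by_contra hno
      push Not at hno
      by_cases hb : ∃ v ∈ V, v ≠ 1
      · obtain ⟨v, hv, hv1⟩ := hb
        have hle : (V : Set G) ⊆ {1, v} := fun w hw => by
          by_cases hw1 : w = 1
          · exact Or.inl hw1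
          · exact Or.inr (hno v hv w hw hv1 hw1).symm
        have := Set.ncard_le_ncard hle (Set.toFinite _)
        rw [← Nat.card_coe_set_eq, SetLike.coe_sort_coe, hVcard, Set.ncard_pair hv1.symm] at this
        omega
      · push Not at hb
        have h4 := hVcard
        rw [(eq_bot_iff_forall V).2 hb, Subgroup.card_bot] at h4
        omega
    have hback : ∀ u : G, g * (g⁻¹ * u * g) * g⁻¹ = u := fun u => by group
    by_cases ha : g⁻¹ * v * g ∈ V
    · exact ⟨_, ha, fun e => hv1 (by rw [← hback v, e]; group), by rwa [hback]⟩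
    by_cases hb : g⁻¹ * w * g ∈ V
    · exact ⟨_, hb, fun e => hw1 (by rw [← hback w, e]; group), by rwa [hback]⟩
    have ha' := ((memE _).1 (hcontain g hgE v hv)).resolve_left ha
    have hb' := ((memE _).1 (hcontain g hgE w hw)).resolve_left hb
    refine ⟨g⁻¹ * v * g * (g⁻¹ * w * g), ?_, fun e => hvw ?_, ?_⟩
    · have e1 : g⁻¹ * v * g * (g⁻¹ * w * g) = g⁻¹ * v * g * r * (g⁻¹ * w * g * r) := by
        rw [(show Commute r (g⁻¹ * w * g) from ((hET _ (hcontain g hgE w hw)).2.1).symm).mul_mul_mul_comm,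
          hr2, mul_one]
      rw [e1]
      exact mul_mem ha' hb'
    · rw [show g⁻¹ * v * g * (g⁻¹ * w * g) = g⁻¹ * (v * w) * g by group] at e
      have : v * w = 1 := by rw [← hback (v * w), e]; group
      rw [eq_inv_of_mul_eq_one_left this, inv_eq_of_mul_eq_one_right (hV2 w hw)]
    · rw [show g * (g⁻¹ * v * g * (g⁻¹ * w * g)) * g⁻¹ = v * w by group]; exact mul_mem hv hw
  have hl2 : l * l = 1 := hV2 l hlV
  -- the translations
  have htrans : ∀ x ∈ A, r * x * r⁻¹ = x⁻¹ → ∀ e ∈ T', e * e = 1 → e ∉ V → x * e * x⁻¹ = x * x * e := by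
    intro x hx hxr e he he2 heV
    have her : e * r ∈ A := (hcov e he).resolve_left fun h1 => heV (hVin e h1 he2)
    have h1 : r * x⁻¹ * r⁻¹ = x := by
      rw [show r * x⁻¹ * r⁻¹ = (r * x * r⁻¹)⁻¹ by group, hxr, inv_inv]
    have h1' : r * x⁻¹ * r = x := by
      have := h1; rwa [inv_eq_of_mul_eq_one_right hr2] at this
    have h2 : e = e * r * r := by rw [mul_assoc, hr2, mul_one]
    calc x * e * x⁻¹ = x * (e * r) * (r * x⁻¹) := by rw [mul_assoc x (e * r), ← mul_assoc (e * r), ← h2]; group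
      _ = x * (e * r) * (r * x⁻¹ * (r * r)) := by rw [hr2, mul_one]
      _ = x * (e * r) * (r * x⁻¹ * r) * r := by group
      _ = x * (e * r) * x * r := by rw [h1']
      _ = x * (x * (e * r)) * r := by rw [mul_assoc x (e * r) x, hAc _ her x hx]
      _ = x * x * (e * r * r) := by group
      _ = x * x * e := by rw [← h2]
  obtain ⟨x, hxA, hxl, hxr⟩ := hroot l hlV
  obtain ⟨x', hxA', hxl', hxr'⟩ := hroot _ hlg
  have hxV : ∀ e ∈ E, e ∈ V → x * e * x⁻¹ = e := fun e _ he => by rw [hVc e he x (hAT hxA), mul_inv_cancel_right]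
  have hxN : ∀ e ∈ E, e ∉ V → x * e * x⁻¹ = l * e := fun e he hne => by
    rw [htrans x hxA hxr e (hET e he).1 (hET e he).2.2 hne, hxl]
  set y := g⁻¹ * x' * g with hy
  have hyV : ∀ e ∈ E, g * e * g⁻¹ ∈ V → y * e * y⁻¹ = e := fun e _ he => by
    have := hVc _ he x' (hAT hxA')
    calc y * e * y⁻¹ = g⁻¹ * (x' * (g * e * g⁻¹)) * x'⁻¹ * g := by rw [hy]; group
      _ = g⁻¹ * ((g * e * g⁻¹) * x') * x'⁻¹ * g := by rw [this]
      _ = e := by group
  have hyN : ∀ e ∈ E, g * e * g⁻¹ ∉ V → y * e * y⁻¹ = l * e := fun e he hne => by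
    have := htrans x' hxA' hxr' _ (hgE e he) (by
      rw [show g * e * g⁻¹ * (g * e * g⁻¹) = g * (e * e) * g⁻¹ by group, (hET e he).2.2]; group) hne
    calc y * e * y⁻¹ = g⁻¹ * (x' * (g * e * g⁻¹) * x'⁻¹) * g := by rw [hy]; group
      _ = g⁻¹ * (g * l * g⁻¹ * (g * e * g⁻¹)) * g := by rw [this, hxl']
      _ = l * e := by group
  let M : Subgroup G :=
    { carrier := {m | m * l * m⁻¹ = l ∧ ∀ e ∈ E, m * e * m⁻¹ = e ∨ m * e * m⁻¹ = l * e}
      one_mem' := ⟨by group, fun e _ => Or.inl (by group)⟩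
      mul_mem' := by
        rintro m n ⟨hm, hm'⟩ ⟨hn, hn'⟩
        refine ⟨by rw [show m * n * l * (m * n)⁻¹ = m * (n * l * n⁻¹) * m⁻¹ by group, hn, hm], fun e he => ?_⟩
        rcases hn' e he with h1 | h1 <;>
          rw [show m * n * e * (m * n)⁻¹ = m * (n * e * n⁻¹) * m⁻¹ by group, h1]
        · exact hm' e he
        · rw [show m * (l * e) * m⁻¹ = m * l * m⁻¹ * (m * e * m⁻¹) by group, hm]
          rcases hm' e he with h2 | h2 <;> rw [h2]
          · exact Or.inr rfl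
          · left; rw [← mul_assoc, hl2, one_mul]
      inv_mem' := by
        rintro m ⟨hm, hm'⟩
        have hmi : m⁻¹ * l * m⁻¹⁻¹ = l := by
          calc m⁻¹ * l * m⁻¹⁻¹ = m⁻¹ * (m * l * m⁻¹) * m⁻¹⁻¹ := by rw [hm]
            _ = l := by group
        refine ⟨hmi, fun e he => ?_⟩
        rcases hm' e he with h2 | h2
        · left
          calc m⁻¹ * e * m⁻¹⁻¹ = m⁻¹ * (m * e * m⁻¹) * m⁻¹⁻¹ := by rw [h2]
            _ = e := by group
        · right
          calc m⁻¹ * e * m⁻¹⁻¹ = m⁻¹ * l * m⁻¹⁻¹ * (m⁻¹ * (l * e) * m⁻¹⁻¹) := by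
                rw [show m⁻¹ * l * m⁻¹⁻¹ * (m⁻¹ * (l * e) * m⁻¹⁻¹) = m⁻¹ * (l * l) * e * m⁻¹⁻¹ by group, hl2]
                group
            _ = l * (m⁻¹ * (m * e * m⁻¹) * m⁻¹⁻¹) := by rw [hmi, h2]
            _ = l * e := by group }
  have hlE : l ∈ E := hVE hlV
  have hxM : x ∈ M := ⟨by rw [hxV l hlE hlV], fun e he => by
    by_cases hv : e ∈ V
    exacts [Or.inl (hxV e he hv), Or.inr (hxN e he hv)]⟩
  have hyM : y ∈ M := ⟨by rw [hyV l hlE hlg], fun e he => by
    by_cases hv : g * e * g⁻¹ ∈ V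
    exacts [Or.inl (hyV e he hv), Or.inr (hyN e he hv)]⟩
  have hEM : E ≤ M := fun a ha => ⟨by rw [hEcomm a ha l hlE, mul_inv_cancel_right],
    fun e he => Or.inl (by rw [hEcomm a ha e he, mul_inv_cancel_right])⟩
  have hsq : ∀ m ∈ M, ∀ e ∈ E, m * m * e * (m * m)⁻¹ = e := by
    rintro m ⟨hm, hm'⟩ e he
    rw [show m * m * e * (m * m)⁻¹ = m * (m * e * m⁻¹) * m⁻¹ by group]
    rcases hm' e he with h2 | h2 <;> rw [h2]
    · exact h2
    · rw [show m * (l * e) * m⁻¹ = m * l * m⁻¹ * (m * e * m⁻¹) by group, hm, h2, ← mul_assoc, hl2, one_mul]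
  have hE2 : IsPGroup 2 (E.subgroupOf M) := (T.2.to_le fun e he => (hET e he).1).of_equiv
    (subgroupOfEquivOfLe hEM).symm
  obtain ⟨P, hEP⟩ := hE2.exists_le_sylow
  let C : Subgroup M :=
    { carrier := {m | ∀ e ∈ E, (m : G) * e * (m : G)⁻¹ = e}
      one_mem' := fun e _ => by simp
      mul_mem' := fun {a b} ha hb e he => by
        rw [show ((a * b : M) : G) = a * b from rfl,
          show (a : G) * b * e * ((a : G) * b)⁻¹ = a * ((b : G) * e * (b : G)⁻¹) * (a : G)⁻¹ by group, hb e he, ha e he]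
      inv_mem' := fun {a} ha e he => by
        calc ((a⁻¹ : M) : G) * e * ((a⁻¹ : M) : G)⁻¹
            = (a : G)⁻¹ * ((a : G) * e * (a : G)⁻¹) * (a : G)⁻¹⁻¹ := by rw [ha e he]; rfl
          _ = e := by group }
  haveI hCn : C.Normal := ⟨fun c hc m e he => by
    have hm' := m.2.2 e he
    rw [show ((m * c * m⁻¹ : M) : G) = (m : G) * c * (m : G)⁻¹ from rfl]
    have he' : (m : G)⁻¹ * e * (m : G) ∈ E := by
      rcases (inv_mem m.2 : (m : G)⁻¹ ∈ M).2 e he with h2 | h2 <;> rw [inv_inv] at h2 <;> rw [h2]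
      exacts [he, mul_mem hlE he]
    calc (m : G) * c * (m : G)⁻¹ * e * ((m : G) * c * (m : G)⁻¹)⁻¹
        = (m : G) * ((c : G) * ((m : G)⁻¹ * e * (m : G)) * (c : G)⁻¹) * (m : G)⁻¹ := by group
      _ = e := by rw [hc _ he']; group⟩
  have hquot : IsPGroup 2 (M ⧸ C) := fun q => by
    obtain ⟨m, rfl⟩ := QuotientGroup.mk_surjective q
    refine ⟨1, ?_⟩
    rw [pow_one, pow_two, ← QuotientGroup.mk_mul]
    exact (QuotientGroup.eq_one_iff _).2 fun e he => hsq m m.2 e he
  have hlift : ∀ m : M, ∃ p ∈ (P : Subgroup M), ∀ e ∈ E, (p : G) * e * (p : G)⁻¹ = (m : G) * e * (m : G)⁻¹ := by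
    intro m
    have htop : ((P.mapSurjective (QuotientGroup.mk'_surjective C) : Sylow 2 (M ⧸ C)) : Subgroup (M ⧸ C)) = ⊤ := by
      exact (Sylow.is_maximal' _ (hquot.to_subgroup ⊤) le_top).symm
    have hm : QuotientGroup.mk' C m ∈ (P : Subgroup M).map (QuotientGroup.mk' C) := by
      rw [Sylow.coe_mapSurjective] at htop
      rw [htop]; exact mem_top _
    obtain ⟨p, hp, hpm⟩ := hm
    refine ⟨p, hp, fun e he => ?_⟩
    have hc : m⁻¹ * p ∈ C := QuotientGroup.eq.1 hpm.symm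
    have h2 := hc e he
    rw [show ((m⁻¹ * p : M) : G) = (m : G)⁻¹ * p from rfl] at h2
    calc (p : G) * e * (p : G)⁻¹ = (m : G) * ((m : G)⁻¹ * p * e * ((m : G)⁻¹ * p)⁻¹) * (m : G)⁻¹ := by group
      _ = _ := by rw [h2]
  -- put the Sylow subgroup of M into a conjugate of T
  have hP2 : IsPGroup 2 ((P : Subgroup M).map M.subtype) := P.2.map M.subtype
  obtain ⟨Q, hQ⟩ := hP2.exists_le_sylow
  obtain ⟨k, hk⟩ := MulAction.exists_smul_eq G Q T
  have hkP : ∀ p ∈ (P : Subgroup M), k * (p : G) * k⁻¹ ∈ T' := fun p hp => by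
    rw [hT', ← hk]
    exact Subgroup.smul_mem_pointwise_smul (p : G) (MulAut.conj k) _ (hQ ⟨p, hp, rfl⟩)
  have hkE : ∀ e ∈ E, k * e * k⁻¹ ∈ T' := fun e he => hkP ⟨e, hEM he⟩ (hEP he)
  have hcent : ∀ v ∈ V, ∀ p ∈ (P : Subgroup M), (p : G) * (k⁻¹ * v * k) * (p : G)⁻¹ = k⁻¹ * v * k := by
    intro v hv p hp
    have := hVc v hv _ (hkP p hp)
    calc (p : G) * (k⁻¹ * v * k) * (p : G)⁻¹
        = k⁻¹ * (k * p * k⁻¹ * v) * (k * p * k⁻¹)⁻¹ * k := by group
      _ = k⁻¹ * v * k := by rw [this]; group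
  obtain ⟨px, hpx, hpx'⟩ := hlift ⟨x, hxM⟩
  obtain ⟨py, hpy, hpy'⟩ := hlift ⟨y, hyM⟩
  have hboth : ∀ v ∈ V, k⁻¹ * v * k ∈ V ∧ g * (k⁻¹ * v * k) * g⁻¹ ∈ V := by
    intro v hv
    have he := hcontain k hkE v hv
    constructor
    · by_contra hne
      have := hpx' _ he
      rw [hcent v hv px hpx, hxN _ he hne] at this
      exact hl1 (right_eq_mul.1 this)
    · by_contra hne
      have := hpy' _ he
      rw [hcent v hv py hpy, hyN _ he hne] at this
      exact hl1 (right_eq_mul.1 this)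
  -- so the four group is preserved by g
  have hsub : V.map (MulAut.conj k⁻¹).toMonoidHom = V := by
    refine Subgroup.eq_of_le_of_card_ge ?_ (card_map_of_injective (MulAut.conj k⁻¹).injective).ge
    rintro _ ⟨v, hv, rfl⟩
    simpa [MulAut.conj_apply] using (hboth v hv).1
  have hgV : V.map (MulAut.conj g).toMonoidHom = V := by
    refine Subgroup.eq_of_le_of_card_ge ?_ (card_map_of_injective (MulAut.conj g).injective).ge
    rintro _ ⟨w, hw, rfl⟩
    obtain ⟨v, hv, e⟩ := hsub.ge hw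
    have := (hboth v hv).2
    rw [← e]
    simpa [MulAut.conj_apply] using this
  obtain ⟨v, hv, e⟩ := hgV.ge hzV
  have e' : g * v * g⁻¹ = g * r * g⁻¹ := by rw [hgr]; exact e
  exact hrA (hVA ((mul_left_cancel (mul_right_cancel e')) ▸ hv))

/-- an abelian Sylow subgroup of rank two in a simple group has order four -/
theorem abelian_four [IsSimpleGroup G] (hna : ¬ IsMulCommutative G) (T : Sylow 2 G)
    (hab : ∀ a b : ↥T, a * b = b * a) (h2 : Cfsg.PRankLE 2 2 ↥T) : Nat.card ↥T = 4 := by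
  have hab' : ∀ x ∈ (T : Subgroup G), ∀ y ∈ (T : Subgroup G), x * y = y * x := fun x hx y hy =>
    congrArg Subtype.val (hab ⟨x, hx⟩ ⟨y, hy⟩)
  rcases Cfsg.Lib.BenderSE.AbSyl.homocyclic_or_solvable T hab' h2 with hs | ⟨m, hm, ⟨e⟩⟩
  · exact absurd ⟨⟨fun a b => by
      haveI := hs
      exact IsSimpleGroup.comm_iff_isSolvable.2 inferInstance a b⟩⟩ hna
  · by_cases hm2 : 2 ≤ m
    · exfalso
      have hO : ∀ N : Subgroup G, N.Normal → Odd (Nat.card N) → N = ⊥ := fun N hN hodd =>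
        hN.eq_bot_or_eq_top.resolve_right fun h => by
          subst h
          have hd : Nat.card (T : Subgroup G) ∣ Nat.card (⊤ : Subgroup G) := card_dvd_of_le le_top
          have h2' : 2 ∣ Nat.card (T : Subgroup G) := by
            rw [Nat.card_congr e.toEquiv, Nat.card_congr Multiplicative.toAdd, Nat.card_prod, Nat.card_zmod]
            exact dvd_mul_of_dvd_left (dvd_pow_self 2 (by omega)) _
          exact Nat.not_even_iff_odd.2 hodd (even_iff_two_dvd.2 (h2'.trans hd))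
      obtain ⟨hn, -, -⟩ := Cfsg.Agent.S0949.result T m hm2 e hO
      rcases hn.eq_bot_or_eq_top with h | h
      · have h3 : Nat.card (T : Subgroup G) = 1 := by rw [h, Subgroup.card_bot]
        rw [Nat.card_congr e.toEquiv, Nat.card_congr Multiplicative.toAdd, Nat.card_prod, Nat.card_zmod] at h3
        have : 4 ≤ 2 ^ m := le_trans (by norm_num) (Nat.pow_le_pow_right (by norm_num) hm2 : 2 ^ 2 ≤ 2 ^ m)
        nlinarith
      · exact hna ⟨⟨fun a b => hab' a (h ▸ mem_top a) b (h ▸ mem_top b)⟩⟩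
    · obtain rfl : m = 1 := by omega
      rw [show Nat.card ↥T = Nat.card (Multiplicative (ZMod (2 ^ 1) × ZMod (2 ^ 1))) from Nat.card_congr e.toEquiv,
        Nat.card_congr Multiplicative.toAdd, Nat.card_prod, Nat.card_zmod]
      norm_num

end Cfsg.Lib.NormalRankTwo
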