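import Cfsg.Agent.NormalRankTwo.QuatPart
import Cfsg.Agent.NormalRankTwo.InvertedKill
import Cfsg.Agent.InvolCalc.ZStarApps
import Cfsg.Agent.Transfer.Fusion

/-!
A simple group has no quaternion configuration in a Sylow subgroup.
-/

set_option autoImplicit false
set_option linter.unusedSectionVars false
set_option linter.style.haveILetI false

namespace Cfsg.Lib.NormalRankTwo

open Subgroup

variable {G : Type*} [Group G] [Finite G]

/-- an automorphism of a Sylow subgroup from its normaliser -/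
def normAut (T : Sylow 2 G) {n : G} (hn : n ∈ normalizer ((T : Subgroup G) : Set G)) : MulAut ↥T where
  toFun t := ⟨n * (t : G) * n⁻¹, (Subgroup.mem_normalizer_iff.1 hn (t : G)).1 t.2⟩
  invFun t := ⟨n⁻¹ * (t : G) * n, by
    have h1 := (Subgroup.mem_normalizer_iff.1 (inv_mem hn) (t : G)).1 t.2
    rwa [inv_inv] at h1⟩
  left_inv t := Subtype.ext (show n⁻¹ * (n * (t : G) * n⁻¹) * n = (t : G) by group)
  right_inv t := Subtype.ext (show n * (n⁻¹ * (t : G) * n) * n⁻¹ = (t : G) by group)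
  map_mul' a b := Subtype.ext (show n * ((a : G) * b) * n⁻¹ = n * a * n⁻¹ * (n * b * n⁻¹) by group)

theorem normAut_coe (T : Sylow 2 G) {n : G} (hn : n ∈ normalizer ((T : Subgroup G) : Set G)) (t : ↥T) :
    ((normAut T hn t : ↥T) : G) = n * (t : G) * n⁻¹ := rfl

/-- the quaternion configuration does not occur -/
theorem quat_false [IsSimpleGroup G] (hna : ¬ IsMulCommutative G) (T : Sylow 2 G) {φ : MulAut ↥T}
    (h : Ctx ↥T φ) (hq : Quat φ) : False := by
  classical
  haveI : Fact (Nat.Prime 2) := ⟨Nat.prime_two⟩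
  obtain ⟨z₀, hQ⟩ := hq.qpart h
  have hs : FewInvol ↥T := h.small
  set T' : Subgroup G := (T : Subgroup G) with hT'
  set z : G := (z₀ : G) with hzdef
  have hzT : z ∈ T' := z₀.2
  have hz2 : z * z = 1 := congrArg Subtype.val hQ.z_sq
  have hz1 : z ≠ 1 := fun e => hQ.z_ne (Subtype.ext e)
  have hzc : ∀ t ∈ T', z * t = t * z := fun t ht =>
    (congrArg Subtype.val (mem_center_iff.1 hQ.zc ⟨t, ht⟩)).symm
  have hzo : orderOf z = 2 := orderOf_eq_prime (by rw [pow_two, hz2]) hz1
  -- Glauberman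
  have hncen : Subgroup.center G ≠ ⊤ := fun e => hna ⟨⟨fun a b =>
    Subgroup.mem_center_iff.1 (e ▸ Subgroup.mem_top b) a⟩⟩
  obtain ⟨g₁, hg₁c, hg₁ne⟩ : ∃ g : G, Commute z (g * z * g⁻¹) ∧ g * z * g⁻¹ ≠ z := by
    by_contra hno
    push Not at hno
    have hiso : Cfsg.IsIsolatedInvolution z := ⟨hzo, hno⟩
    have heven : ¬ Odd (Nat.card (⊤ : Subgroup G)) := by
      rw [Subgroup.card_top, Nat.not_odd_iff_even, even_iff_two_dvd, ← hzo]
      exact orderOf_dvd_natCard z
    have hbot : Cfsg.pPrimeCore 2 G = ⊥ :=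
      (IsSimpleGroup.eq_bot_or_eq_top_of_normal (Cfsg.pPrimeCore 2 G) inferInstance).resolve_right fun e =>
        heven (e ▸ Cfsg.Lib.ZStarApps.odd_card_pPrimeCore (G := G))
    have hc : z ∈ Subgroup.center G := Subgroup.mem_center_iff.mpr fun g => by
      have h := Cfsg.Lib.ZStarApps.zstarProp hiso g
      rw [hbot, Subgroup.mem_bot, mul_inv_eq_one, mul_inv_eq_iff_eq_mul] at h
      exact h.symm
    rcases (inferInstance : (Subgroup.center G).Normal).eq_bot_or_eq_top with e | e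
    · rw [e, Subgroup.mem_bot] at hc; exact hz1 hc
    · exact hncen e
  -- move the conjugate into the Sylow subgroup
  obtain ⟨t, g₂, ht, htz, hgt⟩ : ∃ t g : G, t ∈ T' ∧ t ≠ z ∧ g * z * g⁻¹ = t := by
    set C := centralizer ({z} : Set G) with hC
    have hTC : T' ≤ C := fun t ht => mem_centralizer_singleton_iff.2 (hzc t ht).symm
    have hm : g₁ * z * g₁⁻¹ ∈ C := mem_centralizer_singleton_iff.2 hg₁c.eq.symm
    have h2 : IsPGroup 2 (zpowers (⟨_, hm⟩ : C)) := by
      refine IsPGroup.of_card (n := 1) ?_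
      rw [Nat.card_zpowers, ← orderOf_coe, pow_one]
      show orderOf (g₁ * z * g₁⁻¹) = 2
      rw [← MulAut.conj_apply, MulEquiv.orderOf_eq, hzo]
    obtain ⟨P, hP⟩ := h2.exists_le_sylow
    obtain ⟨c, hc⟩ := MulAction.exists_smul_eq C P (T.subtype hTC)
    have h3 := Subgroup.smul_mem_pointwise_smul _ (MulAut.conj c) _ (hP (mem_zpowers _))
    have h4 : MulAut.conj c • (⟨_, hm⟩ : C) ∈ (T.subtype hTC : Subgroup C) := by rw [← hc]; exact h3
    have h5 : (c : G) * (g₁ * z * g₁⁻¹) * (c : G)⁻¹ ∈ T' := h4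
    refine ⟨_, (c : G) * g₁, h5, fun e => hg₁ne ?_, by group⟩
    have hcz := mem_centralizer_singleton_iff.1 c.2
    calc g₁ * z * g₁⁻¹ = (c : G)⁻¹ * ((c : G) * (g₁ * z * g₁⁻¹) * (c : G)⁻¹) * c := by group
      _ = (c : G)⁻¹ * z * c := by rw [e]
      _ = (c : G)⁻¹ * ((c : G) * z) := by rw [mul_assoc, ← hcz]
      _ = z := inv_mul_cancel_left _ _
  obtain ⟨g, hgtz, hgT⟩ := exists_conj_centralizer T (s := t) (z := z) (g₀ := g₂⁻¹) hzc (by rw [← hgt]; group)
  obtain ⟨s₀, hs2, hst⟩ := hQ.exists_root_comm ⟨t, ht⟩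
  have hsT : g * (s₀ : G) * g⁻¹ ∈ T' := hgT _ s₀.2 (congrArg Subtype.val hst)
  have hzs : z = (s₀ : G) * s₀ := (congrArg Subtype.val hs2).symm
  set u := g * z * g⁻¹ with hu
  have husq : u = g * (s₀ : G) * g⁻¹ * (g * (s₀ : G) * g⁻¹) := by rw [hu, hzs]; group
  have huT : u ∈ T' := husq ▸ mul_mem hsT hsT
  have huz : u ≠ z := fun e => htz (by
    have e' : g * z * g⁻¹ = g * t * g⁻¹ := by rw [hgtz]; exact e
    exact (mul_left_cancel (mul_right_cancel e')).symm)
  have huc : ∀ x ∈ T', u * x = x * u := by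
    intro x hx
    have h4 : (⟨_, hsT⟩ : ↥T) * ⟨_, hsT⟩ * ((⟨_, hsT⟩ : ↥T) * ⟨_, hsT⟩) = 1 := by
      refine Subtype.ext ?_
      show g * (s₀ : G) * g⁻¹ * (g * (s₀ : G) * g⁻¹) * (g * (s₀ : G) * g⁻¹ * (g * (s₀ : G) * g⁻¹)) = 1
      rw [← husq, hu, show g * z * g⁻¹ * (g * z * g⁻¹) = g * (z * z) * g⁻¹ by group, hz2]; group
    have hc : (⟨x, hx⟩ : ↥T) * (⟨_, hsT⟩ * ⟨_, hsT⟩) = ⟨_, hsT⟩ * ⟨_, hsT⟩ * ⟨x, hx⟩ :=
      mem_center_iff.1 (hQ.sigma h.two hs h4) _
    have hc' : x * (g * (s₀ : G) * g⁻¹ * (g * (s₀ : G) * g⁻¹)) =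
        g * (s₀ : G) * g⁻¹ * (g * (s₀ : G) * g⁻¹) * x := congrArg Subtype.val hc
    rw [← husq] at hc'
    exact hc'.symm
  -- fusion in the normaliser
  have hnorm : ∀ x : G, (∀ y ∈ T', x * y = y * x) → T' ≤ normalizer ({x} : Set G) := fun x hx y hy => by
    rw [Subgroup.mem_set_normalizer_iff]
    intro w
    rw [Set.mem_singleton_iff, Set.mem_singleton_iff]
    constructor
    · rintro rfl
      rw [← hx y hy, mul_inv_cancel_right]
    · intro e
      calc w = y⁻¹ * (y * w * y⁻¹) * y := by group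
        _ = x := by rw [e, mul_assoc, hx y hy, inv_mul_cancel_left]
  obtain ⟨n, hn, hnz⟩ := Cfsg.Lib.Transfer.burnside_fusion_set T {z} {u} (hnorm z hzc) (hnorm u huc) g
    (by rw [Set.image_singleton, hu])
  have hnz' : n * z * n⁻¹ = u := by simpa using hnz
  -- a third conjugate
  by_cases h3 : ∀ m ∈ normalizer (T' : Set G), m * z * m⁻¹ = z ∨ m * z * m⁻¹ = u
  · set N := normalizer (T' : Set G) with hN
    set H := N ⊓ centralizer ({z} : Set G) with hH
    have hTH : T' ≤ H := fun x hx => mem_inf.2 ⟨Subgroup.le_normalizer hx,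
      mem_centralizer_singleton_iff.2 (hzc x hx).symm⟩
    have hnH : n ∉ H := fun hc => huz (by
      rw [← hnz', mem_centralizer_singleton_iff.1 (mem_inf.1 hc).2, mul_inv_cancel_right])
    have h2 : H.relIndex N = 2 := by
      refine le_antisymm ?_ ?_
      · by_contra hlt
        obtain ⟨m, hm, hmo⟩ := exists_out (N := H) (K := N) {1, n}
          (lt_of_le_of_lt Finset.card_le_two (by omega))
        have m1 : m ∉ H := by simpa using hmo 1 (by simp)
        rcases h3 m hm with e | e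
        · exact m1 (mem_inf.2 ⟨hm, mem_centralizer_singleton_iff.2 (by
            calc m * z = m * z * m⁻¹ * m := by group
              _ = z * m := by rw [e])⟩)
        · refine hmo n (by simp) (mem_inf.2 ⟨mul_mem (inv_mem hn) hm, mem_centralizer_singleton_iff.2 ?_⟩)
          calc n⁻¹ * m * z = n⁻¹ * (m * z * m⁻¹) * m := by group
            _ = n⁻¹ * (n * z * n⁻¹) * m := by rw [e, hnz']
            _ = z * (n⁻¹ * m) := by group
      · have := card_le_relIndex (N := H) (K := N) ({1, n} : Finset G) (fun x hx => by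
            simp only [Finset.mem_insert, Finset.mem_singleton] at hx
            rcases hx with rfl | rfl
            exacts [one_mem _, hn])
          (fun x hx y hy hm => by
            simp only [Finset.mem_insert, Finset.mem_singleton] at hx hy
            rcases hx with e | e <;> rcases hy with e' | e' <;> rw [e, e'] at hm ⊢
            · exact absurd (by simpa using hm) hnH
            · exact absurd (inv_mem_iff.1 (by simpa using hm)) hnH)
        rwa [Finset.card_pair (fun e => hnH (e ▸ one_mem _) : (1 : G) ≠ n)] at this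
    have h4 := relIndex_mul_index (Subgroup.le_normalizer (H := T'))
    have h5 := relIndex_mul_relIndex T' H N hTH inf_le_left
    rw [h2] at h5
    exact T.not_dvd_index ⟨T'.relIndex H * N.index, by rw [← h4, ← h5]; ring⟩
  push Not at h3
  obtain ⟨m, hm, hmz, hmu⟩ := h3
  refine hQ.three hs (normAut T hn) (normAut T hm) (fun e => huz ?_) (fun e => hmz (congrArg Subtype.val e))
    (fun e => hmu ?_)
  · have h1 : n * z * n⁻¹ = z := congrArg Subtype.val e
    rwa [hnz'] at h1
  · have h1 : m * z * m⁻¹ = n * z * n⁻¹ := congrArg Subtype.val e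
    rwa [hnz'] at h1

end Cfsg.Lib.NormalRankTwo
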