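import Cfsg.Agent.S0516
import Cfsg.Agent.S1248
import Cfsg.Agent.PGroups.AutTwoGroup
import Cfsg.Agent.Fusion.CyclicIndexTwoAut
import Cfsg.Agent.Wreathed.Model

/-!
A Sylow 2-subgroup of rank two with an automorphism of odd prime order has order four or sixty-four.
-/

set_option autoImplicit false
set_option linter.unusedSectionVars false
set_option linter.style.haveILetI false

namespace Cfsg.Lib.NormalRankTwo

open Subgroup

variable {G : Type*} [Group G] [Finite G]

/-- the rank of the group is that of a Sylow subgroup -/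
theorem rank_le_of_sylow (T : Sylow 2 G) (h : Cfsg.PRankLE 2 2 ↥T) : Cfsg.PRankLE 2 2 G := by
  haveI : Fact (Nat.Prime 2) := ⟨Nat.prime_two⟩
  intro A hA hexp
  have hA2 : IsPGroup 2 A := fun a => ⟨1, by rw [pow_one]; exact Subtype.ext (hexp a a.2)⟩
  obtain ⟨Q, hAQ⟩ := hA2.exists_le_sylow
  obtain ⟨g, hg⟩ := MulAction.exists_smul_eq G Q T
  have hm : ∀ a ∈ A, g * a * g⁻¹ ∈ (T : Subgroup G) := fun a ha => by
    rw [← hg]
    exact Subgroup.smul_mem_pointwise_smul a (MulAut.conj g) _ (hAQ ha)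
  let f : A →* ↥T := MonoidHom.mk' (fun a => ⟨g * (a : G) * g⁻¹, hm a a.2⟩) fun a b => Subtype.ext (by
    show g * ((a : G) * b) * g⁻¹ = g * a * g⁻¹ * (g * b * g⁻¹); group)
  have hinj : Function.Injective f := fun a b e => Subtype.ext (by
    have e' : g * (a : G) * g⁻¹ = g * b * g⁻¹ := congrArg Subtype.val e
    simpa using e')
  have h1 := h f.range ⟨⟨by
    rintro ⟨_, a, rfl⟩ ⟨_, b, rfl⟩
    refine Subtype.ext (show f a * f b = f b * f a from ?_)
    rw [← map_mul, ← map_mul]
    exact congrArg f (hA.is_comm.comm a b)⟩⟩ (by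
    rintro _ ⟨a, rfl⟩
    rw [← map_pow, show a ^ 2 = 1 from Subtype.ext (hexp a a.2), map_one])
  rwa [← Nat.card_congr (MonoidHom.ofInjective hinj).toEquiv] at h1

/-- rank two -/
theorem rank_two [IsSimpleGroup G] (hna : ¬ IsMulCommutative G) (T : Sylow 2 G) (hT : Cfsg.PRankLE 2 2 ↥T)
    (φ : MulAut ↥T) (hp : (orderOf φ).Prime) (h2 : orderOf φ ≠ 2) : Nat.card ↥T = 4 ∨ Nat.card ↥T = 64 := by
  haveI : Fact (Nat.Prime 2) := ⟨Nat.prime_two⟩
  have hnot : ∀ {Q : Type} [Group Q], ((T : Subgroup G) ≃* Q) → IsPGroup 2 (MulAut Q) → False := by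
    intro Q _ e hA
    obtain ⟨k, hk⟩ := IsPGroup.iff_orderOf.1 (hA.of_equiv (MulAut.congr e.symm)) φ
    rw [hk] at hp h2
    exact h2 (by rw [Nat.Prime.eq_one_of_pow hp, pow_one])
  letI : Fintype (GaloisField 2 4) := Fintype.ofFinite _
  have hF : Fintype.card (GaloisField 2 4) = 16 := by
    rw [← Nat.card_eq_fintype_card, GaloisField.card 2 4 (by norm_num)]; norm_num
  obtain ⟨P⟩ : Nonempty (Sylow 2 (Cfsg.PSU 3 (GaloisField 2 4) 4)) := inferInstance
  rcases Cfsg.Agent.S0516.result hna (rank_le_of_sylow T hT) T hF P with ⟨n, hn, ⟨e⟩⟩ | hQ | hW | ⟨⟨e⟩⟩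
  · haveI : NeZero n := ⟨by omega⟩
    have hc : Nat.card ↥T = 2 * n := (Nat.card_congr e.toEquiv).trans DihedralGroup.nat_card
    obtain ⟨k, hk⟩ := IsPGroup.iff_card.1 (T.2 : IsPGroup 2 ↥T)
    rw [show Nat.card ↥(T : Subgroup G) = 2 * n from hc] at hk
    rcases k with _ | _ | _ | k
    · omega
    · omega
    · left; rw [hc, hk]; norm_num
    exfalso
    have hn' : n = 2 ^ (k + 1 + 1) := by
      rw [pow_succ'] at hk; exact Nat.eq_of_mul_eq_mul_left two_pos hk
    subst hn'
    rcases k with _ | k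
    · refine hnot e (Cfsg.Lib.MetaTwo.isPGroup_mulAut_of_char
        (IsPGroup.of_card (n := 3) (by rw [DihedralGroup.nat_card]; norm_num)) (fun hcyc => ?_)
        (DihedralGroup.r 1) (DihedralGroup.sr 0) ?_ (zpowers (DihedralGroup.r 1)) ?_ fun f q hq => ?_)
      · letI : CommGroup (DihedralGroup (2 ^ (0 + 1 + 1))) := hcyc.commGroup
        have hh := mul_comm (DihedralGroup.r (1 : ZMod (2 ^ (0 + 1 + 1)))) (DihedralGroup.sr 0)
        simp only [DihedralGroup.r_mul_sr, DihedralGroup.sr_mul_r, DihedralGroup.sr.injEq] at hh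
        exact absurd hh (by decide)
      · refine (eq_top_iff' _).2 fun q => ?_
        have hr : ∀ i : ZMod (2 ^ (0 + 1 + 1)), DihedralGroup.r i ∈
            closure ({DihedralGroup.r 1, DihedralGroup.sr 0} : Set (DihedralGroup (2 ^ (0 + 1 + 1)))) := fun i => by
          have e1 := pow_mem (subset_closure (Set.mem_insert _ _) : DihedralGroup.r (1 : ZMod (2 ^ (0 + 1 + 1))) ∈
            closure ({DihedralGroup.r 1, DihedralGroup.sr 0} : Set (DihedralGroup (2 ^ (0 + 1 + 1))))) i.val
          simpa [DihedralGroup.r_one_pow] using e1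
        rcases q with i | i
        · exact hr i
        · have := mul_mem (subset_closure (Set.mem_insert_of_mem _ rfl) : DihedralGroup.sr 0 ∈
            closure ({DihedralGroup.r 1, DihedralGroup.sr 0} : Set (DihedralGroup (2 ^ (0 + 1 + 1))))) (hr i)
          simpa using this
      · have h := (zpowers (DihedralGroup.r (1 : ZMod (2 ^ (0 + 1 + 1))))).card_mul_index
        rw [Nat.card_zpowers, DihedralGroup.orderOf_r_one, DihedralGroup.nat_card] at h
        norm_num at h ⊢
        omega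
      · obtain ⟨i, rfl⟩ := hq
        have hfr : f (DihedralGroup.r 1) ∈ zpowers (DihedralGroup.r (1 : ZMod (2 ^ (0 + 1 + 1)))) := by
          rcases hv : f (DihedralGroup.r 1) with j | j
          · refine ⟨(j.val : ℤ), ?_⟩
            simp [DihedralGroup.r_one_pow]
          · exfalso
            have ho := MulEquiv.orderOf_eq f (DihedralGroup.r (1 : ZMod (2 ^ (0 + 1 + 1))))
            rw [hv, DihedralGroup.orderOf_sr, DihedralGroup.orderOf_r_one] at ho
            norm_num at ho
        show f (DihedralGroup.r 1 ^ i) ∈ _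
        rw [map_zpow]
        exact zpow_mem hfr i
    · exact hnot e (Cfsg.Lib.Fusion.isPGroup_mulAut_dihedral (by omega))
  · exfalso
    obtain ⟨k, hk⟩ := IsPGroup.iff_orderOf.1 (Cfsg.Lib.MetaTwo.isPGroup_mulAut_quasiDihedral hQ) φ
    rw [hk] at hp h2
    exact h2 (by rw [Nat.Prime.eq_one_of_pow hp, pow_one])
  · exfalso
    obtain ⟨n, hn, -, ⟨e⟩⟩ := Cfsg.Lib.Wreathed.exists_equiv hW
    exact hnot e.symm (Cfsg.Lib.MetaTwo.isPGroup_mulAut_wr hn)
  · right
    exact (Nat.card_congr e.toEquiv).trans (Cfsg.Agent.S1248.result hF P).1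

end Cfsg.Lib.NormalRankTwo
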