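import Cfsg.Agent.NormalRankTwo.SpecialFinal
import Cfsg.Agent.NormalRankTwo.QuatKill
import Cfsg.Agent.NormalRankTwo.RankTwo

/-!
The order of a Sylow 2-subgroup of normal rank two with an extra automorphism from its normaliser.
-/

set_option autoImplicit false
set_option linter.unusedSectionVars false
set_option linter.style.haveILetI false

namespace Cfsg.Lib.NormalRankTwo

open Subgroup

/-- two-generated abelian groups have at most four elements of order at most two -/
theorem two_gen_small {T : Type*} [Group T] [Finite T] {A : Subgroup T} (hc : ∀ x ∈ A, ∀ y ∈ A, x * y = y * x)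
    {a b : T} (hab : closure {a, b} = A) : {x : T | x ∈ A ∧ x * x = 1}.ncard ≤ 4 := by
  classical
  have ha : a ∈ A := hab ▸ subset_closure (Set.mem_insert _ _)
  have hb : b ∈ A := hab ▸ subset_closure (Set.mem_insert_of_mem _ rfl)
  set SQ := sqs A hc with hSQ
  have hSA : SQ ≤ A := by rintro _ ⟨d, hd, rfl⟩; exact mul_mem hd hd
  let R : Subgroup T :=
    { carrier := {x | x ∈ A ∧ (x ∈ SQ ∨ a⁻¹ * x ∈ SQ ∨ b⁻¹ * x ∈ SQ ∨ (a * b)⁻¹ * x ∈ SQ)}
      one_mem' := ⟨one_mem _, Or.inl (one_mem _)⟩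
      mul_mem' := by
        rintro x y ⟨hx, hx'⟩ ⟨hy, hy'⟩
        refine ⟨mul_mem hx hy, ?_⟩
        have sq : ∀ {d : T}, d ∈ A → d * d ∈ SQ := fun hd => ⟨_, hd, rfl⟩
        have comb : ∀ {p q r : T}, p ∈ A → q ∈ A → p⁻¹ * x ∈ SQ → q⁻¹ * y ∈ SQ → r⁻¹ * (p * q) ∈ SQ →
            r⁻¹ * (x * y) ∈ SQ := by
          intro p q r hp hq h1 h2 h3
          have e : r⁻¹ * (x * y) = r⁻¹ * (p * q) * ((p⁻¹ * x) * (q⁻¹ * y)) := by
            rw [(show Commute x q⁻¹ from hc x hx _ (inv_mem hq)).mul_mul_mul_comm, mul_assoc r⁻¹,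
              ← mul_assoc (p * q), show p * q * (p⁻¹ * q⁻¹) = 1 by
                rw [(show Commute q p⁻¹ from hc q hq _ (inv_mem hp)).mul_mul_mul_comm, mul_inv_cancel,
                  mul_inv_cancel, one_mul], one_mul]
          rw [e]
          exact mul_mem h3 (mul_mem h1 h2)
        have h1' : ∀ {p : T}, p ∈ SQ → (1 : T)⁻¹ * p ∈ SQ := fun hp => by rwa [inv_one, one_mul]
        have h1'' : ∀ {p : T}, (1 : T)⁻¹ * p ∈ SQ → p ∈ SQ := fun hp => by rwa [inv_one, one_mul] at hp
        rcases hx' with p | p | p | p <;> rcases hy' with q | q | q | q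
        · exact Or.inl (mul_mem p q)
        · exact Or.inr (Or.inl (comb (one_mem _) ha (h1' p) q (by rw [one_mul, inv_mul_cancel]; exact one_mem _)))
        · exact Or.inr (Or.inr (Or.inl (comb (one_mem _) hb (h1' p) q
            (by rw [one_mul, inv_mul_cancel]; exact one_mem _))))
        · exact Or.inr (Or.inr (Or.inr (comb (one_mem _) (mul_mem ha hb) (h1' p) q
            (by rw [one_mul, inv_mul_cancel]; exact one_mem _))))
        · exact Or.inr (Or.inl (comb ha (one_mem _) p (h1' q) (by rw [mul_one, inv_mul_cancel]; exact one_mem _)))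
        · exact Or.inl (h1'' (comb ha ha p q (h1' (sq ha))))
        · exact Or.inr (Or.inr (Or.inr (comb ha hb p q (by rw [inv_mul_cancel]; exact one_mem _))))
        · exact Or.inr (Or.inr (Or.inl (comb ha (mul_mem ha hb) p q (by
            rw [hc a ha b hb, ← mul_assoc a, hc a ha b hb, mul_assoc, inv_mul_cancel_left]; exact sq ha))))
        · exact Or.inr (Or.inr (Or.inl (comb hb (one_mem _) p (h1' q)
            (by rw [mul_one, inv_mul_cancel]; exact one_mem _))))
        · exact Or.inr (Or.inr (Or.inr (comb hb ha p q (by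
            rw [hc b hb a ha, inv_mul_cancel]; exact one_mem _))))
        · exact Or.inl (h1'' (comb hb hb p q (h1' (sq hb))))
        · exact Or.inr (Or.inl (comb hb (mul_mem ha hb) p q (by
            rw [← mul_assoc b, hc b hb a ha, mul_assoc, inv_mul_cancel_left]; exact sq hb)))
        · exact Or.inr (Or.inr (Or.inr (comb (mul_mem ha hb) (one_mem _) p (h1' q)
            (by rw [mul_one, inv_mul_cancel]; exact one_mem _))))
        · exact Or.inr (Or.inr (Or.inl (comb (mul_mem ha hb) ha p q (by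
            rw [hc a ha b hb, mul_assoc, inv_mul_cancel_left]; exact sq ha))))
        · exact Or.inr (Or.inl (comb (mul_mem ha hb) hb p q (by
            rw [mul_assoc, inv_mul_cancel_left]; exact sq hb)))
        · exact Or.inl (h1'' (comb (mul_mem ha hb) (mul_mem ha hb) p q (h1' (sq (mul_mem ha hb)))))
      inv_mem' := by
        rintro x ⟨hx, hx'⟩
        refine ⟨inv_mem hx, ?_⟩
        have : (x * x)⁻¹ ∈ SQ := inv_mem ⟨x, hx, rfl⟩
        have key : ∀ {r : T}, r⁻¹ * x ∈ SQ → r⁻¹ * x⁻¹ ∈ SQ := fun {r} hr => by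
          have h2 := mul_mem hr this
          rwa [show r⁻¹ * x * (x * x)⁻¹ = r⁻¹ * x⁻¹ by group] at h2
        rcases hx' with p | p | p | p
        · exact Or.inl (inv_mem p)
        · exact Or.inr (Or.inl (key p))
        · exact Or.inr (Or.inr (Or.inl (key p)))
        · exact Or.inr (Or.inr (Or.inr (key p))) }
  have hAR : A ≤ R := by
    rw [← hab, closure_le]
    rintro x (rfl | rfl)
    · exact ⟨ha, Or.inr (Or.inl (by rw [inv_mul_cancel]; exact one_mem _))⟩
    · exact ⟨hb, Or.inr (Or.inr (Or.inl (by rw [inv_mul_cancel]; exact one_mem _)))⟩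
  have hidx : SQ.relIndex A ≤ 4 := by
    by_contra hlt
    obtain ⟨x, hx, hxo⟩ := exists_out (N := SQ) (K := A) {1, a, b, a * b}
      (lt_of_le_of_lt Finset.card_le_four (by omega))
    rcases (hAR hx).2 with p | p | p | p
    · exact hxo 1 (by simp) (by rwa [inv_one, one_mul])
    · exact hxo a (by simp) p
    · exact hxo b (by simp) p
    · exact hxo (a * b) (by simp) p
  let f : A →* T := MonoidHom.mk' (fun d => (d : T) * d) fun x y =>
    (show Commute (y : T) x from hc y y.2 x x.2).mul_mul_mul_comm (x : T) y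
  have h2 : f.range = SQ := by
    ext x
    exact ⟨fun ⟨d, hd⟩ => ⟨d, d.2, hd⟩, fun ⟨d, hd, e⟩ => ⟨⟨d, hd⟩, e⟩⟩
  have h1 := f.ker.card_eq_card_quotient_mul_card_subgroup
  rw [Nat.card_congr (QuotientGroup.quotientKerEquivRange f).toEquiv, h2] at h1
  have h3 := relIndex_mul_relIndex (⊥ : Subgroup T) SQ A bot_le hSA
  rw [relIndex_bot_left, relIndex_bot_left, h1] at h3
  have h4 : Nat.card f.ker = {x : T | x ∈ A ∧ x * x = 1}.ncard := by
    rw [← Nat.card_coe_set_eq]
    exact Nat.card_congr ⟨fun d => ⟨((d : A) : T), (d : A).2, d.2⟩, fun v => ⟨⟨v, v.2.1⟩, v.2.2⟩,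
      fun _ => rfl, fun _ => rfl⟩
  rw [← h4, ← Nat.eq_of_mul_eq_mul_left Nat.card_pos h3]
  exact hidx

variable {G : Type*} [Group G] [Finite G]

theorem normAut_pow (T : Sylow 2 G) {n : G} (hn : n ∈ normalizer ((T : Subgroup G) : Set G)) (k : ℕ) (t : ↥T) :
    (((normAut T hn ^ k) t : ↥T) : G) = n ^ k * (t : G) * (n ^ k)⁻¹ := by
  induction k with
  | zero => simp
  | succ k ih =>
    rw [pow_succ', MulAut.mul_apply, normAut_coe, ih, pow_succ']
    group

/-- an element of the normaliser outside gives an automorphism of odd prime order -/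
theorem exists_aut (T : Sylow 2 G)
    (hN : ¬ normalizer ((T : Subgroup G) : Set G) ≤ (T : Subgroup G) ⊔ centralizer ((T : Subgroup G) : Set G)) :
    ∃ φ : MulAut ↥T, (orderOf φ).Prime ∧ orderOf φ ≠ 2 := by
  haveI : Fact (Nat.Prime 2) := ⟨Nat.prime_two⟩
  set T' : Subgroup G := (T : Subgroup G) with hT'
  obtain ⟨n, hn, hnT⟩ := SetLike.not_le_iff_exists.1 hN
  obtain ⟨a, m, hm, ham⟩ := Nat.exists_eq_two_pow_mul_odd (orderOf_pos n).ne'
  -- the two-part lies in the Sylow subgroup
  have hx : n ^ m ∈ T' := by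
    set N := normalizer (T' : Set G) with hN'
    have hTN : T' ≤ N := Subgroup.le_normalizer
    have h2 : IsPGroup 2 (zpowers (⟨n ^ m, pow_mem hn m⟩ : N)) := fun q => by
      obtain ⟨i, hi⟩ := q.2
      refine ⟨a, Subtype.ext (Subtype.ext ?_)⟩
      have hi' : (n ^ m) ^ i = ((q : N) : G) := congrArg Subtype.val hi
      show ((q : N) : G) ^ 2 ^ a = 1
      rw [← hi', ← zpow_natCast, ← zpow_natCast n m, ← zpow_mul, ← zpow_mul,
        show (m : ℤ) * (i * ((2 ^ a : ℕ) : ℤ)) = ((2 ^ a * m : ℕ) : ℤ) * i by push_cast; ring, zpow_mul, zpow_natCast,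
        ← ham, pow_orderOf_eq_one, one_zpow]
    obtain ⟨P, hP⟩ := h2.exists_le_sylow
    haveI : (T.subtype hTN : Subgroup N).Normal := by
      show (T'.subgroupOf N).Normal
      exact Subgroup.normal_in_normalizer
    haveI := Sylow.unique_of_normal (T.subtype hTN) inferInstance
    rw [Subsingleton.elim P (T.subtype hTN)] at hP
    exact hP (mem_zpowers _)
  have hy : n ^ 2 ^ a ∉ centralizer (T' : Set G) := by
    intro hyc
    refine hnT ?_
    have hcop : IsCoprime (m : ℤ) ((2 ^ a : ℕ) : ℤ) :=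
      Int.isCoprime_iff_gcd_eq_one.2 ((Nat.coprime_two_right.2 hm).pow_right a)
    obtain ⟨p, q, hpq⟩ := hcop
    have e : n = (n ^ m) ^ p * (n ^ 2 ^ a) ^ q := by
      rw [← zpow_natCast, ← zpow_natCast n (2 ^ a), ← zpow_mul, ← zpow_mul, ← zpow_add, mul_comm (m : ℤ),
        mul_comm ((2 ^ a : ℕ) : ℤ), hpq, zpow_one]
    rw [e]
    exact mul_mem (mem_sup_left (zpow_mem hx p)) (mem_sup_right (zpow_mem hyc q))
  set ψ := normAut T (pow_mem hn (2 ^ a)) with hψ
  have hψm : ψ ^ m = 1 := MulEquiv.ext fun t => Subtype.ext (by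
    rw [hψ, normAut_pow, ← pow_mul, ← ham, pow_orderOf_eq_one, one_mul, inv_one, mul_one]; rfl)
  have hψ1 : ψ ≠ 1 := fun e => hy (mem_centralizer_iff.2 fun t ht => by
    have h1 := congrArg Subtype.val (DFunLike.congr_fun e (⟨t, ht⟩ : ↥T))
    rw [hψ, normAut_coe] at h1
    have h2 : n ^ 2 ^ a * t * (n ^ 2 ^ a)⁻¹ = t := h1
    calc t * n ^ 2 ^ a = n ^ 2 ^ a * t * (n ^ 2 ^ a)⁻¹ * n ^ 2 ^ a := by rw [h2]
      _ = _ := by group)
  have hd : orderOf ψ ∣ m := orderOf_dvd_of_pow_eq_one hψm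
  have hne : orderOf ψ ≠ 1 := fun e => hψ1 (orderOf_eq_one_iff.1 e)
  set p := (orderOf ψ).minFac with hp
  have hpp : p.Prime := Nat.minFac_prime hne
  have hpd : p ∣ orderOf ψ := Nat.minFac_dvd _
  have hψ0 : orderOf ψ ≠ 0 := fun e => by
    rw [e] at hd
    have := Nat.eq_zero_of_zero_dvd hd
    rw [this] at hm
    exact absurd hm (by decide)
  refine ⟨ψ ^ (orderOf ψ / p), ?_, ?_⟩ <;> rw [orderOf_pow_orderOf_div hψ0 hpd]
  · exact hpp
  · intro e
    rw [e] at hpd
    exact Nat.not_even_iff_odd.2 hm (even_iff_two_dvd.2 (hpd.trans hd))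

/-- the orders -/
theorem sylow_orders [IsSimpleGroup G] (hna : ¬ IsMulCommutative G) (T : Sylow 2 G)
    (hd2 : ∀ A : Subgroup ↥T, A.Normal → IsMulCommutative ↥A → ∃ a b : ↥T, Subgroup.closure {a, b} = A)
    (hN : ¬ normalizer ((T : Subgroup G) : Set G) ≤ (T : Subgroup G) ⊔ centralizer ((T : Subgroup G) : Set G)) :
    Nat.card ↥T = 4 ∨ Nat.card ↥T = 64 ∨ Nat.card ↥T = 128 := by
  obtain ⟨φ, hp, h2⟩ := exists_aut T hN
  have h : Ctx ↥T φ := ⟨T.2, fun A hA hc => by
    obtain ⟨a, b, hab⟩ := hd2 A hA ⟨⟨fun x y => Subtype.ext (hc x x.2 y y.2)⟩⟩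
    exact two_gen_small hc hab, hp, h2⟩
  rcases h.dichotomy with hab | S
  · rcases h.abelian_case hab with hT | ⟨A, V, r, hI⟩
    · refine Or.inl (abelian_four hna T hT fun A hA hexp => ?_)
      have hn : A.Normal := ⟨fun x hx g => by rw [hT g x, mul_inv_cancel_right]; exact hx⟩
      have h1 := h.card_le_four hn fun x hx => by rw [← pow_two]; exact hexp x hx
      omega
    · exact (inverted_false hna T hI).elim
  · rcases S.cases h with hq | r | r | ⟨r, hr⟩
    · exact (quat_false hna T h hq).elim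
    · exact Or.inr (Or.inl r)
    · exact Or.inr (Or.inr r)
    · rcases rank_two hna T hr φ hp h2 with e | e <;> omega

end Cfsg.Lib.NormalRankTwo
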