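import Cfsg.Agent.NormalRankTwo.Basic

/-!
Small normal subgroups inside the commutator with the automorphism.
-/

set_option autoImplicit false
set_option linter.unusedSectionVars false
set_option linter.style.haveILetI false

namespace Cfsg.Lib.NormalRankTwo

open Subgroup

variable {T : Type*} [Group T] [Finite T] {φ : MulAut T}

/-- the centre of the commutator -/
def ZX (φ : MulAut T) : Subgroup T := XX φ ⊓ centralizer (XX φ : Set T)

theorem ZX_le : ZX φ ≤ XX φ := inf_le_left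

theorem mem_ZX {z : T} : z ∈ ZX φ ↔ z ∈ XX φ ∧ ∀ x ∈ XX φ, x * z = z * x := by
  rw [ZX, mem_inf, mem_centralizer_iff]; rfl

theorem ZX_comm {a : T} (ha : a ∈ ZX φ) {b : T} (hb : b ∈ ZX φ) : a * b = b * a :=
  (mem_ZX.1 hb).2 a (mem_ZX.1 ha).1

theorem ZX_normal : (ZX φ).Normal := ⟨fun z hz g => mem_ZX.2 ⟨conj_mem_XX (mem_ZX.1 hz).1 g, fun x hx => by
  have h1 := (mem_ZX.1 hz).2 _ (by simpa using conj_mem_XX hx g⁻¹ : g⁻¹ * x * g ∈ XX φ)
  calc x * (g * z * g⁻¹) = g * (g⁻¹ * x * g * z) * g⁻¹ := by group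
    _ = g * (z * (g⁻¹ * x * g)) * g⁻¹ := by rw [h1]
    _ = _ := by group⟩⟩

/-- a pointwise identity on an invariant subgroup transports along the automorphism -/
theorem comm_map_of {N : Subgroup T} (hN : ∀ x ∈ N, φ x ∈ N) (h1 : ∀ x ∈ N, ∀ y ∈ XX φ, y * x = x * y) {x y : T}
    (hx : x ∈ N) (hy : y ∈ XX φ) : y * φ x = φ x * y := h1 _ (hN x hx) y hy

namespace Ctx

variable (h : Ctx T φ)

include h

/-- a finite invariant set has all preimages -/
theorem symm_mem {N : Subgroup T} (hN : ∀ x ∈ N, φ x ∈ N) {x : T} (hx : x ∈ N) : φ.symm x ∈ N := by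
  obtain ⟨⟨y, hy⟩, hyx⟩ := (Finite.injective_iff_surjective.1
    (show Function.Injective (fun z : N => (⟨φ z, hN z z.2⟩ : N)) from fun a b e =>
      Subtype.ext (φ.injective (congrArg Subtype.val e)))) ⟨x, hx⟩
  have e : φ y = x := congrArg Subtype.val hyx
  rw [← e, MulEquiv.symm_apply_apply]
  exact hy

theorem ZX_inv {z : T} (hz : z ∈ ZX φ) : φ z ∈ ZX φ := by
  refine mem_ZX.2 ⟨map_mem_XX (mem_ZX.1 hz).1, fun x hx => ?_⟩
  have h1 := congrArg φ ((mem_ZX.1 hz).2 _ (h.symm_mem (fun _ hy => map_mem_XX hy) hx))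
  simpa using h1

/-- five elements of order at most two do not lie in a normal abelian subgroup -/
theorem five_false {A : Subgroup T} (hA : A.Normal) (hc : ∀ a ∈ A, ∀ b ∈ A, a * b = b * a) {s : Finset T}
    (hs : 5 ≤ s.card) (hsA : ∀ a ∈ s, a ∈ A ∧ a * a = 1) : False := by
  have h1 : (s : Set T) ⊆ {a : T | a ∈ A ∧ a * a = 1} := fun a ha => hsA a ha
  have h2 := Set.ncard_le_ncard h1 (Set.toFinite _)
  rw [Set.ncard_coe_finset] at h2
  have := h.small A hA hc
  omega

/-- the elements of a normal subgroup of exponent two with two independent members -/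
theorem four_list {V : Subgroup T} (hV : V.Normal) (h2 : ∀ a ∈ V, a * a = 1) {z y : T} (hz : z ∈ V) (hy : y ∈ V)
    (hz1 : z ≠ 1) (hy1 : y ≠ 1) (hyz : y ≠ z) {u : T} (hu : u ∈ V) : u = 1 ∨ u = z ∨ u = y ∨ u = z * y := by
  classical
  by_contra hne
  simp only [not_or] at hne
  have hc : ∀ a ∈ V, ∀ b ∈ V, a * b = b * a := fun a ha b hb => by
    have := h2 _ (mul_mem ha hb)
    calc a * b = (a * b)⁻¹ := (inv_eq_of_mul_eq_one_right this).symm
      _ = b * a := by rw [mul_inv_rev, inv_eq_of_mul_eq_one_right (h2 a ha), inv_eq_of_mul_eq_one_right (h2 b hb)]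
  have h3 : z * y ≠ 1 := fun e => hyz (by
    calc y = z * z * y := by rw [h2 z hz, one_mul]
      _ = z * (z * y) := by group
      _ = z := by rw [e, mul_one])
  have h4 : z * y ≠ z := fun e => hy1 (mul_eq_left.1 e)
  have h5 : z * y ≠ y := fun e => hz1 (mul_eq_right.1 e)
  refine h.five_false hV hc (s := {1, z, y, z * y, u}) ?_ ?_
  · rw [Finset.card_insert_of_notMem, Finset.card_insert_of_notMem, Finset.card_insert_of_notMem,
      Finset.card_insert_of_notMem, Finset.card_singleton] <;>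
      simp only [Finset.mem_insert, Finset.mem_singleton, not_or]
    exacts [Ne.symm hne.2.2.2, ⟨h5.symm, Ne.symm hne.2.2.1⟩, ⟨hyz.symm, h4.symm, Ne.symm hne.2.1⟩,
      ⟨hz1.symm, hy1.symm, h3.symm, Ne.symm hne.1⟩]
  · intro a ha
    simp only [Finset.mem_insert, Finset.mem_singleton] at ha
    rcases ha with rfl | rfl | rfl | rfl | rfl
    exacts [⟨one_mem _, one_mul 1⟩, ⟨hz, h2 _ hz⟩, ⟨hy, h2 _ hy⟩, ⟨mul_mem hz hy, h2 _ (mul_mem hz hy)⟩,
      ⟨hu, h2 _ hu⟩]

theorem card_le_four {V : Subgroup T} (hV : V.Normal) (h2 : ∀ a ∈ V, a * a = 1) : Nat.card V ≤ 4 := by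
  classical
  haveI : Fintype T := Fintype.ofFinite T
  by_contra hlt
  have hc : ∀ a ∈ V, ∀ b ∈ V, a * b = b * a := fun a ha b hb => by
    have := h2 _ (mul_mem ha hb)
    calc a * b = (a * b)⁻¹ := (inv_eq_of_mul_eq_one_right this).symm
      _ = b * a := by rw [mul_inv_rev, inv_eq_of_mul_eq_one_right (h2 a ha), inv_eq_of_mul_eq_one_right (h2 b hb)]
  refine h.five_false hV hc (s := Finset.univ.filter (· ∈ V)) ?_ fun a ha =>
    ⟨(Finset.mem_filter.1 ha).2, h2 a (Finset.mem_filter.1 ha).2⟩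
  rw [← Fintype.card_subtype, ← Nat.card_eq_fintype_card]
  exact Nat.lt_of_not_le hlt

/-- an involution commuting with a normal four group and central modulo it lies in it -/
theorem no_ext {V : Subgroup T} (hV : V.Normal) (h2 : ∀ a ∈ V, a * a = 1) {z y : T} (hz : z ∈ V) (hy : y ∈ V)
    (hz1 : z ≠ 1) (hy1 : y ≠ 1) (hyz : y ≠ z) {t : T} (ht : t * t = 1) (hc : ∀ v ∈ V, t * v = v * t)
    (hcomm : ∀ g : T, g * t * g⁻¹ * t⁻¹ ∈ V) : t ∈ V := by
  by_contra htV
  set W := closure (insert t (V : Set T)) with hW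
  have hVW : V ≤ W := fun v hv => subset_closure (Set.mem_insert_of_mem _ hv)
  have htW : t ∈ W := subset_closure (Set.mem_insert _ _)
  have hform : ∀ a ∈ W, a ∈ V ∨ a * t ∈ V := by
    intro a ha
    refine closure_induction (fun b hb => ?_) (Or.inl (one_mem _)) (fun b c _ _ hb hc' => ?_) (fun b _ hb => ?_) ha
    · rcases Set.mem_insert_iff.1 hb with rfl | hb
      · right; rw [ht]; exact one_mem _
      · exact Or.inl hb
    · rcases hb with hb | hb <;> rcases hc' with hc' | hc'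
      · exact Or.inl (mul_mem hb hc')
      · right; rw [mul_assoc]; exact mul_mem hb hc'
      · right
        rw [mul_assoc, ← hc c hc', ← mul_assoc]
        exact mul_mem hb hc'
      · left
        have e : c = t * (c * t) := by rw [hc _ hc', mul_assoc, ht, mul_one]
        rw [e, ← mul_assoc]
        exact mul_mem hb hc'
    · rcases hb with hb | hb
      · exact Or.inl (inv_mem hb)
      · right
        have h1 := inv_mem hb
        rw [mul_inv_rev, inv_eq_of_mul_eq_one_right ht] at h1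
        have h3 := hc _ h1
        rw [← mul_assoc, ht, one_mul] at h3
        have h4 : b⁻¹ * t = t * (t * b⁻¹) * t := by rw [← mul_assoc, ht, one_mul]
        rw [h4, hc _ h1, mul_assoc, ht, mul_one]
        exact h1
  have hW2 : ∀ a ∈ W, a * a = 1 := by
    intro a ha
    rcases hform a ha with h1 | h1
    · exact h2 a h1
    · have h3 := h2 _ h1
      have h4 := hc _ h1
      calc a * a = a * t * (t * (a * t)) * t := by
            rw [show a * t * (t * (a * t)) * t = a * (t * t) * a * (t * t) by group, ht, mul_one, mul_one]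
        _ = a * t * (a * t * t) * t := by rw [h4]
        _ = (a * t) * (a * t) * (t * t) := by group
        _ = 1 := by rw [h3, ht, one_mul]
  have hWn : W.Normal := ⟨fun a ha g => by
    refine closure_induction (fun b hb => ?_) ?_ (fun b c _ _ hb hc' => ?_) (fun b _ hb => ?_) ha
    · rcases Set.mem_insert_iff.1 hb with rfl | hb
      · rw [show g * b * g⁻¹ = g * b * g⁻¹ * b⁻¹ * b by group]
        exact mul_mem (hVW (hcomm g)) htW
      · exact hVW (hV.conj_mem b hb g)
    · simp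
    · rw [show g * (b * c) * g⁻¹ = g * b * g⁻¹ * (g * c * g⁻¹) by group]; exact mul_mem hb hc'
    · rw [show g * b⁻¹ * g⁻¹ = (g * b * g⁻¹)⁻¹ by group]; exact inv_mem hb⟩
  rcases h.four_list hWn hW2 (hVW hz) (hVW hy) hz1 hy1 hyz htW with e | e | e | e
  · exact htV (e ▸ one_mem V)
  · exact htV (e ▸ hz)
  · exact htV (e ▸ hy)
  · exact htV (e ▸ mul_mem hz hy)

/-- a normal subgroup fixed pointwise commutes with the commutator -/
theorem comm_of_fixed {N : Subgroup T} (hN : N.Normal) (hfix : ∀ d ∈ N, φ d = d) {d : T} (hd : d ∈ N) :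
    ∀ x ∈ XX φ, x * d = d * x := by
  intro x hx
  refine mem_centralizer_singleton_iff.1 ((closure_le _).2 ?_ hx : x ∈ centralizer ({d} : Set T))
  rintro _ ⟨g, rfl⟩
  refine mem_centralizer_singleton_iff.2 ?_
  have e := hfix _ (hN.conj_mem d hd g)
  rw [map_mul, map_mul, map_inv, hfix d hd] at e
  calc g⁻¹ * φ g * d = g⁻¹ * (φ g * d * (φ g)⁻¹) * φ g := by group
    _ = g⁻¹ * (g * d * g⁻¹) * φ g := by rw [e]
    _ = d * (g⁻¹ * φ g) := by group

/-- one fixed involution in a normal invariant four group fixes all of it -/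
theorem fix_all {V : Subgroup T} (hV : V.Normal) (hinv : ∀ v ∈ V, φ v ∈ V) (h2 : ∀ a ∈ V, a * a = 1)
    {z : T} (hz : z ∈ V) (hz1 : z ≠ 1) (hzf : φ z = z) : ∀ v ∈ V, φ v = v := by
  intro v hv
  by_cases hv1 : v = 1
  · rw [hv1, map_one]
  by_cases hvz : v = z
  · rw [hvz, hzf]
  rcases h.four_list hV h2 hz hv hz1 hv1 hvz (hinv v hv) with e | e | e | e
  · exact absurd (φ.map_eq_one_iff.1 e) hv1
  · exact absurd (φ.injective (e.trans hzf.symm)) hvz
  · exact e
  · have hc : z * v = v * z := by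
      have := h2 _ (mul_mem hz hv)
      calc z * v = (z * v)⁻¹ := (inv_eq_of_mul_eq_one_right this).symm
        _ = v * z := by rw [mul_inv_rev, inv_eq_of_mul_eq_one_right (h2 z hz),
          inv_eq_of_mul_eq_one_right (h2 v hv)]
    exact absurd (h.fix_of_shift (e.trans hc) hzf) hz1

/-- a normal invariant subgroup of exponent two inside the commutator is fixed or is a central rotated four group -/
theorem four_cases {V : Subgroup T} (hV : V.Normal) (hinv : ∀ v ∈ V, φ v ∈ V) (h2 : ∀ a ∈ V, a * a = 1) :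
    (∀ v ∈ V, φ v = v) ∨
      ((∀ v ∈ V, φ v = v → v = 1) ∧ V ≤ center T ∧ orderOf φ = 3 ∧ Nat.card V = 4 ∧
        (∀ v ∈ V, v * φ v = φ (φ v)) ∧ ∀ v ∈ V, v ≠ 1 → ∀ u ∈ V, u = 1 ∨ u = v ∨ u = φ v ∨ u = φ (φ v)) := by
  classical
  haveI : Fact (Nat.Prime 2) := ⟨Nat.prime_two⟩
  by_cases hfix : ∀ v ∈ V, φ v = v
  · exact Or.inl hfix
  refine Or.inr ?_
  have hfree : ∀ v ∈ V, φ v = v → v = 1 := fun v hv e => by
    by_contra h1
    exact hfix (h.fix_all hV hinv h2 hv h1 e)
  have hne : V ≠ ⊥ := fun e => hfix fun v hv => by rw [e, mem_bot] at hv; rw [hv, map_one]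
  haveI := hV
  obtain ⟨z, hz, hzc, hzo⟩ := Cfsg.Lib.PGroups.exists_mem_center_of_normal_ne_bot h.two hne
  have hz1 : z ≠ 1 := fun e => by rw [e, orderOf_one] at hzo; omega
  have hmov : ∀ v ∈ V, v ≠ 1 → φ v ≠ v ∧ φ v ≠ 1 ∧ φ (φ v) = v * φ v ∧
      ∀ u ∈ V, u = 1 ∨ u = v ∨ u = φ v ∨ u = φ (φ v) := by
    intro v hv hv1
    have e1 : φ v ≠ v := fun e => hv1 (hfree v hv e)
    have e2 : φ v ≠ 1 := fun e => hv1 (φ.map_eq_one_iff.1 e)
    have e3 : φ (φ v) = v * φ v := by
      rcases h.four_list hV h2 hv (hinv v hv) hv1 e2 e1 (hinv _ (hinv v hv)) with e | e | e | e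
      · exact absurd (φ.map_eq_one_iff.1 e) e2
      · exact absurd (h.fix_of_square e) e1
      · exact absurd (φ.injective e) e1
      · exact e
    exact ⟨e1, e2, e3, fun u hu => by rw [e3]; exact h.four_list hV h2 hv (hinv v hv) hv1 e2 e1 hu⟩
  obtain ⟨e1, e2, e3, hlist⟩ := hmov z hz hz1
  have hzc' : φ z ∈ center T := mem_center_iff.2 fun g => by
    have := congrArg φ (mem_center_iff.1 hzc (φ.symm g))
    simpa using this
  refine ⟨hfree, fun v hv => ?_, ?_, ?_, fun v hv => ?_, fun v hv hv1 => (hmov v hv hv1).2.2.2⟩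
  · rcases hlist v hv with rfl | rfl | rfl | rfl
    exacts [one_mem _, hzc, hzc', by rw [e3]; exact mul_mem hzc hzc']
  · have h3 : (φ ^ 3) z = z := by
      rw [show (3 : ℕ) = 1 + 1 + 1 from rfl, pow_succ', pow_succ', pow_one, MulAut.mul_apply, MulAut.mul_apply, e3,
        map_mul, e3, ← mul_assoc, mem_center_iff.1 hzc (φ z), mul_assoc, h2 _ (hinv z hz), mul_one]
    by_contra hne3
    obtain ⟨a, b, hab⟩ : IsCoprime (3 : ℤ) (orderOf φ : ℤ) := by
      have : Nat.Coprime 3 (orderOf φ) := (Nat.coprime_primes Nat.prime_three h.prime).2 (Ne.symm hne3)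
      exact Int.isCoprime_iff_gcd_eq_one.2 this
    refine e1 ?_
    have h5 : φ ^ (1 : ℤ) = (φ ^ 3) ^ a := by
      rw [← hab, zpow_add, mul_comm a, mul_comm b, zpow_mul, zpow_mul φ (orderOf φ : ℤ) b, zpow_natCast,
        pow_orderOf_eq_one, one_zpow, mul_one, show ((3 : ℤ)) = ((3 : ℕ) : ℤ) from rfl, zpow_natCast]
    have hst : φ ^ 3 ∈ MulAction.stabilizer (MulAut T) z := h3
    have := zpow_mem hst a
    rw [← h5, zpow_one] at this
    exact this
  · have hset : (V : Set T) = {1, z, φ z, φ (φ z)} := by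
      ext u
      simp only [Set.mem_insert_iff, Set.mem_singleton_iff, SetLike.mem_coe]
      refine ⟨hlist u, ?_⟩
      rintro (rfl | rfl | rfl | rfl)
      exacts [one_mem _, hz, hinv z hz, hinv _ (hinv z hz)]
    have h4 : φ (φ z) ≠ 1 := fun e => e2 (φ.map_eq_one_iff.1 e)
    have h5 : φ (φ z) ≠ φ z := fun e => e1 (φ.injective e)
    have h6 : φ (φ z) ≠ z := fun e => e1 (h.fix_of_square e)
    rw [← SetLike.coe_sort_coe, Nat.card_coe_set_eq, hset,
      Set.ncard_insert_of_notMem (by simp [hz1.symm, e2.symm, h4.symm]),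
      Set.ncard_insert_of_notMem (by simp [e1.symm, h6.symm]),
      Set.ncard_insert_of_notMem (by simp [h5.symm]), Set.ncard_singleton]
  · by_cases hv1 : v = 1
    · simp [hv1]
    · exact (hmov v hv hv1).2.2.1.symm

/-- modulo an invariant normal subgroup with abelian quotient only its members are fixed -/
theorem fixed_mem {N : Subgroup T} (hN : N.Normal) (hinv : ∀ x ∈ N, φ x ∈ N)
    (hcomm : ∀ a ∈ XX φ, ∀ b ∈ XX φ, a * b * a⁻¹ * b⁻¹ ∈ N) {y : T} (hy : y ∈ XX φ) (hfix : y⁻¹ * φ y ∈ N) :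
    y ∈ N := by
  classical
  haveI := hN
  set π := QuotientGroup.mk' N
  letI : CommGroup ((XX φ).map π) :=
    { (inferInstance : Group ((XX φ).map π)) with
      mul_comm := by
        rintro ⟨_, a, ha, rfl⟩ ⟨_, b, hb, rfl⟩
        refine Subtype.ext (show π a * π b = π b * π a from ?_)
        rw [← map_mul, ← map_mul]
        refine ((QuotientGroup.eq).2 ?_).symm
        rw [show (b * a)⁻¹ * (a * b) = a⁻¹ * b⁻¹ * (a⁻¹)⁻¹ * (b⁻¹)⁻¹ by group]
        exact hcomm _ (inv_mem ha) _ (inv_mem hb) }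
  let f : T → (XX φ).map π := fun x => if hx : x ∈ XX φ then ⟨π x, mem_map_of_mem π hx⟩ else 1
  have hf : ∀ a ∈ XX φ, ∀ b ∈ XX φ, f (a * b) = f a * f b := fun a ha b hb => by
    simp only [f, dif_pos ha, dif_pos hb, dif_pos (mul_mem ha hb)]
    exact Subtype.ext (map_mul π a b)
  have hpow : ∀ i : ℕ, (φ ^ i) y ∈ XX φ ∧ π ((φ ^ i) y) = π y := by
    intro i
    induction i with
    | zero => exact ⟨hy, rfl⟩
    | succ i ih =>
      rw [pow_succ', MulAut.mul_apply]
      refine ⟨map_mem_XX ih.1, ?_⟩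
      have h1 : y⁻¹ * (φ ^ i) y ∈ N := QuotientGroup.eq.1 ih.2.symm
      have h2 := mul_mem hfix (hinv _ h1)
      rw [map_mul, map_inv, mul_assoc, mul_inv_cancel_left] at h2
      exact (QuotientGroup.eq.2 h2).symm
  have := h.avg f hf hy fun i => by
    simp only [f, dif_pos hy, dif_pos (hpow i).1]
    exact Subtype.ext (hpow i).2
  simp only [f, dif_pos hy] at this
  exact (QuotientGroup.eq_one_iff y).1 (congrArg Subtype.val this)

end Ctx

end Cfsg.Lib.NormalRankTwo
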