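import Cfsg.Agent.NormalRankTwo.Reduce

/-!
An abelian commutator: the group is abelian or the commutator is inverted by one fixed involution.
-/

set_option autoImplicit false
set_option linter.unusedSectionVars false
set_option linter.style.haveILetI false

namespace Cfsg.Lib.NormalRankTwo

open Subgroup

variable {T : Type*} [Group T] [Finite T] {φ : MulAut T}

/-- an abelian subgroup of index two inverted by an outside involution -/
structure Inverted (A V : Subgroup T) (r : T) : Prop where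
  a_comm : ∀ x ∈ A, ∀ y ∈ A, x * y = y * x
  cover : ∀ t : T, t ∈ A ∨ t * r ∈ A
  r_sq : r * r = 1
  r_not : r ∉ A
  v_iff : ∀ v, v ∈ V ↔ v ∈ A ∧ v * v = 1
  cen : V ≤ center T
  card : Nat.card V = 4
  fix : ∀ x ∈ A, r * x = x * r → x * x = 1
  root : ∀ v ∈ V, ∃ x ∈ A, x * x = v ∧ r * x * r⁻¹ = x⁻¹

namespace Ctx

variable (h : Ctx T φ)

include h

/-- the group is abelian or has an inverted subgroup of index two -/
theorem abelian_case (hab : ∀ x ∈ XX φ, ∀ y ∈ XX φ, x * y = y * x) :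
    (∀ a b : T, a * b = b * a) ∨ ∃ (A V : Subgroup T) (r : T), Inverted A V r := by
  haveI : Fact (Nat.Prime 2) := ⟨Nat.prime_two⟩
  have G : Good φ (XX φ) := ⟨le_rfl, XX_normal, fun _ hx => map_mem_XX hx, hab⟩
  rcases h.four_cases (omegaOne_normal G) (omegaOne_inv G) (fun a ha => ha.2) with
    hfix | ⟨hfree, hcen, h3, hcard, hrot, hlist⟩
  · exfalso
    have hf := h.fixed_of_omega G hfix
    have hbot : ∀ x ∈ XX φ, x = 1 := h.XX_induction (fun x hx => by rw [hf x hx, inv_mul_cancel]) rfl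
      (fun a _ b _ ha hb => by rw [ha, hb, one_mul]) (fun a _ ha => by rw [ha, inv_one])
    have : φ = 1 := MulEquiv.ext fun t => by
      have := hbot _ (comm_mem_XX t)
      rw [inv_mul_eq_one] at this
      exact this.symm
    exact h.prime.ne_one (by rw [this, orderOf_one])
  set V := omegaOne G with hV
  obtain ⟨z, hz, hz1⟩ : ∃ z ∈ V, z ≠ 1 := by
    by_contra hno
    push Not at hno
    have h4 := hcard
    rw [(eq_bot_iff_forall V).2 hno, Subgroup.card_bot] at h4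
    omega
  have hext : ∀ t : T, t * t = 1 → (∀ g : T, cm g t ∈ V) → t ∈ V := fun t ht hg =>
    h.no_ext (omegaOne_normal G) (fun a ha => ha.2) hz (omegaOne_inv G z hz) hz1
      (fun e => hz1 (φ.map_eq_one_iff.1 e)) (fun e => hz1 (hfree z hz e)) ht
      (fun v hv => mem_center_iff.1 (hcen hv) t) hg
  have hfixX : ∀ x ∈ XX φ, φ x = x → x = 1 := by
    intro x hx e
    obtain ⟨k, hk⟩ := h.two x
    induction k generalizing x with
    | zero => rwa [pow_zero, pow_one] at hk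
    | succ k ih =>
      have h1 := ih (x * x) (mul_mem hx hx) (by rw [map_mul, e])
        (by rw [← pow_two, ← pow_mul, ← pow_succ']; exact hk)
      exact hfree x ⟨hx, h1⟩ e
  -- a fixed involution whose commutators lie in the involutions is trivial
  have hsmall : ∀ r ∈ FX φ, r * r = 1 → (∀ s ∈ FX φ, s * r = r * s) → (∀ x ∈ XX φ, cm r x ∈ V) → r = 1 := by
    intro r hr hr2 hrc hrx
    refine hfixX r (hext r hr2 fun g => ?_).1 hr
    obtain ⟨s, hs, hgs⟩ := h.decomp g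
    rw [show g = s * (g⁻¹ * s)⁻¹ by group, cm_mul_left, cm_eq_one.2 (hrc s hs), mul_one,
      show cm (g⁻¹ * s)⁻¹ r = (cm r (g⁻¹ * s)⁻¹)⁻¹ by simp only [cm]; group]
    exact (omegaOne_normal G).conj_mem _ (inv_mem (hrx _ (inv_mem hgs))) s
  -- a central involution of the fixed points
  by_cases hbot : FX φ = ⊥
  · refine Or.inl fun a b => ?_
    have hall : ∀ t : T, t ∈ XX φ := fun t => by
      obtain ⟨r, hr, htr⟩ := h.decomp t
      rw [hbot, mem_bot] at hr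
      rw [hr, mul_one, inv_mem_iff] at htr
      exact htr
    exact hab a (hall a) b (hall b)
  haveI : ((⊤ : Subgroup (FX φ))).Normal := inferInstance
  obtain ⟨⟨r, hr⟩, -, hrc', hro⟩ := Cfsg.Lib.PGroups.exists_mem_center_of_normal_ne_bot (p := 2)
    (h.two.to_subgroup (FX φ)) (N := (⊤ : Subgroup (FX φ))) (fun e => hbot ((Subgroup.eq_bot_iff_forall _).2 fun x hx => by
      have : (⟨x, hx⟩ : FX φ) ∈ (⊥ : Subgroup (FX φ)) := e ▸ mem_top _
      exact congrArg Subtype.val (mem_bot.1 this)))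
  have hrc : ∀ s ∈ FX φ, s * r = r * s := fun s hs => congrArg Subtype.val (mem_center_iff.1 hrc' ⟨s, hs⟩)
  have hr2 : r * r = 1 := by
    have := pow_orderOf_eq_one (⟨r, hr⟩ : FX φ)
    rw [hro, pow_two] at this
    exact congrArg Subtype.val this
  have hr1 : r ≠ 1 := fun e => by
    have : (⟨r, hr⟩ : FX φ) = 1 := Subtype.ext e
    rw [this, orderOf_one] at hro
    omega
  -- elements of order dividing two have central commutators
  by_cases hexp : ∀ x ∈ XX φ, x * x = 1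
  · exact absurd (hsmall r hr hr2 hrc fun x hx => by
      rw [cm_eq_one.2 (mem_center_iff.1 (hcen ⟨hx, hexp x hx⟩) r)]; exact one_mem _) hr1
  push Not at hexp
  obtain ⟨f₀, hf₀, hf₀2⟩ := hexp
  have M : Moved φ (XX φ) V := h.moved_of G (fun E hE _ => hE.le) hfree hcen h3 hcard hrot hlist hf₀ hf₀2
  have hnorm : ∀ (g : T), ∀ x ∈ XX φ, g * x * g⁻¹ ∈ XX φ := fun g x hx => conj_mem_XX hx g
  -- an invariant subgroup not of exponent two contains all elements of order four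
  have hbig : ∀ {x : T}, x ∈ XX φ → x * x ≠ 1 → ∃ e ∈ zpowers x, e * e * (e * e) = 1 ∧ e * e ≠ 1 := by
    intro x hx hx2
    obtain ⟨k, hk⟩ := IsPGroup.iff_orderOf.1 h.two x
    have hk2 : 2 ≤ k := by
      by_contra hlt
      refine hx2 ?_
      rw [← pow_two]
      exact orderOf_dvd_iff_pow_eq_one.1 (hk ▸ (pow_one 2 ▸ pow_dvd_pow 2 (by omega : k ≤ 1)))
    refine ⟨x ^ 2 ^ (k - 2), pow_mem (mem_zpowers x) _, ?_, fun hc => ?_⟩
    · rw [← pow_two, ← pow_two, ← pow_mul, ← pow_mul,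
        show 2 ^ (k - 2) * (2 * 2) = 2 ^ k by
          rw [show 2 * 2 = 2 ^ 2 from rfl, ← pow_add]; congr 1; omega, ← hk, pow_orderOf_eq_one]
    · rw [← pow_two, ← pow_mul, ← pow_succ] at hc
      have := orderOf_dvd_of_pow_eq_one hc
      rw [hk, Nat.pow_dvd_pow_iff_le_right (by norm_num)] at this
      omega
  have hfill : ∀ B : Subgroup T, B ≤ XX φ → (∀ b ∈ B, φ b ∈ B) → ∀ e ∈ B, e * e * (e * e) = 1 → e * e ≠ 1 →
      ∀ d ∈ XX φ, d * d * (d * d) = 1 → d ∈ B := by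
    intro B hB hinv e he he4 he2 d hd hd4
    have hev : e * e ∈ V := ⟨mul_mem (hB he) (hB he), he4⟩
    have hVB : ∀ v ∈ V, v ∈ B := fun v hv => by
      rcases hlist _ hev he2 v hv with q | q | q | q <;> rw [q]
      exacts [one_mem _, mul_mem he he, hinv _ (mul_mem he he), hinv _ (hinv _ (mul_mem he he))]
    have key : ∀ b ∈ B, d * d = b * b → d ∈ B := fun b hb hbd => by
      have hw : b⁻¹ * d ∈ V := ⟨mul_mem (inv_mem (hB hb)) hd, by
        rw [(show Commute d b⁻¹ from hab d hd _ (inv_mem (hB hb))).mul_mul_mul_comm, hbd, ← mul_inv_rev,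
          inv_mul_cancel]⟩
      have := mul_mem hb (hVB _ hw)
      rwa [mul_inv_cancel_left] at this
    rcases hlist _ hev he2 (d * d) ⟨mul_mem hd hd, hd4⟩ with q | q | q | q
    · exact hVB d ⟨hd, q⟩
    · exact key e he q
    · exact key (φ e) (hinv e he) (by rw [q, map_mul])
    · exact key (φ (φ e)) (hinv _ (hinv e he)) (by rw [q, map_mul, map_mul])
  -- the dichotomy of the action of a central involution
  have hdich : ∀ r ∈ FX φ, r * r = 1 → (∀ s ∈ FX φ, s * r = r * s) → r ≠ 1 →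
      ∀ x ∈ XX φ, x * (r * x * r⁻¹) ∈ V := by
    intro r hr hr2 hrc hr1
    have hrr : ∀ x : T, r * (r * x * r⁻¹) * r⁻¹ = x := fun x => by
      rw [show r * (r * x * r⁻¹) * r⁻¹ = r * r * x * (r * r)⁻¹ by group, hr2]; group
    let plus : Subgroup T :=
      { carrier := {y | ∃ x ∈ XX φ, y = x * (r * x * r⁻¹)}
        one_mem' := ⟨1, one_mem _, by group⟩
        mul_mem' := by
          rintro _ _ ⟨x, hx, rfl⟩ ⟨y, hy, rfl⟩
          refine ⟨x * y, mul_mem hx hy, ?_⟩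
          rw [show r * (x * y) * r⁻¹ = r * x * r⁻¹ * (r * y * r⁻¹) by group,
            (show Commute (r * x * r⁻¹) y from hab _ (hnorm r x hx) y hy).mul_mul_mul_comm]
        inv_mem' := by
          rintro _ ⟨x, hx, rfl⟩
          refine ⟨x⁻¹, inv_mem hx, ?_⟩
          rw [hab x hx _ (hnorm r x hx)]; group }
    let minus : Subgroup T :=
      { carrier := {y | ∃ x ∈ XX φ, y = x⁻¹ * (r * x * r⁻¹)}
        one_mem' := ⟨1, one_mem _, by group⟩
        mul_mem' := by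
          rintro _ _ ⟨x, hx, rfl⟩ ⟨y, hy, rfl⟩
          refine ⟨x * y, mul_mem hx hy, ?_⟩
          rw [show r * (x * y) * r⁻¹ = r * x * r⁻¹ * (r * y * r⁻¹) by group, hab x hx y hy, mul_inv_rev,
            (show Commute (r * x * r⁻¹) y⁻¹ from hab _ (hnorm r x hx) _ (inv_mem hy)).mul_mul_mul_comm]
        inv_mem' := by
          rintro _ ⟨x, hx, rfl⟩
          refine ⟨x⁻¹, inv_mem hx, ?_⟩
          rw [hab _ (inv_mem hx) _ (hnorm r x hx)]; group }
    have hp : ∀ y ∈ plus, y ∈ XX φ ∧ r * y * r⁻¹ = y := by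
      rintro _ ⟨x, hx, rfl⟩
      refine ⟨mul_mem hx (hnorm r x hx), ?_⟩
      rw [show r * (x * (r * x * r⁻¹)) * r⁻¹ = r * x * r⁻¹ * (r * (r * x * r⁻¹) * r⁻¹) by group, hrr,
        hab _ (hnorm r x hx) x hx]
    have hm : ∀ y ∈ minus, y ∈ XX φ ∧ r * y * r⁻¹ = y⁻¹ := by
      rintro _ ⟨x, hx, rfl⟩
      refine ⟨mul_mem (inv_mem hx) (hnorm r x hx), ?_⟩
      rw [show r * (x⁻¹ * (r * x * r⁻¹)) * r⁻¹ = (r * x * r⁻¹)⁻¹ * (r * (r * x * r⁻¹) * r⁻¹) by group, hrr,
        mul_inv_rev x⁻¹, inv_inv]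
    have hrf : φ r = r := hr
    have hpi : ∀ y ∈ plus, φ y ∈ plus := by
      rintro _ ⟨x, hx, rfl⟩
      exact ⟨φ x, map_mem_XX hx, by simp only [map_mul, map_inv, hrf]⟩
    have hmi : ∀ y ∈ minus, φ y ∈ minus := by
      rintro _ ⟨x, hx, rfl⟩
      exact ⟨φ x, map_mem_XX hx, by simp only [map_mul, map_inv, hrf]⟩
    by_cases hP : ∀ y ∈ plus, y * y = 1
    · exact fun x hx => ⟨mul_mem hx (hnorm r x hx), hP _ ⟨x, hx, rfl⟩⟩
    by_cases hMi : ∀ y ∈ minus, y * y = 1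
    · refine absurd (hsmall r hr hr2 hrc fun x hx => ?_) hr1
      have hy : x⁻¹ * (r * x * r⁻¹) ∈ minus := ⟨x, hx, rfl⟩
      have e : cm r x = x⁻¹ * (r * x * r⁻¹) := by
        rw [show cm r x = r * x * r⁻¹ * x⁻¹ from rfl, hab _ (hnorm r x hx) _ (inv_mem hx)]
      rw [e]
      exact ⟨(hm _ hy).1, hMi _ hy⟩
    exfalso
    push Not at hP hMi
    obtain ⟨y, hy, hy2⟩ := hP
    obtain ⟨w, hw, hw2⟩ := hMi
    obtain ⟨e, he, he4, he2⟩ := hbig (hp y hy).1 hy2
    obtain ⟨e', he', he4', he2'⟩ := hbig (hm w hw).1 hw2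
    have hep : e ∈ plus := (zpowers_le.2 hy) he
    have hem : e ∈ minus := hfill minus (fun b hb => (hm b hb).1) hmi e' ((zpowers_le.2 hw) he') he4' he2' e
      (hp e hep).1 he4
    exact he2 (eq_inv_iff_mul_eq_one.1 ((hp e hep).2.symm.trans (hm e hem).2))
  have hsum := hdich r hr hr2 hrc hr1
  -- exponent at least eight
  obtain ⟨f, hf, hf4⟩ : ∃ f ∈ XX φ, f * f * (f * f) ≠ 1 := by
    by_contra hno
    push Not at hno
    refine hr1 (hsmall r hr hr2 hrc fun x hx => ?_)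
    have e : cm r x = x * (r * x * r⁻¹) * (x * x)⁻¹ := by
      rw [show cm r x = r * x * r⁻¹ * x⁻¹ from rfl, hab x hx _ (hnorm r x hx)]; group
    rw [e]
    exact mul_mem (hsum x hx) (inv_mem ⟨mul_mem hx hx, hno x hx⟩)
  have hsq : ∀ d ∈ XX φ, d * d * (d * d) = 1 → ∃ y ∈ XX φ, y * y = d := by
    intro d hd hd4
    obtain ⟨e, he, he4, he2⟩ := hbig (mul_mem hf hf) hf4
    have hSQ : sqs (XX φ) hab ≤ XX φ := by rintro _ ⟨y, hy, rfl⟩; exact mul_mem hy hy
    exact hfill (sqs (XX φ) hab) hSQ (fun b hb => M.sqs_inv hb) e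
      ((zpowers_le.2 (show f * f ∈ sqs (XX φ) hab from ⟨f, hf, rfl⟩)) he) he4 he2 d hd hd4
  have hinv4 : ∀ d ∈ XX φ, d * d * (d * d) = 1 → r * d * r⁻¹ = d⁻¹ := by
    intro d hd hd4
    obtain ⟨y, hy, rfl⟩ := hsq d hd hd4
    have h1 : y * (r * y * r⁻¹) * (y * (r * y * r⁻¹)) = 1 := (hsum y hy).2
    rw [(show Commute (r * y * r⁻¹) y from hab _ (hnorm r y hy) y hy).mul_mul_mul_comm] at h1
    rw [show r * (y * y) * r⁻¹ = r * y * r⁻¹ * (r * y * r⁻¹) by group]
    exact eq_inv_of_mul_eq_one_right h1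
  -- an element of order four
  obtain ⟨d₀, -, hd₀4, hd₀2, hd₀⟩ : ∃ d ∈ zpowers f, d * d * (d * d) = 1 ∧ d * d ≠ 1 ∧ d ∈ XX φ := by
    obtain ⟨d, hd, h4, h2⟩ := hbig hf (fun e => hf4 (by rw [e, one_mul]))
    exact ⟨d, hd, h4, h2, (zpowers_le.2 hf) hd⟩
  have hfour : ∀ s t : T, s * t * s⁻¹ * t⁻¹ = r → False := by
    intro s t hst
    refine hd₀2 ?_
    have hs := M.cm_four s hd₀ hd₀4
    have ht := M.cm_four t hd₀ hd₀4
    have e := hinv4 d₀ hd₀ hd₀4
    rw [← hst] at e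
    have hsd : s * d₀ * s⁻¹ = cm s d₀ * d₀ := by simp only [cm]; group
    have htd : t * d₀ * t⁻¹ = cm t d₀ * d₀ := by simp only [cm]; group
    have h1 : ∀ (g : T) (v : T), v ∈ V → g * v * g⁻¹ = v := fun g v hv => M.v_conj hv g
    have hti : t⁻¹ * d₀ * t = cm t d₀ * d₀ := by
      calc t⁻¹ * d₀ * t = t⁻¹ * (cm t d₀ * (cm t d₀ * d₀)) * t := by
            rw [← mul_assoc (cm t d₀), M.v_sq ht, one_mul]
        _ = t⁻¹ * cm t d₀ * t * (t⁻¹ * (t * d₀ * t⁻¹) * t) := by rw [htd]; group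
        _ = cm t d₀ * d₀ := by rw [show t⁻¹ * (t * d₀ * t⁻¹) * t = d₀ by group,
              show t⁻¹ * cm t d₀ * t = t⁻¹ * cm t d₀ * t⁻¹⁻¹ by group, h1 _ _ ht]
    have hsi : s⁻¹ * d₀ * s = cm s d₀ * d₀ := by
      calc s⁻¹ * d₀ * s = s⁻¹ * (cm s d₀ * (cm s d₀ * d₀)) * s := by
            rw [← mul_assoc (cm s d₀), M.v_sq hs, one_mul]
        _ = s⁻¹ * cm s d₀ * s * (s⁻¹ * (s * d₀ * s⁻¹) * s) := by rw [hsd]; group
        _ = cm s d₀ * d₀ := by rw [show s⁻¹ * (s * d₀ * s⁻¹) * s = d₀ by group,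
              show s⁻¹ * cm s d₀ * s = s⁻¹ * cm s d₀ * s⁻¹⁻¹ by group, h1 _ _ hs]
    have e2 : s * t * s⁻¹ * t⁻¹ * d₀ * (s * t * s⁻¹ * t⁻¹)⁻¹ = d₀ := by
      calc s * t * s⁻¹ * t⁻¹ * d₀ * (s * t * s⁻¹ * t⁻¹)⁻¹ = s * t * (s⁻¹ * (t⁻¹ * d₀ * t) * s) * (s * t)⁻¹ := by
            group
        _ = s * t * (s⁻¹ * cm t d₀ * s⁻¹⁻¹ * (s⁻¹ * d₀ * s)) * (s * t)⁻¹ := by rw [hti]; group
        _ = s * t * (cm t d₀ * (cm s d₀ * d₀)) * (s * t)⁻¹ := by rw [h1 _ _ ht, hsi]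
        _ = s * t * (cm t d₀ * cm s d₀) * (s * t)⁻¹ * (s * (t * d₀ * t⁻¹) * s⁻¹) := by group
        _ = cm t d₀ * cm s d₀ * (s * (cm t d₀) * s⁻¹ * (s * d₀ * s⁻¹)) := by
            rw [h1 _ _ (mul_mem ht hs), htd]; group
        _ = cm t d₀ * cm s d₀ * (cm t d₀ * cm s d₀) * d₀ := by rw [h1 _ _ ht, hsd]; group
        _ = d₀ := by rw [M.v_sq (mul_mem ht hs), one_mul]
    rw [e2] at e
    exact eq_inv_iff_mul_eq_one.1 e
  -- only one nontrivial fixed element
  have honly : ∀ s ∈ FX φ, s = 1 ∨ s = r := by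
    by_contra hne
    push Not at hne
    obtain ⟨s₀, hs₀, hs₀1, hs₀r⟩ := hne
    let R1 : Subgroup (FX φ) := zpowers ⟨r, hr⟩
    have hR1 : ∀ x : FX φ, x ∈ R1 → (x : T) = 1 ∨ (x : T) = r := by
      rintro _ ⟨i, rfl⟩
      have h2 : (⟨r, hr⟩ : FX φ) ^ (2 : ℤ) = 1 := by
        rw [show (2 : ℤ) = ((2 : ℕ) : ℤ) from rfl, zpow_natCast, pow_two]; exact Subtype.ext hr2
      rcases Int.even_or_odd' i with ⟨j, rfl | rfl⟩
      · left; show ((⟨r, hr⟩ : FX φ) ^ (2 * j) : FX φ).1 = 1; rw [zpow_mul, h2, one_zpow]; rfl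
      · right; show ((⟨r, hr⟩ : FX φ) ^ (2 * j + 1) : FX φ).1 = r; rw [zpow_add, zpow_mul, h2, one_zpow, one_mul, zpow_one]
    have hR1n : R1.Normal := ⟨fun x hx g => by
      obtain ⟨i, rfl⟩ := hx
      have hcg : Commute g ((⟨r, hr⟩ : FX φ) ^ i) :=
        Commute.zpow_right (Subtype.ext (hrc g g.2) : Commute g (⟨r, hr⟩ : FX φ)) i
      show g * (⟨r, hr⟩ : FX φ) ^ i * g⁻¹ ∈ R1
      rw [hcg.eq, mul_inv_cancel_right]
      exact zpow_mem (mem_zpowers _) i⟩
    obtain ⟨⟨s, hs⟩, -, hsR, hs2, hsg⟩ := exists_step (h.two.to_subgroup (FX φ)) hR1n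
      (inferInstance : (⊤ : Subgroup (FX φ)).Normal) (fun hle => by
        rcases hR1 ⟨s₀, hs₀⟩ (hle (mem_top _)) with e | e
        exacts [hs₀1 e, hs₀r e])
    have hs2' : s * s = 1 := by
      rcases hR1 _ hs2 with e | e
      · exact e
      exfalso
      refine hd₀2 ?_
      have e1 := hinv4 d₀ hd₀ hd₀4
      have hsd : s * d₀ * s⁻¹ = cm s d₀ * d₀ := by simp only [cm]; group
      have hsV := M.cm_four s hd₀ hd₀4
      have e2 : s * s * d₀ * (s * s)⁻¹ = d₀ := by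
        calc s * s * d₀ * (s * s)⁻¹ = s * (s * d₀ * s⁻¹) * s⁻¹ := by group
          _ = s * (cm s d₀ * d₀) * s⁻¹ := by rw [hsd]
          _ = s * cm s d₀ * s⁻¹ * (s * d₀ * s⁻¹) := by group
          _ = d₀ := by rw [M.v_conj hsV, hsd, ← mul_assoc, M.v_sq hsV, one_mul]
      have e' : s * s = r := e
      rw [e', e1] at e2
      exact eq_inv_iff_mul_eq_one.1 e2.symm
    have hsc : ∀ t ∈ FX φ, t * s = s * t := by
      intro t ht
      rcases hR1 _ (hsg ⟨t, ht⟩) with e | e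
      · exact cm_eq_one.1 e
      · exact (hfour t s e).elim
    -- the product has small commutators
    have hs1 : s ≠ 1 ∧ s ≠ r :=
      ⟨fun e => hsR (by rw [show (⟨s, hs⟩ : FX φ) = 1 from Subtype.ext e]; exact one_mem _),
        fun e => hsR (by rw [show (⟨s, hs⟩ : FX φ) = ⟨r, hr⟩ from Subtype.ext e]; exact mem_zpowers _)⟩
    have hsr : s * r = 1 := by
      refine hsmall _ (mul_mem hs hr) ?_ (fun t ht => ?_) fun x hx => ?_
      · rw [(show Commute r s from (hrc s hs).symm).mul_mul_mul_comm, hs2', hr2, one_mul]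
      · rw [← mul_assoc, hsc t ht, mul_assoc, hrc t ht, mul_assoc]
      · have e : cm (s * r) x = (x * (r * x * r⁻¹))⁻¹ *
            (x * (r * x * r⁻¹ * (s * (r * x * r⁻¹) * s⁻¹)) * x⁻¹) := by simp only [cm]; group
        rw [e, M.v_conj (hdich s hs hs2' hsc hs1.1 _ (hnorm r x hx))]
        exact mul_mem (inv_mem (hsum x hx)) (hdich s hs hs2' hsc hs1.1 _ (hnorm r x hx))
    exact hs1.2 ((eq_inv_of_mul_eq_one_left hsr).trans (inv_eq_of_mul_eq_one_right hr2))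
  -- the fixed points of the involution
  refine Or.inr ⟨XX φ, V, r, hab, fun t => ?_, hr2, fun hrX => hr1 (hfixX r hrX hr), fun v => Iff.rfl, hcen, hcard,
    fun x hx hc => ?_, fun v hv => ?_⟩
  · obtain ⟨s, hs, hts⟩ := h.decomp t
    have hts' := conj_mem_XX (inv_mem hts) t
    rw [show t * (t⁻¹ * s)⁻¹ * t⁻¹ = t * s⁻¹ by group] at hts'
    rcases honly s hs with rfl | rfl
    · left; rwa [inv_one, mul_one] at hts'
    · right; rwa [inv_eq_of_mul_eq_one_right hr2] at hts'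
  · by_contra hx2
    have h1 : x * x * (x * x) = 1 := by
      have := (hsum x hx).2
      rwa [hc, mul_inv_cancel_right] at this
    have h2 := hinv4 x hx h1
    rw [hc, mul_inv_cancel_right] at h2
    exact hx2 (eq_inv_iff_mul_eq_one.1 h2)
  · obtain ⟨x, hx, hxv⟩ := M.root v hv
    exact ⟨x, hx, hxv, hinv4 x hx (by rw [hxv]; exact M.v_sq hv)⟩

end Ctx

end Cfsg.Lib.NormalRankTwo
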