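import Cfsg.Agent.NormalRankTwo.Moved

/-!
A proper moved maximal abelian invariant normal subgroup forces exponent four in the commutator.
-/

set_option autoImplicit false
set_option linter.unusedSectionVars false
set_option linter.style.haveILetI false

namespace Cfsg.Lib.NormalRankTwo

open Subgroup

variable {T : Type*} [Group T] [Finite T] {φ : MulAut T}

/-- the commutator is nonabelian with elementary centre and elementary quotient -/
structure Special (φ : MulAut T) : Prop where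
  nab : ∃ x ∈ XX φ, ∃ y ∈ XX φ, x * y ≠ y * x
  exp : ∀ z ∈ ZX φ, z * z = 1
  sq : ∀ x ∈ XX φ, x * x ∈ ZX φ
  com : ∀ x ∈ XX φ, ∀ y ∈ XX φ, cm x y ∈ ZX φ

namespace Moved

variable {D V : Subgroup T} (h : Ctx T φ) (M : Moved φ D V)

include M

/-- elements of order four are moved into the involutions -/
theorem cm_four (x : T) {d : T} (hd : d ∈ D) (h4 : d * d * (d * d) = 1) : cm x d ∈ V :=
  (M.v_iff _).2 ⟨M.cm_D x hd, by
    rw [← M.cm_mul_D x hd hd]; exact M.cm_V x ((M.v_iff _).2 ⟨mul_mem hd hd, h4⟩)⟩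

theorem cm_inv_four (x : T) {d : T} (hd : d ∈ D) (h4 : d * d * (d * d) = 1) : cm x⁻¹ d = cm x d := by
  have h1 := M.cm_mul_V (x := x) (M.cm_four x⁻¹ hd h4)
  rw [mul_inv_cancel, cm_eq_one.2 ((one_mul d).trans (mul_one d).symm)] at h1
  rw [eq_inv_of_mul_eq_one_left h1.symm, inv_eq_of_mul_eq_one_right (M.v_sq (M.cm_four x hd h4))]

include h

/-- the orbit product of the values on an element of order four is trivial -/
theorem star {x : T} (hx : x ∈ XX φ) {d : T} (hd : d ∈ D) (h4 : d * d * (d * d) = 1) :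
    cm x d * cm (φ x) d * cm (φ (φ x)) d = 1 := by
  have hV : ∀ x : T, cm x d ∈ V := fun x => M.cm_four x hd h4
  have hone : cm (1 : T) d = 1 := cm_eq_one.2 ((one_mul d).trans (mul_one d).symm)
  refine h.XX_induction (P := fun x => cm x d * cm (φ x) d * cm (φ (φ x)) d = 1) (fun y _ => ?_)
    ?_ (fun a _ b _ ha hb => ?_) (fun a _ ha => ?_) x hx
  · simp only [map_mul, map_inv, M.cube, M.cm_mul_V (hV _), M.cm_inv_four _ hd h4]
    set a := cm y d
    set b := cm (φ y) d
    set c := cm (φ (φ y)) d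
    have ha := M.v_sq (hV y)
    have hb := M.v_sq (hV (φ y))
    have hc := M.v_sq (hV (φ (φ y)))
    have k1 : b * a = a * b := M.v_comm (hV y) b
    have k2 : c * b = b * c := M.v_comm (hV (φ y)) c
    calc b * a * (c * b) * (a * c) = a * b * (b * c) * (a * c) := by rw [k1, k2]
      _ = a * (b * b) * (c * a) * c := by group
      _ = a * (a * c) * c := by rw [hb, mul_one, ← M.v_comm (hV y) c]
      _ = (a * a) * (c * c) := by group
      _ = 1 := by rw [ha, hc, one_mul]
  · simp only [map_one, hone, mul_one]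
  · simp only [map_mul, M.cm_mul_V (hV _)]
    set p := cm b d
    set q := cm a d
    set p' := cm (φ b) d
    set q' := cm (φ a) d
    set p'' := cm (φ (φ b)) d
    set q'' := cm (φ (φ a)) d
    calc p * q * (p' * q') * (p'' * q'') = p * (q * p') * (q' * p'') * q'' := by group
      _ = p * (p' * q) * (p'' * q') * q'' := by
        rw [M.v_comm (hV (φ b)) q, M.v_comm (hV (φ (φ b))) q']
      _ = p * p' * (q * p'') * q' * q'' := by group
      _ = p * p' * (p'' * q) * q' * q'' := by rw [M.v_comm (hV (φ (φ b))) q]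
      _ = (p * p' * p'') * (q * q' * q'') := by group
      _ = 1 := by rw [ha, hb, one_mul]
  · simpa only [map_inv, M.cm_inv_four _ hd h4] using ha

omit h in
theorem four_map {d : T} (h4 : d * d * (d * d) = 1) : φ d * φ d * (φ d * φ d) = 1 := by
  rw [← map_mul, ← map_mul, h4, map_one]

omit h in
/-- the image of a value -/
theorem cm_phi (x d : T) : cm (φ x) d = φ (cm x (φ (φ d))) := by
  rw [cm_map, M.cube]

/-- killing one element of order four kills all -/
theorem kill_all {x : T} (hx : x ∈ XX φ) {d₀ : T} (hd₀ : d₀ ∈ D) (h4 : d₀ * d₀ * (d₀ * d₀) = 1)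
    (hne : d₀ * d₀ ≠ 1) (hk : cm x d₀ = 1) {d : T} (hd : d ∈ D) (hd4 : d * d * (d * d) = 1) : cm x d = 1 := by
  have hd1 := M.good.inv d₀ hd₀
  have hd2 := M.good.inv _ hd1
  have hv : d₀ * d₀ ∈ V := (M.v_iff _).2 ⟨mul_mem hd₀ hd₀, h4⟩
  have hmod : ∀ e ∈ D, ∀ e' ∈ D, e * e = e' * e' → cm x e' = cm x e := by
    intro e he e' he' hee
    have hw : e⁻¹ * e' ∈ V := (M.v_iff _).2 ⟨mul_mem (inv_mem he) he', by
      rw [(show Commute e' e⁻¹ from M.good.comm _ he' _ (inv_mem he)).mul_mul_mul_comm, ← hee, ← mul_inv_rev,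
        inv_mul_cancel]⟩
    rw [show e' = e * (e⁻¹ * e') by group, M.cm_mul_D x he (M.v_le hw), M.cm_V x hw, mul_one]
  have e12 : cm x (φ (φ d₀)) = cm x (φ d₀) := by
    rw [hmod _ (mul_mem hd₀ hd1) _ hd2 (by
      rw [(show Commute (φ d₀) d₀ from M.good.comm _ hd1 _ hd₀).mul_mul_mul_comm, ← map_mul, M.rot _ hv,
        ← map_mul, ← map_mul]), M.cm_mul_D x hd₀ hd1, hk, one_mul]
  set c := cm x (φ d₀) with hc
  have hcV : c ∈ V := M.cm_four x hd1 (M.four_map h4)
  have hs := M.star h hx hd₀ h4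
  rw [hk, one_mul, M.cm_phi x d₀, e12, M.cm_phi (φ x) d₀, M.cm_phi x (φ (φ d₀)), M.cube] at hs
  have h1 : φ c = φ (φ c) := by
    rw [← hc] at hs
    exact (eq_inv_of_mul_eq_one_left hs).trans (inv_eq_of_mul_eq_one_right (M.v_sq (M.v_inv (M.v_inv hcV))))
  have hc1 : c = 1 := M.free c hcV (φ.injective h1).symm
  have hdv : d * d ∈ V := (M.v_iff _).2 ⟨mul_mem hd hd, hd4⟩
  rcases M.list _ hv hne _ hdv with e | e | e | e
  · exact M.cm_V x ((M.v_iff _).2 ⟨hd, e⟩)
  · rw [hmod _ hd₀ _ hd e.symm, hk]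
  · rw [hmod _ hd1 _ hd (by rw [← map_mul]; exact e.symm), ← hc, hc1]
  · rw [hmod _ hd2 _ hd (by rw [← map_mul, ← map_mul]; exact e.symm), e12, hc1]

/-- exponent four -/
theorem special_four (h4 : ∀ d ∈ D, d * d * (d * d) = 1) (hne : ¬ XX φ ≤ D) : Special φ := by
  obtain ⟨x₀, hx₀, hx₀D⟩ := SetLike.not_le_iff_exists.1 hne
  have hcd : ∀ x ∈ XX φ, x ∉ D → ∀ d ∈ D, cm x d = 1 → d ∈ V := by
    intro x hx hxD d hd hk
    refine (M.v_iff _).2 ⟨hd, ?_⟩
    by_contra hd2
    exact hxD (M.centralizer_le h hx fun e he =>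
      cm_eq_one.1 (M.kill_all h hx hd (h4 d hd) hd2 hk he (h4 e he)))
  have hsqV : ∀ x ∈ XX φ, x * x ∈ V := by
    intro x hx
    by_cases hxD : x ∈ D
    · exact (M.v_iff _).2 ⟨mul_mem hxD hxD, h4 x hxD⟩
    have h1 : x * x ∈ D := M.centralizer_le h (mul_mem hx hx) fun d hd => cm_eq_one.1 (by
      rw [M.cm_mul_V (M.cm_four x hd (h4 d hd)), M.v_sq (M.cm_four x hd (h4 d hd))])
    exact hcd x hx hxD _ h1 (cm_eq_one.2 (mul_assoc x x x).symm)
  have hcom : ∀ x ∈ XX φ, ∀ y ∈ XX φ, cm x y ∈ V := by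
    intro x hx y hy
    have e : cm x y = x * y * (x * y) * (y⁻¹ * (x * x)⁻¹ * y⁻¹⁻¹) * (y * y)⁻¹ := by simp only [cm]; group
    rw [e, M.v_conj (inv_mem (hsqV x hx))]
    exact mul_mem (mul_mem (hsqV _ (mul_mem hx hy)) (inv_mem (hsqV x hx))) (inv_mem (hsqV y hy))
  have hZV : ∀ z ∈ ZX φ, z ∈ V := by
    intro z hz
    have hzD : z ∈ D := M.centralizer_le h (mem_ZX.1 hz).1 fun d hd => ((mem_ZX.1 hz).2 d (M.good.le hd)).symm
    exact hcd x₀ hx₀ hx₀D z hzD (cm_eq_one.2 ((mem_ZX.1 hz).2 x₀ hx₀))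
  have hVZ : ∀ v ∈ V, v ∈ ZX φ := fun v hv => mem_ZX.2 ⟨M.good.le (M.v_le hv), fun x _ => M.v_comm hv x⟩
  refine ⟨⟨x₀, hx₀, ?_⟩, fun z hz => M.v_sq (hZV z hz), fun x hx => hVZ _ (hsqV x hx),
    fun x hx y hy => hVZ _ (hcom x hx y hy)⟩
  by_contra hall
  push Not at hall
  exact hx₀D (M.centralizer_le h hx₀ fun d hd => hall d (M.good.le hd))

omit h in
/-- the elements central of order two modulo the subgroup -/
def nearer (_M : Moved φ D V) : Subgroup T where
  carrier := {t | t ∈ XX φ ∧ t * t ∈ D ∧ ∀ g : T, cm g t ∈ D}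
  one_mem' := ⟨one_mem _, by rw [one_mul]; exact one_mem D,
    fun g => by rw [show cm g (1 : T) = 1 by simp [cm]]; exact one_mem D⟩
  mul_mem' := by
    rintro a b ⟨ha, ha2, hag⟩ ⟨hb, hb2, hbg⟩
    refine ⟨mul_mem ha hb, ?_, fun g => ?_⟩
    · rw [show a * b * (a * b) = a * cm b a * a⁻¹ * (a * a) * (b * b) by simp only [cm]; group]
      exact mul_mem (mul_mem (_M.good.nor.conj_mem _ (hag b) a) ha2) hb2
    · rw [show cm g (a * b) = cm g a * (a * cm g b * a⁻¹) from cm_mul_right g a b]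
      exact mul_mem (hag g) (_M.good.nor.conj_mem _ (hbg g) a)
  inv_mem' := by
    rintro a ⟨ha, ha2, hag⟩
    refine ⟨inv_mem ha, by rw [← mul_inv_rev]; exact inv_mem ha2, fun g => ?_⟩
    rw [show cm g a⁻¹ = a⁻¹ * (cm g a)⁻¹ * a⁻¹⁻¹ by simp only [cm]; group]
    exact _M.good.nor.conj_mem _ (inv_mem (hag g)) _

/-- exponent at least eight with a proper subgroup is impossible -/
theorem not_deep {f : T} (hf : f ∈ D) (hf4 : f * f * (f * f) ≠ 1) (hne : ¬ XX φ ≤ D) : False := by
  -- every involution of the subgroup is a fourth power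
  have hfour : ∀ v ∈ V, ∃ e ∈ D, e * e * (e * e) = v := by
    obtain ⟨k, hk⟩ := IsPGroup.iff_orderOf.1 h.two f
    have hk3 : 3 ≤ k := by
      by_contra hlt
      refine hf4 ?_
      have hd : f ^ 2 ^ 2 = 1 := orderOf_dvd_iff_pow_eq_one.1 (hk ▸ pow_dvd_pow 2 (by omega))
      rw [show f * f * (f * f) = f ^ 2 ^ 2 by rw [← pow_two, ← pow_two, ← pow_mul]; norm_num]
      exact hd
    set e := f ^ 2 ^ (k - 3) with he
    have heD : e ∈ D := pow_mem hf _
    have e4 : e * e * (e * e) = f ^ 2 ^ (k - 1) := by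
      rw [he, ← pow_two, ← pow_two, ← pow_mul, ← pow_mul, show k - 1 = k - 3 + 2 by omega, pow_add]
      ring_nf
    have hvV : e * e * (e * e) ∈ V := (M.v_iff _).2 ⟨mul_mem (mul_mem heD heD) (mul_mem heD heD), by
      rw [e4, ← pow_add, ← two_mul, ← pow_succ', show k - 1 + 1 = k by omega, ← hk, pow_orderOf_eq_one]⟩
    have hv1 : e * e * (e * e) ≠ 1 := fun hc => by
      rw [e4] at hc
      have := orderOf_dvd_of_pow_eq_one hc
      rw [hk, Nat.pow_dvd_pow_iff_le_right (by norm_num)] at this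
      omega
    intro v hv
    rcases M.list _ hvV hv1 v hv with r | r | r | r
    · exact ⟨1, one_mem _, by rw [r]; simp⟩
    · exact ⟨e, heD, r.symm⟩
    · exact ⟨φ e, M.good.inv e heD, by rw [r, map_mul, map_mul]⟩
    · exact ⟨φ (φ e), M.good.inv _ (M.good.inv e heD), by simp only [r, map_mul]⟩
  -- the action of an element with square inside on a commutator
  have hinvert : ∀ y : T, y * y ∈ D → ∀ d ∈ D, cm y (cm y d) * (cm y d * cm y d) = 1 := by
    intro y hy d hd
    have h1 : cm (y * y) d = 1 := cm_eq_one.2 (M.good.comm _ hy _ hd)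
    rw [cm_mul_left] at h1
    have h2 : cm y (cm y d) = y * cm y d * y⁻¹ * (cm y d)⁻¹ := rfl
    rw [h2, show y * cm y d * y⁻¹ * (cm y d)⁻¹ * (cm y d * cm y d) = y * cm y d * y⁻¹ * cm y d by group, h1]
  -- first step
  have L1 : ∀ y ∈ XX φ, y * y ∈ D → ∀ d ∈ D, d * d * (d * d) = 1 → cm y d = 1 := by
    intro y hy hy2 d hd hd4
    by_contra hu
    have hall : ∀ e ∈ D, e * e * (e * e) = 1 → e * e ≠ 1 → cm y e = e * e := by
      intro e he he4 he2
      have hne1 : cm y e ≠ 1 := fun hk => hu (M.kill_all h hy he he4 he2 hk hd hd4)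
      have hev : e * e ∈ V := (M.v_iff _).2 ⟨mul_mem he he, he4⟩
      obtain ⟨g, hg, hg4⟩ := hfour _ hev
      have hw : e⁻¹ * (g * g) ∈ V := (M.v_iff _).2 ⟨mul_mem (inv_mem he) (mul_mem hg hg), by
        rw [(show Commute (g * g) e⁻¹ from M.good.comm _ (mul_mem hg hg) _ (inv_mem he)).mul_mul_mul_comm, hg4,
          ← mul_inv_rev, inv_mul_cancel]⟩
      have hgu : cm y (g * g) = cm y e := by
        rw [show g * g = e * (e⁻¹ * (g * g)) by group, M.cm_mul_D y he (M.v_le hw), M.cm_V y hw, mul_one]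
      set δ := cm y g with hδ
      have hδD : δ ∈ D := M.cm_D y hg
      have hδ2 : δ * δ = cm y e := by rw [← M.cm_mul_D y hg hg, hgu]
      have hu2 := M.v_sq (M.cm_four y he he4)
      have hδu : cm y δ = cm y e := by
        have := hinvert y hy2 g hg
        rw [← hδ, hδ2] at this
        rw [eq_inv_of_mul_eq_one_left this, inv_eq_of_mul_eq_one_right hu2]
      have hk : cm y (e * δ) = 1 := by rw [M.cm_mul_D y he hδD, hδu, hu2]
      have hsq : e * δ * (e * δ) = e * e * cm y e := by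
        rw [(show Commute δ e from M.good.comm _ hδD _ he).mul_mul_mul_comm, hδ2]
      have h1 : e * δ * (e * δ) = 1 := by
        by_contra h2
        refine hu (M.kill_all h hy (mul_mem he hδD) ?_ h2 hk hd hd4)
        rw [hsq]; exact M.v_sq (mul_mem hev (M.cm_four y he he4))
      rw [hsq] at h1
      rw [← inv_eq_of_mul_eq_one_right h1, inv_eq_of_mul_eq_one_right he4]
    have hd2 : d * d ≠ 1 := fun e => hu (M.cm_V y ((M.v_iff _).2 ⟨hd, e⟩))
    have hs := M.star h hy hd hd4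
    have hd1 := M.four_map hd4
    have hd22 := M.four_map hd1
    rw [M.cm_phi y d, M.cm_phi (φ y) d, M.cm_phi y (φ (φ d)), M.cube, hall d hd hd4 hd2,
      hall _ (M.good.inv _ (M.good.inv d hd)) hd22 (fun e => hd2 (by
        rw [← map_mul, ← map_mul] at e; exact φ.map_eq_one_iff.1 (φ.map_eq_one_iff.1 e))),
      hall _ (M.good.inv d hd) hd1 (fun e => hd2 (by rw [← map_mul] at e; exact φ.map_eq_one_iff.1 e))] at hs
    simp only [← map_mul, M.cube] at hs
    rw [hd4, one_mul] at hs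
    exact hd2 hs
  -- second step
  have L2 : ∀ y ∈ XX φ, y * y ∈ D → ∀ d ∈ D, cm y d ∈ V := by
    intro y hy hy2
    suffices H : ∀ (k : ℕ) (d : T), d ∈ D → d ^ 2 ^ k = 1 → cm y d * cm y d = 1 by
      intro d hd
      obtain ⟨k, hk⟩ := h.two d
      exact (M.v_iff _).2 ⟨M.cm_D y hd, H k d hd hk⟩
    intro k
    induction k with
    | zero =>
      intro d hd hk
      rw [pow_zero, pow_one] at hk
      rw [hk, show cm y (1 : T) = 1 by simp [cm], one_mul]
    | succ k ih =>
      intro d hd hk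
      have h1 := ih (d * d) (mul_mem hd hd) (by rw [← pow_two, ← pow_mul, ← pow_succ']; exact hk)
      rw [M.cm_mul_D y hd hd] at h1
      have := hinvert y hy2 d hd
      rwa [L1 y hy hy2 _ (M.cm_D y hd) h1, one_mul] at this
  set SQ := sqs D M.good.comm with hSQ
  have hkill : ∀ y ∈ XX φ, y * y ∈ D → ∀ s ∈ SQ, cm y s = 1 := by
    rintro y hy hy2 s ⟨d, hd, rfl⟩
    rw [M.cm_mul_D y hd hd, M.v_sq (L2 y hy hy2 d hd)]
  have hcoset : ∀ y ∈ XX φ, y * y ∈ D → ∀ d ∈ D, ∀ e ∈ D, d⁻¹ * e ∈ SQ → cm y e = cm y d := by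
    intro y hy hy2 d hd e he hm
    rw [show e = d * (d⁻¹ * e) by group, M.cm_mul_D y hd (M.sqs_le hm), hkill y hy hy2 _ hm, mul_one]
  -- an element injective on the cosets
  obtain ⟨y, hy, hyD, hinj⟩ : ∃ y ∈ M.nearer, y ∉ D ∧ ∀ d ∈ D, cm y d = 1 → d ∈ SQ := by
    haveI := XX_normal (φ := φ)
    obtain ⟨y, hyX, hyD, hy2, hyg⟩ := exists_step h.two M.good.nor inferInstance hne
    by_cases hi : ∀ d ∈ D, cm y d = 1 → d ∈ SQ
    · exact ⟨y, ⟨hyX, hy2, hyg⟩, hyD, hi⟩
    push Not at hi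
    obtain ⟨d, hd, hk, hdS⟩ := hi
    have hd1 := M.good.inv d hd
    have hd2 := M.good.inv _ hd1
    have h3 : (φ (φ d))⁻¹ * (d * φ d) ∈ SQ := by
      rcases M.d_list h hd hdS (mul_mem hd hd1) with e | e | e | e
      · exfalso
        refine M.shift_not_sqs h hd hdS ?_
        have := mul_mem (inv_mem (show d * d ∈ SQ from ⟨d, hd, rfl⟩)) e
        rwa [show (d * d)⁻¹ * (d * φ d) = d⁻¹ * φ d by group] at this
      · exfalso
        rw [inv_mul_cancel_left] at e
        have := M.sqs_inv (M.sqs_inv e)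
        rw [M.cube] at this
        exact hdS this
      · exfalso
        rw [M.good.comm d hd _ hd1, inv_mul_cancel_left] at e
        exact hdS e
      · exact e
    have e12 : cm y (φ (φ d)) = cm y (φ d) := by
      rw [← hcoset y hyX hy2 _ hd2 _ (mul_mem hd hd1) h3, M.cm_mul_D y hd hd1, hk, one_mul]
    set c := cm y (φ d) with hc
    have hcV : c ∈ V := L2 y hyX hy2 _ hd1
    have hc1 : c ≠ 1 := by
      intro hc1
      refine hyD (M.centralizer_le h hyX fun e he => cm_eq_one.1 ?_)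
      rcases M.d_list h hd hdS he with r | r | r | r
      · exact hkill y hyX hy2 e r
      · rw [hcoset y hyX hy2 d hd e he r, hk]
      · rw [hcoset y hyX hy2 _ hd1 e he r, ← hc, hc1]
      · rw [hcoset y hyX hy2 _ hd2 e he r, e12, hc1]
    have hy1 : φ y ∈ M.nearer := ⟨map_mem_XX hyX, by rw [← map_mul]; exact M.good.inv _ hy2, fun g => by
      have := M.good.inv _ (hyg (φ.symm g))
      rwa [cm_map, MulEquiv.apply_symm_apply] at this⟩
    have hw : y * φ y ∈ M.nearer := mul_mem ⟨hyX, hy2, hyg⟩ hy1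
    have hval : ∀ e ∈ D, cm (y * φ y) e = φ (cm y (φ (φ e))) * cm y e := fun e he => by
      rw [M.cm_mul_V (L2 _ hy1.1 hy1.2.1 e he), M.cm_phi]
    have hnz : ∀ e ∈ D, e ∉ SQ → cm (y * φ y) e ≠ 1 := by
      intro e he heS
      rcases M.d_list h hd hdS he with r | r | r | r
      · exact absurd r heS
      · rw [hcoset _ hw.1 hw.2.1 d hd e he r, hval d hd, hk, mul_one, e12]
        exact fun q => hc1 (φ.map_eq_one_iff.1 q)
      · rw [hcoset _ hw.1 hw.2.1 _ hd1 e he r, hval _ hd1, M.cube, hk, map_one, one_mul]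
        exact hc1
      · rw [hcoset _ hw.1 hw.2.1 _ hd2 e he r, hval _ hd2, M.cube, e12, ← hc]
        intro q
        refine hc1 (M.free c hcV ?_)
        rw [eq_inv_of_mul_eq_one_left q, inv_eq_of_mul_eq_one_right (M.v_sq hcV)]
    refine ⟨y * φ y, hw, fun hin => hnz d hd hdS (cm_eq_one.2 (M.good.comm _ hin _ hd)), fun e he hk' => ?_⟩
    by_contra heS
    exact hnz e he heS hk'
  obtain ⟨hyX, hy2, hyg⟩ := hy
  -- the square is a square of the subgroup
  have hySQ : y * y ∈ SQ := hinj _ hy2 (cm_eq_one.2 (mul_assoc y y y).symm)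
  let g : D →* SQ := MonoidHom.mk'
    (fun c => ⟨(c : T) * c * cm y c, mul_mem ⟨c, c.2, rfl⟩ (M.v_sqs (L2 y hyX hy2 _ c.2))⟩)
    fun a b => Subtype.ext (by
      show (a : T) * b * (a * b) * cm y (a * b) = a * a * cm y a * (b * b * cm y b)
      rw [(show Commute (b : T) a from M.good.comm _ b.2 _ a.2).mul_mul_mul_comm, M.cm_mul_D y a.2 b.2,
        (show Commute ((b : T) * b) (cm y (a : T)) from
          (M.v_comm (L2 y hyX hy2 _ a.2) _)).mul_mul_mul_comm])
  have hker : ∀ c ∈ D, c * c * cm y c = 1 → c ∈ V := by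
    intro c hc h1
    have h2 : c * c ∈ V := by
      rw [eq_inv_of_mul_eq_one_left h1]; exact inv_mem (L2 y hyX hy2 c hc)
    rw [L1 y hyX hy2 c hc (M.v_sq h2), mul_one] at h1
    exact (M.v_iff _).2 ⟨hc, h1⟩
  have hsurj : Function.Surjective g := by
    have h1 := g.ker.card_eq_card_quotient_mul_card_subgroup
    rw [Nat.card_congr (QuotientGroup.quotientKerEquivRange g).toEquiv, M.card_sqs] at h1
    have h2 : Nat.card g.ker ≤ 4 := by
      rw [← M.card]
      exact Nat.card_le_card_of_injective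
        (fun c : g.ker => (⟨((c : D) : T), hker _ (c : D).2 (congrArg Subtype.val c.2)⟩ : V))
        fun a b e => Subtype.ext (Subtype.ext (congrArg (fun v : V => (v : T)) e :))
    have h3 := Subgroup.card_le_card_group g.range
    have h5 : (g.range : Subgroup SQ) = ⊤ := by
      refine Subgroup.eq_top_of_card_eq _ (le_antisymm h3 ?_)
      nlinarith
    exact MonoidHom.range_eq_top.1 h5
  obtain ⟨⟨d, hd⟩, hgd⟩ := hsurj ⟨(y * y)⁻¹, inv_mem hySQ⟩
  have hgd' : d * d * cm y d = (y * y)⁻¹ := congrArg Subtype.val hgd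
  set s := d * y with hs
  have hs2 : s * s = 1 := by
    have hc := M.good.comm _ (M.cm_D y hd) _ hd
    calc s * s = d * (cm y d * d) * (y * y) := by simp only [hs, cm]; group
      _ = d * d * cm y d * (y * y) := by rw [hc]; group
      _ = 1 := by rw [hgd', inv_mul_cancel]
  have hsV : s ∈ V := M.mem_V h hs2 fun k => by
    set c := cm k s with hc
    have hcD : c ∈ D := by
      rw [hc, hs, cm_mul_right]
      exact mul_mem (M.cm_D k hd) (M.good.nor.conj_mem _ (hyg k) d)
    refine hker c hcD ?_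
    have h1 : c * s * (c * s) = 1 := by
      have e : c * s = k * s * k⁻¹ := by simp only [hc, cm]; group
      rw [e, show k * s * k⁻¹ * (k * s * k⁻¹) = k * (s * s) * k⁻¹ by group, hs2]; group
    have h2 : s * c * s⁻¹ = c⁻¹ := by
      rw [eq_inv_iff_mul_eq_one, inv_eq_of_mul_eq_one_right hs2]
      calc s * c * s * c = c⁻¹ * (c * s * (c * s)) * c := by group
        _ = 1 := by rw [h1]; group
    have h3 : s * c * s⁻¹ = cm y c * c := by
      calc s * c * s⁻¹ = d * (cm y c * c) * d⁻¹ := by simp only [hs, cm]; group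
        _ = _ := by rw [M.good.comm d hd _ (mul_mem (M.cm_D y hcD) hcD), mul_inv_cancel_right]
    rw [h2] at h3
    calc c * c * cm y c = c * (c * cm y c) := mul_assoc _ _ _
      _ = c * (cm y c * c) := by rw [M.good.comm c hcD _ (M.cm_D y hcD)]
      _ = 1 := by rw [← h3, mul_inv_cancel]
  have := mul_mem (inv_mem hd) (M.v_le hsV)
  rw [hs, inv_mul_cancel_left] at this
  exact hyD this

/-- a proper one gives a special commutator -/
theorem special (hne : ¬ XX φ ≤ D) : Special φ := by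
  by_cases h4 : ∀ d ∈ D, d * d * (d * d) = 1
  · exact M.special_four h h4 hne
  · push Not at h4
    obtain ⟨f, hf, hf4⟩ := h4
    exact (M.not_deep h hf hf4 hne).elim

end Moved

end Cfsg.Lib.NormalRankTwo
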