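import Cfsg.Agent.NormalRankTwo.Four

/-!
A maximal abelian invariant normal subgroup moved by the automorphism.
-/

set_option autoImplicit false
set_option linter.unusedSectionVars false
set_option linter.style.haveILetI false

namespace Cfsg.Lib.NormalRankTwo

open Subgroup

variable {T : Type*} [Group T] [Finite T] {φ : MulAut T}

/-- the commutator of two elements -/
def cm (x y : T) : T := x * y * x⁻¹ * y⁻¹

theorem cm_eq_one {x y : T} : cm x y = 1 ↔ x * y = y * x := by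
  rw [cm, mul_inv_eq_one, mul_inv_eq_iff_eq_mul]

theorem cm_mul_left (x y d : T) : cm (x * y) d = x * cm y d * x⁻¹ * cm x d := by
  simp only [cm]; group

theorem cm_mul_right (x a b : T) : cm x (a * b) = cm x a * (a * cm x b * a⁻¹) := by
  simp only [cm]; group

theorem cm_map (ψ : MulAut T) (x y : T) : ψ (cm x y) = cm (ψ x) (ψ y) := by
  simp only [cm, map_mul, map_inv]

/-- the abelian invariant normal subgroups inside the commutator -/
structure Good (φ : MulAut T) (D : Subgroup T) : Prop where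
  le : D ≤ XX φ
  nor : D.Normal
  inv : ∀ x ∈ D, φ x ∈ D
  comm : ∀ a ∈ D, ∀ b ∈ D, a * b = b * a

/-- a maximal one moved by the automorphism, with its involutions `V`, the group having exponent at least four -/
structure Moved (φ : MulAut T) (D V : Subgroup T) : Prop where
  good : Good φ D
  max : ∀ B, Good φ B → D ≤ B → B ≤ D
  v_iff : ∀ v, v ∈ V ↔ v ∈ D ∧ v * v = 1
  free : ∀ v ∈ V, φ v = v → v = 1
  cen : V ≤ center T
  three : orderOf φ = 3
  card : Nat.card V = 4
  rot : ∀ v ∈ V, v * φ v = φ (φ v)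
  list : ∀ v ∈ V, v ≠ 1 → ∀ u ∈ V, u = 1 ∨ u = v ∨ u = φ v ∨ u = φ (φ v)
  root : ∀ v ∈ V, ∃ d ∈ D, d * d = v

/-- the squares of an abelian subgroup -/
def sqs (D : Subgroup T) (hc : ∀ a ∈ D, ∀ b ∈ D, a * b = b * a) : Subgroup T where
  carrier := {x | ∃ d ∈ D, d * d = x}
  one_mem' := ⟨1, one_mem _, one_mul 1⟩
  mul_mem' := fun {a b} ha hb => by
    obtain ⟨d, hd, rfl⟩ := ha
    obtain ⟨e, he, rfl⟩ := hb
    exact ⟨d * e, mul_mem hd he, (show Commute e d from hc e he d hd).mul_mul_mul_comm d e⟩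
  inv_mem' := fun {a} ha => by
    obtain ⟨d, hd, rfl⟩ := ha
    exact ⟨d⁻¹, inv_mem hd, by rw [mul_inv_rev]⟩

/-- an element of a normal subgroup outside another, central of order two modulo it -/
theorem exists_step (hT : IsPGroup 2 T) {D N : Subgroup T} (hD : D.Normal) (hN : N.Normal) (hne : ¬ N ≤ D) :
    ∃ x ∈ N, x ∉ D ∧ x * x ∈ D ∧ ∀ g : T, cm g x ∈ D := by
  haveI : Fact (Nat.Prime 2) := ⟨Nat.prime_two⟩
  haveI := hD
  set π := QuotientGroup.mk' D
  haveI : (N.map π).Normal := hN.map π (QuotientGroup.mk'_surjective D)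
  have hb : N.map π ≠ ⊥ := fun e => hne fun x hx => by
    have : π x ∈ (⊥ : Subgroup (T ⧸ D)) := e ▸ mem_map_of_mem π hx
    exact (QuotientGroup.eq_one_iff x).1 this
  obtain ⟨q, ⟨x, hx, rfl⟩, hqc, hqo⟩ :=
    Cfsg.Lib.PGroups.exists_mem_center_of_normal_ne_bot (hT.to_quotient D) hb
  refine ⟨x, hx, fun hxD => ?_, ?_, fun g => ?_⟩
  · rw [show π x = 1 from (QuotientGroup.eq_one_iff x).2 hxD, orderOf_one] at hqo; omega
  · rw [← QuotientGroup.eq_one_iff, QuotientGroup.mk_mul]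
    have := pow_orderOf_eq_one (π x)
    rwa [hqo, pow_two] at this
  · rw [← QuotientGroup.eq_one_iff, ← QuotientGroup.mk'_apply, cm, map_mul, map_mul, map_mul, map_inv, map_inv,
      mem_center_iff.1 hqc (π g), mul_inv_cancel_right, mul_inv_cancel]

namespace Moved

variable {D V : Subgroup T} (h : Ctx T φ) (M : Moved φ D V)

include M

theorem v_le : V ≤ D := fun v hv => ((M.v_iff v).1 hv).1

theorem v_sq {v : T} (hv : v ∈ V) : v * v = 1 := ((M.v_iff v).1 hv).2

theorem v_comm {v : T} (hv : v ∈ V) (g : T) : g * v = v * g := mem_center_iff.1 (M.cen hv) g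

theorem v_inv {v : T} (hv : v ∈ V) : φ v ∈ V :=
  (M.v_iff _).2 ⟨M.good.inv _ (M.v_le hv), by rw [← map_mul, M.v_sq hv, map_one]⟩

theorem v_conj {v : T} (hv : v ∈ V) (g : T) : g * v * g⁻¹ = v := by
  rw [M.v_comm hv g, mul_inv_cancel_right]

theorem cube (x : T) : φ (φ (φ x)) = x := by
  have := DFunLike.congr_fun (pow_orderOf_eq_one φ) x
  rwa [M.three, show (3 : ℕ) = 1 + 1 + 1 from rfl, pow_succ, pow_succ, pow_one] at this

theorem cm_D (x : T) {d : T} (hd : d ∈ D) : cm x d ∈ D :=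
  mul_mem (M.good.nor.conj_mem d hd x) (inv_mem hd)

theorem cm_mul_D (x : T) {a b : T} (ha : a ∈ D) (hb : b ∈ D) : cm x (a * b) = cm x a * cm x b := by
  rw [cm_mul_right, M.good.comm a ha _ (M.cm_D x hb), mul_inv_cancel_right]

theorem cm_V (x : T) {v : T} (hv : v ∈ V) : cm x v = 1 := cm_eq_one.2 (M.v_comm hv x)

theorem cm_mul_V {x y d : T} (hy : cm y d ∈ V) : cm (x * y) d = cm y d * cm x d := by
  rw [cm_mul_left, M.v_conj hy]

include h

theorem fix_D {d : T} (hd : d ∈ D) (hf : φ d = d) : d = 1 := by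
  obtain ⟨k, hk⟩ := IsPGroup.iff_orderOf.1 h.two d
  rcases k with _ | k
  · rwa [pow_zero, orderOf_eq_one_iff] at hk
  exfalso
  have h2 : d ^ 2 ^ k ∈ V := (M.v_iff _).2 ⟨pow_mem hd _, by
    rw [← pow_add, ← two_mul, ← pow_succ', ← hk, pow_orderOf_eq_one]⟩
  have h3 := M.free _ h2 (by rw [map_pow, hf])
  have := orderOf_dvd_of_pow_eq_one h3
  rw [hk, Nat.pow_dvd_pow_iff_le_right (by norm_num)] at this
  omega

omit h in
theorem card_sqs : Nat.card D = Nat.card (sqs D M.good.comm) * 4 := by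
  let f : D →* T := MonoidHom.mk' (fun d => (d : T) * d) fun a b =>
    (show Commute (b : T) a from M.good.comm b b.2 a a.2).mul_mul_mul_comm (a : T) b
  have h1 := f.ker.card_eq_card_quotient_mul_card_subgroup
  rw [Nat.card_congr (QuotientGroup.quotientKerEquivRange f).toEquiv] at h1
  have h2 : f.range = sqs D M.good.comm := by
    ext x
    exact ⟨fun ⟨d, hd⟩ => ⟨d, d.2, hd⟩, fun ⟨d, hd, e⟩ => ⟨⟨d, hd⟩, e⟩⟩
  have h3 : Nat.card f.ker = Nat.card V :=
    Nat.card_congr ⟨fun d => ⟨(d : D), (M.v_iff _).2 ⟨(d : D).2, d.2⟩⟩,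
      fun v => ⟨⟨v, M.v_le v.2⟩, M.v_sq v.2⟩, fun _ => rfl, fun _ => rfl⟩
  rwa [h2, h3, M.card] at h1

omit h in
theorem sqs_le : sqs D M.good.comm ≤ D := by
  rintro x ⟨d, hd, rfl⟩; exact mul_mem hd hd

omit h in
theorem sqs_inv {x : T} (hx : x ∈ sqs D M.good.comm) : φ x ∈ sqs D M.good.comm := by
  obtain ⟨d, hd, rfl⟩ := hx
  exact ⟨φ d, M.good.inv d hd, (map_mul φ d d).symm⟩

omit h in
theorem v_sqs {v : T} (hv : v ∈ V) : v ∈ sqs D M.good.comm := M.root v hv

/-- a non-square is moved off its coset -/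
theorem shift_not_sqs {d : T} (hd : d ∈ D) (hdS : d ∉ sqs D M.good.comm) : d⁻¹ * φ d ∉ sqs D M.good.comm := by
  intro hc
  obtain ⟨r, hr, hdr⟩ := h.exists_fixed (fun x hx => M.sqs_inv hx) hc
  have hrD : r ∈ D := by
    have := mul_mem hd (M.sqs_le hdr)
    rwa [mul_inv_cancel_left] at this
  rw [M.fix_D h hrD hr, mul_one, inv_mem_iff] at hdr
  exact hdS hdr

/-- the four cosets of the squares -/
theorem d_list {d : T} (hd : d ∈ D) (hdS : d ∉ sqs D M.good.comm) {e : T} (he : e ∈ D) :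
    e ∈ sqs D M.good.comm ∨ d⁻¹ * e ∈ sqs D M.good.comm ∨ (φ d)⁻¹ * e ∈ sqs D M.good.comm ∨
      (φ (φ d))⁻¹ * e ∈ sqs D M.good.comm := by
  set SQ := sqs D M.good.comm
  have h01 : φ d ∉ SQ := fun hc => hdS (by
    have := M.sqs_inv (M.sqs_inv hc); rwa [M.cube] at this)
  have h02 : φ (φ d) ∉ SQ := fun hc => hdS (by
    have := M.sqs_inv hc; rwa [M.cube] at this)
  have h12 : d⁻¹ * φ d ∉ SQ := M.shift_not_sqs h hd hdS
  have h23 : (φ d)⁻¹ * φ (φ d) ∉ SQ := M.shift_not_sqs h (M.good.inv d hd) h01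
  have h13 : d⁻¹ * φ (φ d) ∉ SQ := fun hc => by
    have h1 := inv_mem (M.sqs_inv hc)
    rw [map_mul, map_inv, M.cube, mul_inv_rev, inv_inv] at h1
    exact h12 h1
  let r : Fin 4 → T := ![1, d, φ d, φ (φ d)]
  have hr : ∀ i, r i ∈ D := by
    intro i; fin_cases i <;> simp [r, one_mem, hd, M.good.inv d hd, M.good.inv _ (M.good.inv d hd)]
  let f : Fin 4 × SQ → D := fun p => ⟨r p.1 * p.2, mul_mem (hr _) (M.sqs_le p.2.2)⟩
  have hf : Function.Injective f := by
    rintro ⟨i, s⟩ ⟨j, t⟩ hij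
    have e : r i * (s : T) = r j * (t : T) := congrArg Subtype.val hij
    have hm : (r i)⁻¹ * r j ∈ SQ := by
      rw [show (r i)⁻¹ * r j = (s : T) * (t : T)⁻¹ by
        rw [eq_mul_inv_iff_mul_eq, mul_assoc, ← e, inv_mul_cancel_left]]
      exact mul_mem s.2 (inv_mem t.2)
    have hm' : (r j)⁻¹ * r i ∈ SQ := by simpa using inv_mem hm
    have hij' : i = j := by
      fin_cases i <;> fin_cases j <;>
        simp only [r, Fin.zero_eta, Fin.mk_one, Fin.reduceFinMk, Matrix.cons_val_zero, Matrix.cons_val_one,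
          Matrix.cons_val, inv_one, one_mul] at hm hm' ⊢ <;>
        first
          | exact absurd hm hdS | exact absurd hm' hdS | exact absurd hm h01 | exact absurd hm' h01
          | exact absurd hm h02 | exact absurd hm' h02 | exact absurd hm h12 | exact absurd hm' h12
          | exact absurd hm h13 | exact absurd hm' h13 | exact absurd hm h23 | exact absurd hm' h23
    subst hij'
    exact Prod.ext rfl (Subtype.ext (mul_left_cancel e))
  have hb : Function.Bijective f := (Nat.bijective_iff_injective_and_card f).2 ⟨hf, by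
    rw [Nat.card_prod, Nat.card_eq_fintype_card, Fintype.card_fin, M.card_sqs, mul_comm]⟩
  obtain ⟨⟨i, s⟩, hp⟩ := hb.2 ⟨e, he⟩
  have e' : r i * (s : T) = e := congrArg Subtype.val hp
  subst e'
  fin_cases i <;> simp [r]

/-- an involution central modulo `V` lies in `V` -/
theorem mem_V {s : T} (hs : s * s = 1) (hcomm : ∀ g : T, cm g s ∈ V) : s ∈ V := by
  obtain ⟨z, hz, hz1⟩ : ∃ z ∈ V, z ≠ 1 := by
    by_contra hno
    push Not at hno
    have h4 := M.card
    rw [(eq_bot_iff_forall V).2 hno, Subgroup.card_bot] at h4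
    omega
  exact h.no_ext ⟨fun v hv g => by rw [M.v_conj hv]; exact hv⟩ (fun v hv => M.v_sq hv) hz (M.v_inv hz) hz1
    (fun e => hz1 (φ.map_eq_one_iff.1 e)) (fun e => hz1 (M.free z hz e)) hs (fun v hv => M.v_comm hv s) hcomm

/-- the subgroup centralises only itself inside the commutator -/
theorem centralizer_le {x : T} (hx : x ∈ XX φ) (hc : ∀ d ∈ D, x * d = d * x) : x ∈ D := by
  set SQ := sqs D M.good.comm with hSQ
  let T0 : Subgroup T :=
    { carrier := {t | t ∈ XX φ ∧ (∀ d ∈ D, t * d = d * t) ∧ t * t ∈ D ∧ ∀ g : T, cm g t ∈ D}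
      one_mem' := ⟨one_mem _, fun d _ => by rw [one_mul, mul_one], by rw [one_mul]; exact one_mem D,
        fun g => by rw [show cm g (1 : T) = 1 by simp [cm]]; exact one_mem D⟩
      mul_mem' := by
        rintro a b ⟨ha, hac, ha2, hag⟩ ⟨hb, hbc, hb2, hbg⟩
        refine ⟨mul_mem ha hb, fun d hd => by rw [mul_assoc, hbc d hd, ← mul_assoc, hac d hd, mul_assoc], ?_,
          fun g => ?_⟩
        · have h1 := hag b
          rw [show a * b * (a * b) = a * cm b a * a⁻¹ * (a * a) * (b * b) by simp only [cm]; group]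
          exact mul_mem (mul_mem (M.good.nor.conj_mem _ h1 a) ha2) hb2
        · rw [show cm g (a * b) = cm g a * (a * cm g b * a⁻¹) from cm_mul_right g a b]
          exact mul_mem (hag g) (M.good.nor.conj_mem _ (hbg g) a)
      inv_mem' := by
        rintro a ⟨ha, hac, ha2, hag⟩
        refine ⟨inv_mem ha, fun d hd => ?_, by rw [← mul_inv_rev]; exact inv_mem ha2, fun g => ?_⟩
        · calc a⁻¹ * d = a⁻¹ * (d * a) * a⁻¹ := by group
            _ = a⁻¹ * (a * d) * a⁻¹ := by rw [hac d hd]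
            _ = d * a⁻¹ := by group
        · rw [show cm g a⁻¹ = a⁻¹ * (cm g a)⁻¹ * a⁻¹⁻¹ by simp only [cm]; group]
          exact M.good.nor.conj_mem _ (inv_mem (hag g)) _ }
  have hDT : D ≤ T0 := fun d hd => ⟨M.good.le hd, fun e he => M.good.comm d hd e he, mul_mem hd hd,
    fun g => M.cm_D g hd⟩
  have hinj : ∀ t ∈ T0, t * t ∈ SQ → t ∈ D := by
    rintro t ⟨-, htc, -, htg⟩ ⟨d, hd, hdt⟩
    set s := t * d⁻¹ with hs
    have hs2 : s * s = 1 := by
      rw [hs, show t * d⁻¹ * (t * d⁻¹) = t * (d⁻¹ * t) * d⁻¹ by group, ← htc _ (inv_mem hd),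
        show t * (t * d⁻¹) * d⁻¹ = t * t * (d * d)⁻¹ by group, hdt, mul_inv_cancel]
    have hsV : s ∈ V := M.mem_V h hs2 fun g => by
      have hgD : cm g s ∈ D := by
        rw [hs, cm_mul_right]
        exact mul_mem (htg g) (M.good.nor.conj_mem _ (M.cm_D g (inv_mem hd)) t)
      refine (M.v_iff _).2 ⟨hgD, ?_⟩
      have e : cm g s * s = g * s * g⁻¹ := by simp only [cm]; group
      have hcs : cm g s * s = s * cm g s := by
        rw [hs, ← mul_assoc, ← htc _ hgD, mul_assoc, mul_assoc, M.good.comm _ hgD _ (inv_mem hd)]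
      have h2 : cm g s * s * (cm g s * s) = 1 := by
        rw [e, show g * s * g⁻¹ * (g * s * g⁻¹) = g * (s * s) * g⁻¹ by group, hs2]; group
      calc cm g s * cm g s = cm g s * cm g s * (s * s) := by rw [hs2, mul_one]
        _ = cm g s * (cm g s * s) * s := by group
        _ = cm g s * (s * cm g s) * s := by rw [hcs]
        _ = cm g s * s * (cm g s * s) := by group
        _ = 1 := h2
    have := mul_mem (M.v_le hsV) hd
    rwa [hs, inv_mul_cancel_right] at this
  have hinvT : ∀ t ∈ T0, φ t ∈ T0 := by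
    rintro t ⟨ht, htc, ht2, htg⟩
    refine ⟨map_mem_XX ht, fun d hd => ?_, by rw [← map_mul]; exact M.good.inv _ ht2, fun g => ?_⟩
    · have e := congrArg φ (htc _ (h.symm_mem M.good.inv hd))
      simpa using e
    · have := M.good.inv _ (htg (φ.symm g))
      rwa [cm_map, MulEquiv.apply_symm_apply] at this
  have hTab : ∀ u ∈ T0, ∀ w ∈ T0, u * w = w * u := by
    by_contra hne
    push Not at hne
    obtain ⟨u, hu, w, hw, hne⟩ := hne
    obtain ⟨a, ha, haD⟩ : ∃ a ∈ T0, a ∉ D := by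
      by_contra hno
      push Not at hno
      exact hne (M.good.comm u (hno u hu) w (hno w hw))
    have ha1 := hinvT a ha
    have ha2 := hinvT _ ha1
    have hcval : ∀ p ∈ T0, ∀ q ∈ T0, cm p q ∈ V := fun p hp q hq => by
      have hD' : cm p q ∈ D := hq.2.2.2 p
      refine (M.v_iff _).2 ⟨hD', ?_⟩
      calc cm p q * cm p q = p * q * p⁻¹ * q⁻¹ * cm p q := rfl
        _ = p * (q * p⁻¹ * q⁻¹ * cm p q) := by group
        _ = p * (cm p q * (q * p⁻¹ * q⁻¹)) := by
          have c1 : q * p⁻¹ * q⁻¹ * cm p q = cm p q * (q * p⁻¹ * q⁻¹) := by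
            have hpi := (inv_mem hp : p⁻¹ ∈ T0)
            exact (mul_mem (mul_mem hq hpi) (inv_mem hq) : q * p⁻¹ * q⁻¹ ∈ T0).2.1 _ hD'
          rw [c1]
        _ = p * p * q * p⁻¹ * (q⁻¹ * q) * p⁻¹ * q⁻¹ := by simp only [cm]; group
        _ = p * p * q * (p * p)⁻¹ * q⁻¹ := by group
        _ = 1 := by rw [← hq.2.1 _ hp.2.2.1, mul_inv_cancel_right, mul_inv_cancel]
    -- equal squares modulo the squares give equal cosets
    have hsame : ∀ p ∈ T0, ∀ q ∈ T0, (p * p)⁻¹ * (q * q) ∈ SQ → p⁻¹ * q ∈ D := by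
      intro p hp q hq hm
      refine hinj _ (mul_mem (inv_mem hp) hq) ?_
      have hv := M.v_sqs (hcval q hq p⁻¹ (inv_mem hp))
      have e : p⁻¹ * q * (p⁻¹ * q) = cm q p⁻¹ * ((p * p)⁻¹ * (q * q)) := by
        have hc := M.v_conj (hcval q hq p⁻¹ (inv_mem hp)) p⁻¹
        calc p⁻¹ * q * (p⁻¹ * q) = p⁻¹ * cm q p⁻¹ * p⁻¹⁻¹ * (p⁻¹ * p⁻¹ * q * q) := by simp only [cm]; group
          _ = _ := by rw [hc]; group
      rw [e]
      exact mul_mem hv hm
    have haa : a * a ∉ SQ := fun hc => haD (hinj a ha hc)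
    have hlist : ∀ t ∈ T0, t ∈ D ∨ a⁻¹ * t ∈ D ∨ (φ a)⁻¹ * t ∈ D ∨ (φ (φ a))⁻¹ * t ∈ D := by
      intro t ht
      rcases M.d_list h ha.2.2.1 haa ht.2.2.1 with e | e | e | e
      · exact Or.inl (hinj t ht e)
      · exact Or.inr (Or.inl (hsame a ha t ht e))
      · exact Or.inr (Or.inr (Or.inl (hsame _ ha1 t ht (by rwa [map_mul] at e))))
      · exact Or.inr (Or.inr (Or.inr (hsame _ ha2 t ht (by rwa [map_mul, map_mul] at e))))
    have h01 : a⁻¹ * φ a ∉ D := fun hc => by
      obtain ⟨r, hr, hdr⟩ := h.exists_fixed M.good.inv hc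
      have hr0 : r ∈ T0 := by
        have := mul_mem ha (hDT hdr)
        rwa [mul_inv_cancel_left] at this
      have hrD : r ∈ D := hinj r hr0 (by
        rw [M.fix_D h hr0.2.2.1 (by rw [map_mul, mem_FX.1 hr])]; exact one_mem SQ)
      rw [M.fix_D h hrD hr, mul_one, inv_mem_iff] at hdr
      exact haD hdr
    -- the third coset is that of the product
    have h3 : (φ (φ a))⁻¹ * (a * φ a) ∈ D := by
      rcases hlist _ (mul_mem ha ha1) with e | e | e | e
      · exfalso
        refine h01 ?_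
        have h4 : a * φ a * (φ a * φ a)⁻¹ ∈ D := mul_mem e (inv_mem ha1.2.2.1)
        rw [show a * φ a * (φ a * φ a)⁻¹ = a * (φ a)⁻¹ by group] at h4
        have h5 := M.good.nor.conj_mem _ (inv_mem h4) a⁻¹
        rwa [show a⁻¹ * (a * (φ a)⁻¹)⁻¹ * a⁻¹⁻¹ = a⁻¹ * φ a by group] at h5
      · rw [inv_mul_cancel_left] at e
        exact absurd (by have := M.good.inv _ (M.good.inv _ e); rwa [M.cube] at this) haD
      · exfalso
        have h4 := M.good.nor.conj_mem _ e (φ a)
        rw [show φ a * ((φ a)⁻¹ * (a * φ a)) * (φ a)⁻¹ = a by group] at h4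
        exact haD h4
      · exact e
    set d₀ := (φ (φ a))⁻¹ * (a * φ a) with hd₀
    have h3' : φ (φ a) = a * φ a * d₀⁻¹ := by rw [hd₀]; group
    set c := cm a (φ a) with hc
    have hcV : c ∈ V := hcval a ha _ ha1
    have hc1 : c = 1 := by
      refine M.free c hcV ?_
      have hd' : φ a * d₀⁻¹ = d₀⁻¹ * φ a := ha1.2.1 _ (inv_mem h3)
      calc φ c = cm (φ a) (φ (φ a)) := cm_map φ a (φ a)
        _ = cm (φ a) (a * φ a) := by
          rw [h3', cm_mul_right, cm_eq_one.2 hd', mul_one, mul_inv_cancel, mul_one]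
        _ = cm (φ a) a := by simp only [cm]; group
        _ = c⁻¹ := by simp only [hc, cm]; group
        _ = c := inv_eq_of_mul_eq_one_right (M.v_sq hcV)
    have c1 : a * φ a = φ a * a := cm_eq_one.1 hc1
    have c2 : φ a * φ (φ a) = φ (φ a) * φ a := by rw [← map_mul, c1, map_mul]
    have c3 : φ (φ a) * a = a * φ (φ a) := by
      have e := congrArg φ c2
      rwa [map_mul, map_mul, M.cube] at e
    have hrep : ∀ t ∈ T0, ∃ r, (r = 1 ∨ r = a ∨ r = φ a ∨ r = φ (φ a)) ∧ r⁻¹ * t ∈ D := by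
      intro t ht
      rcases hlist t ht with e | e | e | e
      · exact ⟨1, Or.inl rfl, by rwa [inv_one, one_mul]⟩
      · exact ⟨a, Or.inr (Or.inl rfl), e⟩
      · exact ⟨_, Or.inr (Or.inr (Or.inl rfl)), e⟩
      · exact ⟨_, Or.inr (Or.inr (Or.inr rfl)), e⟩
    obtain ⟨p, hp, hpu⟩ := hrep u hu
    obtain ⟨q, hq, hqw⟩ := hrep w hw
    have hT : ∀ {r : T}, (r = 1 ∨ r = a ∨ r = φ a ∨ r = φ (φ a)) → r ∈ T0 := by
      rintro r (rfl | rfl | rfl | rfl)
      exacts [one_mem _, ha, ha1, ha2]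
    have hpq : p * q = q * p := by
      rcases hp with h | h | h | h <;> rcases hq with h' | h' | h' | h' <;> rw [h, h'] <;>
        first
          | exact c1 | exact c1.symm | exact c2 | exact c2.symm
          | exact c3 | exact c3.symm | simp only [one_mul, mul_one]
    refine hne ?_
    have k1 := (hT hp).2.1 _ hqw
    have k2 := (hT hq).2.1 _ hpu
    have k3 := M.good.comm _ hpu _ hqw
    set d := p⁻¹ * u with hdd
    set e := q⁻¹ * w with hee
    have hu' : u = p * d := by rw [hdd, mul_inv_cancel_left]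
    have hw' : w = q * e := by rw [hee, mul_inv_cancel_left]
    rw [hu', hw']
    calc p * d * (q * e) = p * (d * q) * e := by group
      _ = p * (q * d) * e := by rw [k2]
      _ = p * q * (d * e) := by group
      _ = q * p * (e * d) := by rw [hpq, k3]
      _ = q * (p * e) * d := by group
      _ = q * (e * p) * d := by rw [k1]
      _ = q * e * (p * d) := by group
  have hTle : T0 ≤ D := M.max T0 ⟨fun t ht => ht.1, ⟨fun t ht g => by
      obtain ⟨ht, htc, ht2, htg⟩ := ht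
      refine ⟨conj_mem_XX ht g, fun d hd => ?_, ?_, fun k => ?_⟩
      · have h1 := htc _ (M.good.nor.conj_mem d hd g⁻¹)
        calc g * t * g⁻¹ * d = g * (t * (g⁻¹ * d * g⁻¹⁻¹)) * g⁻¹ := by group
          _ = g * ((g⁻¹ * d * g⁻¹⁻¹) * t) * g⁻¹ := by rw [h1]
          _ = _ := by group
      · rw [show g * t * g⁻¹ * (g * t * g⁻¹) = g * (t * t) * g⁻¹ by group]
        exact M.good.nor.conj_mem _ ht2 g
      · rw [show cm k (g * t * g⁻¹) = g * cm (g⁻¹ * k * g) t * g⁻¹ by simp only [cm]; group]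
        exact M.good.nor.conj_mem _ (htg _) g⟩, hinvT, hTab⟩ hDT
  by_contra hxD
  have hN : (XX φ ⊓ centralizer (D : Set T)).Normal := ⟨fun t ht g => mem_inf.2 ⟨conj_mem_XX ht.1 g,
    mem_centralizer_iff.2 fun d hd => by
      have h1 := mem_centralizer_iff.1 ht.2 _ (M.good.nor.conj_mem d hd g⁻¹)
      calc d * (g * t * g⁻¹) = g * ((g⁻¹ * d * g⁻¹⁻¹) * t) * g⁻¹ := by group
        _ = g * (t * (g⁻¹ * d * g⁻¹⁻¹)) * g⁻¹ := by rw [h1]
        _ = _ := by group⟩⟩
  obtain ⟨t, ht, htD, ht2, htg⟩ := exists_step h.two M.good.nor hN fun hle =>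
    hxD (hle ⟨hx, mem_centralizer_iff.2 fun d hd => (hc d hd).symm⟩)
  exact htD (hTle ⟨ht.1, fun d hd => (mem_centralizer_iff.1 ht.2 d hd).symm, ht2, htg⟩)

end Moved

end Cfsg.Lib.NormalRankTwo
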