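import Cfsg.Agent.NormalRankTwo.SpecialSmall
import Cfsg.Agent.TwoLength.DerivedLength.Primitive

/-!
A quaternion commutator: every involution which is a square is central.
-/

set_option autoImplicit false
set_option linter.unusedSectionVars false
set_option linter.style.haveILetI false

namespace Cfsg.Lib.NormalRankTwo

open Subgroup

variable {T : Type*} [Group T] [Finite T]

/-- few involutions in the normal abelian subgroups -/
def FewInvol (T : Type*) [Group T] : Prop :=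
  ∀ A : Subgroup T, A.Normal → (∀ a ∈ A, ∀ b ∈ A, a * b = b * a) → {a : T | a ∈ A ∧ a * a = 1}.ncard ≤ 4

theorem closure_comm {s : Set T} (hcs : ∀ a ∈ s, ∀ b ∈ s, a * b = b * a) :
    ∀ a ∈ closure s, ∀ b ∈ closure s, a * b = b * a := by
  have h1 : ∀ g ∈ s, ∀ b ∈ closure s, b * g = g * b := fun g hg b hb => by
    refine mem_centralizer_singleton_iff.1 ((closure_le _).2 (fun k hk => ?_) hb : b ∈ centralizer ({g} : Set T))
    exact mem_centralizer_singleton_iff.2 (hcs k hk g hg)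
  intro a ha b hb
  refine mem_centralizer_singleton_iff.1 ((closure_le _).2 (fun k hk => ?_) ha : a ∈ centralizer ({b} : Set T))
  exact mem_centralizer_singleton_iff.2 (h1 k hk b hb).symm

theorem closure_normal_of {s : Set T} (hcj : ∀ g : T, ∀ a ∈ s, g * a * g⁻¹ ∈ closure s) : (closure s).Normal :=
  ⟨fun a ha g => by
    refine closure_induction (fun b hb => hcj g b hb) ?_ (fun b c _ _ hb hc => ?_) (fun b _ hb => ?_) ha
    · simp
    · rw [show g * (b * c) * g⁻¹ = g * b * g⁻¹ * (g * c * g⁻¹) by group]; exact mul_mem hb hc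
    · rw [show g * b⁻¹ * g⁻¹ = (g * b * g⁻¹)⁻¹ by group]; exact inv_mem hb⟩

theorem five_closure (hs : FewInvol T) {s : Set T} (hcs : ∀ a ∈ s, ∀ b ∈ s, a * b = b * a)
    (hcj : ∀ g : T, ∀ a ∈ s, g * a * g⁻¹ ∈ closure s) {a b c d e : T}
    (hm : ∀ x ∈ ({a, b, c, d, e} : Set T), x ∈ closure s ∧ x * x = 1)
    (hab : a ≠ b) (hac : a ≠ c) (had : a ≠ d) (hae : a ≠ e) (hbc : b ≠ c) (hbd : b ≠ d) (hbe : b ≠ e)
    (hcd : c ≠ d) (hce : c ≠ e) (hde : d ≠ e) : False := by
  have h1 := hs _ (closure_normal_of hcj) (closure_comm hcs)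
  have h2 : ({a, b, c, d, e} : Set T) ⊆ {x : T | x ∈ closure s ∧ x * x = 1} := fun x hx => hm x hx
  have h3 := Set.ncard_le_ncard h2 (Set.toFinite _)
  rw [Set.ncard_insert_of_notMem (by simp [hab, hac, had, hae]), Set.ncard_insert_of_notMem (by simp [hbc, hbd, hbe]),
    Set.ncard_insert_of_notMem (by simp [hcd, hce]), Set.ncard_pair hde] at h3
  omega

/-- a quaternion normal subgroup with a normal supplement centralising it -/
structure QPart (Q K : Subgroup T) (z : T) : Prop where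
  Qn : Q.Normal
  Kn : K.Normal
  cover : ∀ t : T, ∃ q ∈ Q, ∃ k ∈ K, t = q * k
  comm : ∀ q ∈ Q, ∀ k ∈ K, q * k = k * q
  zQ : z ∈ Q
  zK : z ∈ K
  z_sq : z * z = 1
  z_ne : z ≠ 1
  zc : z ∈ center T
  root : ∀ q ∈ Q, q = 1 ∨ q = z ∨ q * q = z
  com : ∀ g ∈ Q, ∀ q ∈ Q, g * q * g⁻¹ = q ∨ g * q * g⁻¹ = q * z
  inter : ∀ x ∈ Q, x ∈ K → x = 1 ∨ x = z
  nab : ∃ i ∈ Q, ∃ j ∈ Q, i * j ≠ j * i

namespace QPart

variable {Q K : Subgroup T} {z : T} (hQ : QPart Q K z)

include hQ

theorem z_comm (g : T) : g * z = z * g := mem_center_iff.1 hQ.zc g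

theorem exists_root : ∃ i ∈ Q, i * i = z ∧ i ∉ K := by
  obtain ⟨i, hi, j, hj, hij⟩ := hQ.nab
  have hiZ : i ≠ 1 ∧ i ≠ z :=
    ⟨fun e => hij (by rw [e, one_mul, mul_one]), fun e => hij (by rw [e, hQ.z_comm j])⟩
  rcases hQ.root i hi with e | e | e
  · exact absurd e hiZ.1
  · exact absurd e hiZ.2
  · exact ⟨i, hi, e, fun hc => (hQ.inter i hi hc).elim hiZ.1 hiZ.2⟩

theorem conj_Q {i : T} (hi : i ∈ Q) (g : T) : g * i * g⁻¹ = i ∨ g * i * g⁻¹ = i * z := by
  obtain ⟨q, hq, k, hk, rfl⟩ := hQ.cover g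
  have e : q * k * i * (q * k)⁻¹ = q * i * q⁻¹ := by
    calc q * k * i * (q * k)⁻¹ = q * (k * i) * k⁻¹ * q⁻¹ := by group
      _ = q * (i * k) * k⁻¹ * q⁻¹ := by rw [hQ.comm i hi k hk]
      _ = q * i * q⁻¹ := by group
  rw [e]
  exact hQ.com q hq i hi

/-- a normal abelian subgroup of the supplement has no root of the central involution and a second involution -/
theorem root_false (hs : FewInvol T) {B : Subgroup T} (hBK : B ≤ K) (hBn : B.Normal)
    (hBc : ∀ a ∈ B, ∀ b ∈ B, a * b = b * a) (hzB : z ∈ B) {r : T} (hr : r ∈ B) (hrz : r * r = z) {p : T}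
    (hp : p ∈ B) (hp2 : p * p = 1) (hp1 : p ≠ 1) (hpz : p ≠ z) : False := by
  obtain ⟨i, hiQ, hi2, hiK⟩ := hQ.exists_root
  have hsub : ∀ b ∈ B, b ∈ closure (insert i (B : Set T)) := fun b hb => subset_closure (Set.mem_insert_of_mem _ hb)
  have hii : i ∈ closure (insert i (B : Set T)) := subset_closure (Set.mem_insert _ _)
  have hir : i * r ∉ B := fun hc => hiK (by
    have := mul_mem (hBK hc) (inv_mem (hBK hr)); rwa [mul_inv_cancel_right] at this)
  refine five_closure hs (s := insert i (B : Set T)) ?_ ?_ (a := 1) (b := z) (c := p) (d := z * p) (e := i * r) ?_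
    hQ.z_ne.symm hp1.symm ?_ ?_ hpz.symm ?_ ?_ ?_ ?_ ?_
  · intro a ha b hb
    rcases ha with rfl | ha <;> rcases hb with rfl | hb
    · rfl
    · exact hQ.comm _ hiQ b (hBK hb)
    · exact (hQ.comm _ hiQ a (hBK ha)).symm
    · exact hBc a ha b hb
  · intro g a ha
    rcases ha with rfl | ha
    · rcases hQ.conj_Q hiQ g with e | e <;> rw [e]
      exacts [hii, mul_mem hii (hsub z hzB)]
    · exact hsub _ (hBn.conj_mem a ha g)
  · intro x hx
    rcases hx with rfl | rfl | rfl | rfl | rfl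
    · exact ⟨one_mem _, one_mul 1⟩
    · exact ⟨hsub _ hzB, hQ.z_sq⟩
    · exact ⟨hsub _ hp, hp2⟩
    · exact ⟨mul_mem (hsub _ hzB) (hsub _ hp), by
        rw [(show Commute p z from hQ.z_comm p).mul_mul_mul_comm, hQ.z_sq, hp2, one_mul]⟩
    · exact ⟨mul_mem hii (hsub _ hr), by
        rw [(show Commute r i from (hQ.comm i hiQ r (hBK hr)).symm).mul_mul_mul_comm, hi2, hrz, hQ.z_sq]⟩
  · exact fun e => hpz (by rw [eq_inv_of_mul_eq_one_right e.symm, inv_eq_of_mul_eq_one_right hQ.z_sq])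
  · exact fun e => hir (e ▸ one_mem B)
  · exact fun e => hp1 (left_eq_mul.1 e)
  · exact fun e => hir (e ▸ hzB)
  · exact fun e => hQ.z_ne (right_eq_mul.1 e)
  · exact fun e => hir (e ▸ hp)
  · exact fun e => hir (e ▸ mul_mem hzB hp)

/-- a square of the supplement of order two is central -/
theorem sigma_K (hT : IsPGroup 2 T) (hs : FewInvol T) {k : T} (hk : k ∈ K) (hk4 : k * k * (k * k) = 1) :
    k * k ∈ center T := by
  classical
  haveI : Fact (Nat.Prime 2) := ⟨Nat.prime_two⟩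
  set u := k * k with hu
  have huK : u ∈ K := mul_mem hk hk
  have hcT : ∀ x ∈ K, (∀ g ∈ K, g * x = x * g) → x ∈ center T := by
    intro x hx hc
    refine mem_center_iff.2 fun g => ?_
    obtain ⟨q, hq, l, hl, rfl⟩ := hQ.cover g
    rw [mul_assoc, hc l hl, ← mul_assoc, hQ.comm q hq x hx, mul_assoc]
  by_cases hu1 : u = 1
  · rw [hu1]; exact one_mem _
  by_cases huz : u = z
  · rw [huz]; exact hQ.zc
  -- a maximal abelian normal subgroup of the supplement
  obtain ⟨A, -, hA⟩ := Finite.exists_le_maximal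
    (p := fun B : Subgroup T => B.Normal ∧ B ≤ K ∧ z ∈ B ∧ ∀ a ∈ B, ∀ b ∈ B, a * b = b * a) (a := zpowers z)
    ⟨⟨fun x hx g => by
        obtain ⟨i, rfl⟩ := hx
        show g * z ^ i * g⁻¹ ∈ _
        rw [(Commute.zpow_right (show Commute g z from hQ.z_comm g) i).eq, mul_inv_cancel_right]
        exact zpow_mem (mem_zpowers z) i⟩,
      zpowers_le.2 hQ.zK, mem_zpowers z, fun a ha b hb => by
        obtain ⟨i, rfl⟩ := ha
        obtain ⟨j, rfl⟩ := hb
        exact (Commute.zpow_zpow_self z i j).eq⟩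
  obtain ⟨hAn, hAK, hzA, hAc⟩ := hA.1
  have hCA : ∀ x ∈ K, (∀ a ∈ A, x * a = a * x) → x ∈ A := by
    intro x hx hc
    by_contra hxA
    haveI := hQ.Kn
    haveI := hAn
    obtain ⟨y, hy, hyA, -, hyg⟩ := exists_step hT hAn (inferInstance : (K ⊓ centralizer (A : Set T)).Normal)
      fun hle => hxA (hle ⟨hx, mem_centralizer_iff.2 fun a ha => (hc a ha).symm⟩)
    have hins : A ≤ closure (insert y (A : Set T)) := fun a ha => subset_closure (Set.mem_insert_of_mem _ ha)
    refine hyA (hA.2 ⟨closure_normal_of fun g b hb => ?_, (closure_le _).2 ?_, hins hzA, closure_comm ?_⟩ hins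
      (subset_closure (Set.mem_insert _ _)))
    · rcases hb with rfl | hb
      · rw [show g * b * g⁻¹ = cm g b * b by simp only [cm]; group]
        exact mul_mem (hins (hyg g)) (subset_closure (Set.mem_insert _ _))
      · exact hins (hAn.conj_mem b hb g)
    · rintro b (rfl | hb)
      exacts [hy.1, hAK hb]
    · rintro b (rfl | hb) c (rfl | hc')
      · rfl
      · exact (mem_centralizer_iff.1 hy.2 c hc').symm
      · exact mem_centralizer_iff.1 hy.2 b hb
      · exact hAc b hb c hc'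
  -- at most four involutions
  have hfive : ∀ p ∈ A, ∀ q ∈ A, p * p = 1 → q * q = 1 → p ≠ 1 → q ≠ 1 → p ≠ q →
      ∀ x ∈ A, x * x = 1 → x = 1 ∨ x = p ∨ x = q ∨ x = p * q := by
    intro p hp q hq hp2 hq2 hp1 hq1 hpq x hx hx2
    by_contra hne
    simp only [not_or] at hne
    refine five_closure hs (s := (A : Set T)) (fun a ha b hb => hAc a ha b hb)
      (fun g a ha => subset_closure (hAn.conj_mem a ha g)) (a := 1) (b := p) (c := q) (d := p * q) (e := x) ?_
      hp1.symm hq1.symm ?_ (Ne.symm hne.1) hpq ?_ (Ne.symm hne.2.1) ?_ (Ne.symm hne.2.2.1) (Ne.symm hne.2.2.2)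
    · rintro y (rfl | rfl | rfl | rfl | rfl) <;> refine ⟨?_, ?_⟩
      exacts [one_mem _, one_mul 1, subset_closure hp, hp2, subset_closure hq, hq2, subset_closure (mul_mem hp hq),
        by rw [(show Commute q p from hAc q hq p hp).mul_mul_mul_comm, hp2, hq2, one_mul], subset_closure hx, hx2]
    · exact fun e => hpq (by rw [eq_inv_of_mul_eq_one_left e.symm, inv_eq_of_mul_eq_one_right hq2])
    · exact fun e => hq1 (left_eq_mul.1 e)
    · exact fun e => hp1 (right_eq_mul.1 e)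
  -- the squares form a cyclic group
  set SQ := sqs A hAc with hSQ
  have hSA : SQ ≤ A := by rintro _ ⟨d, hd, rfl⟩; exact mul_mem hd hd
  have hcyc : IsCyclic SQ := by
    letI : CommGroup SQ := { (inferInstance : Group SQ) with
      mul_comm := fun a b => Subtype.ext (hAc a (hSA a.2) b (hSA b.2)) }
    refine Cfsg.Lib.TwoLength.isCyclic_of_few_involutions (hT.to_subgroup SQ) fun p q hp hq hp1 hq1 => ?_
    by_contra hpq
    have hp' : (p : T) * p = 1 := congrArg Subtype.val hp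
    have hq' : (q : T) * q = 1 := congrArg Subtype.val hq
    have hp1' : (p : T) ≠ 1 := fun e => hp1 (Subtype.ext e)
    have hq1' : (q : T) ≠ 1 := fun e => hq1 (Subtype.ext e)
    have hpq' : (p : T) ≠ q := fun e => hpq (Subtype.ext e)
    have hzS : z ∈ SQ := by
      rcases hfive p (hSA p.2) q (hSA q.2) hp' hq' hp1' hq1' hpq' z hzA hQ.z_sq with e | e | e | e
      exacts [absurd e hQ.z_ne, e ▸ p.2, e ▸ q.2, e ▸ mul_mem p.2 q.2]
    obtain ⟨r, hr, hrz⟩ := hzS
    by_cases hpz : (p : T) = z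
    · exact hQ.root_false hs hAK hAn hAc hzA hr hrz (hSA q.2) hq' hq1' (fun e => hpq' (hpz.trans e.symm))
    · exact hQ.root_false hs hAK hAn hAc hzA hr hrz (hSA p.2) hp' hp1' hpz
  obtain ⟨⟨b, a, ha, hab⟩, hgen⟩ := hcyc.exists_generator
  have hbSQ : b ∈ SQ := ⟨a, ha, hab⟩
  have hgenS : ∀ s ∈ SQ, ∃ i : ℤ, b ^ i = s := fun s hs => by
    obtain ⟨i, hi⟩ := hgen ⟨s, hs⟩
    exact ⟨i, congrArg Subtype.val hi⟩
  have hb' : b = a ^ (2 : ℤ) := by rw [zpow_two, hab]
  have hform : ∀ x ∈ A, ∃ (i : ℤ) (f : T), f ∈ A ∧ f * f = 1 ∧ x = a ^ i * f := by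
    intro x hx
    obtain ⟨i, hi⟩ := hgenS (x * x) ⟨x, hx, rfl⟩
    refine ⟨i, (a ^ i)⁻¹ * x, mul_mem (inv_mem (zpow_mem ha i)) hx, ?_, (mul_inv_cancel_left _ _).symm⟩
    rw [(show Commute x (a ^ i)⁻¹ from hAc x hx _ (inv_mem (zpow_mem ha i))).mul_mul_mul_comm, ← hi, hb',
      ← zpow_mul, ← zpow_neg, ← zpow_add, ← zpow_add]
    rw [show -i + -i + 2 * i = 0 by ring, zpow_zero]
  -- the automorphisms induced by the supplement
  have hconjA : ∀ (g : T), ∀ x ∈ A, g * x * g⁻¹ ∈ A := fun g x hx => hAn.conj_mem x hx g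
  by_cases hb1 : b = 1
  · -- elementary
    have hA2 : ∀ x ∈ A, x * x = 1 := fun x hx => by
      obtain ⟨i, hi⟩ := hgenS (x * x) ⟨x, hx, rfl⟩
      rw [← hi, hb1, one_zpow]
    exfalso
    by_cases huA : u ∈ A
    · -- the element centralises the subgroup
      have hkA : k ∈ A := hCA k hk fun x hx => by
        rcases hfive z hzA u huA hQ.z_sq hk4 hQ.z_ne hu1 (Ne.symm huz) x hx (hA2 x hx) with e | e | e | e <;> rw [e]
        · rw [mul_one, one_mul]
        · exact hQ.z_comm k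
        · rw [hu, mul_assoc]
        · rw [← mul_assoc, hQ.z_comm k, mul_assoc, mul_assoc, hu, mul_assoc]
      exact hu1 (hA2 k hkA)
    · refine huA (hCA u huK fun x hx => ?_)
      have e : u * x * u⁻¹ = x := by
        rw [show u * x * u⁻¹ = k * (k * x * k⁻¹) * k⁻¹ by rw [hu]; group]
        set y := k * x * k⁻¹ with hy
        by_cases hx1 : x = 1
        · rw [hy, hx1]; group
        by_cases hxz : x = z
        · rw [hy, hxz, hQ.z_comm k, mul_inv_cancel_right, hQ.z_comm k, mul_inv_cancel_right]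
        have hy2 : y * y = 1 := hA2 y (hconjA k x hx)
        rcases hfive z hzA x hx hQ.z_sq (hA2 x hx) hQ.z_ne hx1 (Ne.symm hxz) y (hconjA k x hx) hy2 with
          r | r | r | r
        · exact absurd (conj_eq_one_iff.1 r) hx1
        · exfalso
          refine hxz ?_
          calc x = k⁻¹ * y * k := by rw [hy]; group
            _ = z := by rw [r, hQ.z_comm k⁻¹, inv_mul_cancel_right]
        · rw [r]; exact r
        · calc k * y * k⁻¹ = k * (z * x) * k⁻¹ := by rw [r]
            _ = k * z * (x * k⁻¹) := by group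
            _ = z * k * (x * k⁻¹) := by rw [hQ.z_comm k]
            _ = z * y := by rw [hy]; group
            _ = x := by rw [r, ← mul_assoc, hQ.z_sq, one_mul]
      calc u * x = u * x * u⁻¹ * u := by group
        _ = _ := by rw [e]
  -- the generator of the squares has an involution power
  obtain ⟨m, hm⟩ := IsPGroup.iff_orderOf.1 hT b
  have hm1 : 1 ≤ m := by
    by_contra hlt
    rw [show m = 0 by omega, pow_zero, orderOf_eq_one_iff] at hm
    exact hb1 hm
  set w := b ^ 2 ^ (m - 1) with hw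
  have hw2 : w * w = 1 := by
    rw [hw, ← pow_add, ← two_mul, ← pow_succ', show m - 1 + 1 = m by omega, ← hm, pow_orderOf_eq_one]
  have hw1 : w ≠ 1 := fun e => by
    have := orderOf_dvd_of_pow_eq_one e
    rw [hm, Nat.pow_dvd_pow_iff_le_right (by norm_num)] at this
    omega
  have hwS : w ∈ SQ := pow_mem hbSQ _
  have hwA : w ∈ A := hSA hwS
  have huniq : ∀ p ∈ SQ, p * p = 1 → p ≠ 1 → p = w := by
    intro p hp hp2 hp1
    obtain ⟨i, rfl⟩ := hgenS p hp
    rw [← zpow_add, zpow_eq_one_iff_modEq, hm, Int.modEq_zero_iff_dvd] at hp2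
    have hd : ((2 ^ (m - 1) : ℕ) : ℤ) ∣ i := by
      obtain ⟨c, hc⟩ := hp2
      refine ⟨c, ?_⟩
      have h2 : ((2 ^ m : ℕ) : ℤ) = 2 * ((2 ^ (m - 1) : ℕ) : ℤ) := by
        push_cast
        rw [← pow_succ', show m - 1 + 1 = m by omega]
      rw [h2, mul_assoc] at hc
      linarith
    obtain ⟨c, rfl⟩ := hd
    rcases Int.even_or_odd' c with ⟨j, rfl | rfl⟩
    · exfalso
      refine hp1 ?_
      rw [zpow_mul, zpow_natCast, ← hw, zpow_mul, show w ^ (2 : ℤ) = 1 by rw [zpow_two, hw2], one_zpow]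
    · rw [zpow_mul, zpow_natCast, ← hw, zpow_add, zpow_mul, show w ^ (2 : ℤ) = 1 by rw [zpow_two, hw2], one_zpow,
        one_mul, zpow_one]
  have hsqconj : ∀ (g : T), ∀ s ∈ SQ, g * s * g⁻¹ ∈ SQ := by
    rintro g _ ⟨d, hd, rfl⟩
    exact ⟨g * d * g⁻¹, hconjA g d hd, by group⟩
  have hwc : ∀ g : T, g * w = w * g := fun g => by
    have h1 := huniq _ (hsqconj g w hwS) (by
      rw [show g * w * g⁻¹ * (g * w * g⁻¹) = g * (w * w) * g⁻¹ by group, hw2]; group)
      (fun e => hw1 (conj_eq_one_iff.1 e))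
    calc g * w = g * w * g⁻¹ * g := by group
      _ = _ := by rw [h1]
  have hFc : ∀ x ∈ A, x * x = 1 → ∀ g : T, g * x = x * g := by
    intro x hx hx2 g
    by_cases hwz : w = z
    · by_cases hx1 : x = 1
      · rw [hx1, mul_one, one_mul]
      by_cases hxz : x = z
      · rw [hxz]; exact hQ.z_comm g
      obtain ⟨r, hr, hrw⟩ := hwS
      exact (hQ.root_false hs hAK hAn hAc hzA hr (hrw.trans hwz) hx hx2 hx1 hxz).elim
    · rcases hfive z hzA w hwA hQ.z_sq hw2 hQ.z_ne hw1 (Ne.symm hwz) x hx hx2 with e | e | e | e <;> rw [e]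
      · rw [mul_one, one_mul]
      · exact hQ.z_comm g
      · exact hwc g
      · rw [← mul_assoc, hQ.z_comm g, mul_assoc, hwc g, mul_assoc]
  -- odd exponents
  have hodd : ∀ g : T, ∃ (e : ℤ) (f : T), Odd e ∧ f ∈ A ∧ f * f = 1 ∧ g * a * g⁻¹ = a ^ e * f := by
    intro g
    obtain ⟨e, f, hf, hf2, he⟩ := hform _ (hconjA g a ha)
    refine ⟨e, f, ?_, hf, hf2, he⟩
    by_contra hne
    obtain ⟨j, rfl⟩ := Int.not_odd_iff_even.1 hne
    obtain ⟨i, hi⟩ := hgenS _ (hsqconj g⁻¹ b hbSQ)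
    have hgb : g * b * g⁻¹ = b ^ (j + j) := by
      calc g * b * g⁻¹ = g * a * g⁻¹ * (g * a * g⁻¹) := by rw [← hab]; group
        _ = a ^ (j + j) * a ^ (j + j) * (f * f) := by
            rw [he, (show Commute f (a ^ (j + j)) from hAc f hf _ (zpow_mem ha _)).mul_mul_mul_comm]
        _ = b ^ (j + j) := by rw [hf2, mul_one, hb', ← zpow_add, ← zpow_mul]; congr 1; ring
    have h2 : b ^ (i * (j + j) - 1) = 1 := by
      have h1 : (g⁻¹ * b * g) ^ (j + j) = b := by
        have := hgb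
        calc (g⁻¹ * b * g) ^ (j + j) = g⁻¹ * b ^ (j + j) * g := by
              have h3 := conj_zpow (a := g⁻¹) (b := b) (i := j + j)
              rwa [inv_inv] at h3
          _ = g⁻¹ * (g * b * g⁻¹) * g := by rw [this]
          _ = b := by group
      rw [inv_inv] at hi
      rw [zpow_sub, zpow_mul, hi, h1, zpow_one, mul_inv_cancel]
    rw [zpow_eq_one_iff_modEq, hm, Int.modEq_zero_iff_dvd] at h2
    have h3 : (2 : ℤ) ∣ i * (j + j) - 1 := by
      refine (Dvd.dvd.trans ?_ h2)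
      push_cast
      exact dvd_pow_self 2 (by omega)
    have h4 : (2 : ℤ) ∣ i * (j + j) := ⟨i * j, by ring⟩
    have h5 := dvd_sub h4 h3
    rw [sub_sub_cancel] at h5
    exact absurd h5 (by norm_num)
  have hzp : ∀ (g : T) (x : T) (i : ℤ), g * x ^ i * g⁻¹ = (g * x * g⁻¹) ^ i := fun g x i => conj_zpow.symm
  have hfodd : ∀ {f : T}, f * f = 1 → ∀ {e : ℤ}, Odd e → f ^ e = f := by
    rintro f hf e ⟨j, rfl⟩
    rw [zpow_add, zpow_mul, show f ^ (2 : ℤ) = 1 by rw [zpow_two, hf], one_zpow, one_mul, zpow_one]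
  obtain ⟨e, f₀, he, hf₀, hf₀2, hka⟩ := hodd k
  have hua : u * a * u⁻¹ = a ^ (e * e) := by
    calc u * a * u⁻¹ = k * (k * a * k⁻¹) * k⁻¹ := by rw [hu]; group
      _ = k * a ^ e * k⁻¹ * (k * f₀ * k⁻¹) := by rw [hka]; group
      _ = (a ^ e * f₀) ^ e * f₀ := by rw [hzp, hka, hFc f₀ hf₀ hf₀2 k, mul_inv_cancel_right]
      _ = a ^ (e * e) := by
          rw [(show Commute (a ^ e) f₀ from hAc _ (zpow_mem ha _) f₀ hf₀).mul_zpow, hfodd hf₀2 he, ← zpow_mul,
            mul_assoc, hf₀2, mul_one]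
  obtain ⟨t, ht⟩ : ∃ t : ℤ, e * e = 8 * t + 1 := by
    obtain ⟨j, rfl⟩ := he
    rcases Int.even_or_odd' j with ⟨i, rfl | rfl⟩
    · exact ⟨i * (2 * i + 1), by ring⟩
    · exact ⟨(2 * i + 1) * (i + 1), by ring⟩
  set f₁ := a ^ (8 * t) with hf₁
  have hf₁A : f₁ ∈ A := zpow_mem ha _
  have hua' : u * a * u⁻¹ = a * f₁ := by
    rw [hua, ht, hf₁, add_comm, zpow_add, zpow_one]
  obtain ⟨N, hN⟩ := IsPGroup.iff_orderOf.1 hT a
  have hf₁2 : f₁ * f₁ = 1 := by
    have h1 : a ^ (e * e * (e * e) - 1) = 1 := by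
      have h2 : u * (u * a * u⁻¹) * u⁻¹ = a := by
        rw [show u * (u * a * u⁻¹) * u⁻¹ = u * u * a * (u * u)⁻¹ by group, hk4]; group
      rw [hua, hzp, hua, ← zpow_mul] at h2
      rw [zpow_sub, zpow_one, h2, mul_inv_cancel]
    rw [zpow_eq_one_iff_modEq, hN, Int.modEq_zero_iff_dvd, ht,
      show (8 * t + 1) * (8 * t + 1) - 1 = 16 * t * (4 * t + 1) by ring] at h1
    have hco : IsCoprime ((2 ^ N : ℕ) : ℤ) (4 * t + 1) := by
      push_cast
      refine IsCoprime.pow_left ?_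
      exact ⟨-2 * t, 1, by ring⟩
    have h3 := hco.dvd_of_dvd_mul_right h1
    rw [hf₁, ← zpow_add, zpow_eq_one_iff_modEq, hN, Int.modEq_zero_iff_dvd, show 8 * t + 8 * t = 16 * t by ring]
    exact h3
  have hcentA : ∀ x : T, x * a = a * x → (∀ f ∈ A, f * f = 1 → x * f = f * x) → ∀ y ∈ A, x * y = y * x := by
    intro x hxa hxf y hy
    obtain ⟨i, f, hf, hf2, rfl⟩ := hform y hy
    rw [← mul_assoc, (Commute.zpow_right (show Commute x a from hxa) i).eq, mul_assoc, hxf f hf hf2, mul_assoc]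
  by_cases hf₁1 : f₁ = 1
  · have huA : u ∈ A := hCA u huK (hcentA u (by
      rw [hf₁1, mul_one] at hua'
      calc u * a = u * a * u⁻¹ * u := by group
        _ = _ := by rw [hua']) fun f hf hf2 => hFc f hf hf2 u)
    exact hcT u huK fun g _ => hFc u huA hk4 g
  exfalso
  have ha4 : b * b ≠ 1 := by
    intro h4
    refine hf₁1 ?_
    rw [hf₁, show (8 : ℤ) * t = 2 * (2 * (2 * t)) by ring, zpow_mul, ← hb', zpow_mul, zpow_two, h4, one_zpow]
  have hua_i : ∀ i : ℤ, u * a ^ i * u⁻¹ = a ^ i * f₁ ^ i := fun i => by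
    rw [hzp, hua', (show Commute a f₁ from hAc a ha _ hf₁A).mul_zpow]
  -- the commutators of the square are small
  have hug : ∀ g ∈ K, cm g u ∈ A ∧ cm g u * cm g u = 1 := by
    intro g hg
    obtain ⟨d, f, hd, hf, hf2, hga⟩ := hodd g⁻¹
    rw [inv_inv] at hga
    have h1 : g * u * g⁻¹ * a * (g * u * g⁻¹)⁻¹ = a * f₁ := by
      calc g * u * g⁻¹ * a * (g * u * g⁻¹)⁻¹ = g * (u * (g⁻¹ * a * g) * u⁻¹) * g⁻¹ := by group
        _ = g * (u * a ^ d * u⁻¹ * (u * f * u⁻¹)) * g⁻¹ := by rw [hga]; group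
        _ = g * (a ^ d * f₁ ^ d * f) * g⁻¹ := by rw [hua_i, hFc f hf hf2 u, mul_inv_cancel_right]
        _ = g * (a ^ d * f * f₁) * g⁻¹ := by
            rw [hfodd hf₁2 hd, mul_assoc (a ^ d), hAc f₁ hf₁A f hf, ← mul_assoc (a ^ d)]
        _ = g * (g⁻¹ * a * g) * g⁻¹ * (g * f₁ * g⁻¹) := by rw [← hga]; group
        _ = a * f₁ := by rw [hFc f₁ hf₁A hf₁2 g, mul_inv_cancel_right]; group
    have hpK : cm g u ∈ K := mul_mem (mul_mem (mul_mem hg huK) (inv_mem hg)) (inv_mem huK)
    have hp : cm g u * u = g * u * g⁻¹ := by simp only [cm]; group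
    have huu : u⁻¹ = u := inv_eq_of_mul_eq_one_right hk4
    have hpa : cm g u * a = a * cm g u := by
      have e2 : u * (a * f₁) * u⁻¹ = a := by
        rw [← hua', show u * (u * a * u⁻¹) * u⁻¹ = u * u * a * (u * u)⁻¹ by group, hk4]; group
      calc cm g u * a = g * u * g⁻¹ * (u⁻¹ * a * u) * u⁻¹ := by simp only [cm]; group
        _ = g * u * g⁻¹ * (a * f₁) * u⁻¹ := by rw [huu, show u * a * u = a * f₁ by
              conv_lhs => arg 2; rw [← huu]
              exact hua']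
        _ = g * u * g⁻¹ * a * (g * u * g⁻¹)⁻¹ * (g * u * g⁻¹) * (f₁ * u⁻¹) := by group
        _ = a * f₁ * (g * u * g⁻¹) * (f₁ * u⁻¹) := by rw [h1]
        _ = a * (f₁ * (g * u * g⁻¹) * f₁) * u⁻¹ := by group
        _ = a * (g * u * g⁻¹ * f₁ * f₁) * u⁻¹ := by rw [hFc f₁ hf₁A hf₁2 (g * u * g⁻¹)]
        _ = a * cm g u := by rw [mul_assoc (g * u * g⁻¹), hf₁2, mul_one]; simp only [cm]; group
    have hpA : cm g u ∈ A := hCA _ hpK (hcentA _ hpa fun f hf hf2 => hFc f hf hf2 _)
    refine ⟨hpA, ?_⟩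
    obtain ⟨i, f', hf', hf'2, hpe⟩ := hform _ hpA
    have h2 : cm g u * (u * cm g u * u⁻¹) = 1 := by
      calc cm g u * (u * cm g u * u⁻¹) = cm g u * u * (cm g u * u) * (u * u)⁻¹ := by group
        _ = 1 := by rw [hp, hk4, show g * u * g⁻¹ * (g * u * g⁻¹) = g * (u * u) * g⁻¹ by group, hk4]; group
    have h3 : u * cm g u * u⁻¹ = cm g u * f₁ ^ i := by
      rw [hpe, show u * (a ^ i * f') * u⁻¹ = u * a ^ i * u⁻¹ * (u * f' * u⁻¹) by group, hua_i,
        hFc f' hf' hf'2 u, mul_inv_cancel_right, mul_assoc, hAc _ (zpow_mem hf₁A i) f' hf', ← mul_assoc]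
    rw [h3, ← mul_assoc] at h2
    rcases Int.even_or_odd' i with ⟨j, rfl | rfl⟩
    · rwa [zpow_mul, show f₁ ^ (2 : ℤ) = 1 by rw [zpow_two, hf₁2], one_zpow, mul_one] at h2
    · exfalso
      rw [hfodd hf₁2 ⟨j, rfl⟩, hpe, (show Commute f' (a ^ (2 * j + 1)) from
        hAc f' hf' _ (zpow_mem ha _)).mul_mul_mul_comm, hf'2, mul_one, ← zpow_add,
        show 2 * j + 1 + (2 * j + 1) = 2 * (2 * j + 1) by ring, zpow_mul, ← hb'] at h2
      have h6 : b ^ (2 * j + 1) = f₁ := by
        rw [eq_inv_of_mul_eq_one_left h2, inv_eq_of_mul_eq_one_right hf₁2]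
      have h4 : (b * b) ^ (2 * j + 1) = 1 := by
        rw [(Commute.refl b).mul_zpow, h6, hf₁2]
      obtain ⟨n, hn⟩ := IsPGroup.iff_orderOf.1 hT (b * b)
      rw [zpow_eq_one_iff_modEq, hn, Int.modEq_zero_iff_dvd] at h4
      rcases n with _ | n
      · rw [pow_zero, orderOf_eq_one_iff] at hn
        exact ha4 hn
      · have h5 : (2 : ℤ) ∣ 2 * j + 1 := by
          refine Dvd.dvd.trans ?_ h4
          push_cast
          exact dvd_pow_self 2 (by omega)
        omega
  have hucj : ∀ g : T, ∃ p ∈ A, p * p = 1 ∧ g * u * g⁻¹ = p * u := by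
    intro g
    obtain ⟨q, hq, l, hl, rfl⟩ := hQ.cover g
    obtain ⟨hp, hp2⟩ := hug l hl
    refine ⟨cm l u, hp, hp2, ?_⟩
    have h1 : q * (l * u * l⁻¹) = l * u * l⁻¹ * q := hQ.comm q hq _ (mul_mem (mul_mem hl huK) (inv_mem hl))
    calc q * l * u * (q * l)⁻¹ = q * (l * u * l⁻¹) * q⁻¹ := by group
      _ = cm l u * u := by rw [h1, mul_inv_cancel_right]; simp only [cm]; group
  have huA : u ∉ A := fun hc => hf₁1 (by
    have h1 := hua'
    rw [hAc u hc a ha, mul_inv_cancel_right, left_eq_mul] at h1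
    exact h1)
  by_cases hwz : w = z
  · -- a root of the central involution in the squares
    have hm2 : 2 ≤ m := by
      by_contra hlt
      refine ha4 ?_
      rw [← pow_two]
      exact orderOf_dvd_iff_pow_eq_one.1 (hm ▸ (by rw [show m = 1 by omega, pow_one]))
    set r := b ^ 2 ^ (m - 2) with hr
    have hrz : r * r = z := by
      rw [hr, ← pow_add, ← two_mul, ← pow_succ', show m - 2 + 1 = m - 1 by omega, ← hw, hwz]
    have hrA : r ∈ A := hSA (pow_mem hbSQ _)
    set s : Set T := {u, z} ∪ (SQ : Set T) with hs'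
    have hru : ∀ x ∈ SQ, x * u = u * x := by
      intro x hx
      obtain ⟨i, rfl⟩ := hgenS x hx
      have := hua_i (2 * i)
      rw [zpow_mul, ← hb', zpow_mul, show f₁ ^ (2 : ℤ) = 1 by rw [zpow_two, hf₁2], one_zpow, mul_one] at this
      calc b ^ i * u = u * b ^ i * u⁻¹ * u := by rw [this]
        _ = _ := by group
    have hcs : ∀ x ∈ s, ∀ y ∈ s, x * y = y * x := by
      rintro x ((rfl | rfl) | hx) y ((rfl | rfl) | hy)
      · rfl
      · exact hQ.z_comm u
      · exact (hru y hy).symm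
      · exact (hQ.z_comm u).symm
      · rfl
      · exact (hQ.z_comm y).symm
      · exact hru x hx
      · exact hQ.z_comm x
      · exact hAc x (hSA hx) y (hSA hy)
    have hsm : ∀ x ∈ s, x ∈ K := by
      rintro x ((rfl | rfl) | hx)
      exacts [huK, hQ.zK, hAK (hSA hx)]
    refine hQ.root_false hs (B := closure s) ((closure_le _).2 hsm) (closure_normal_of ?_) (closure_comm hcs)
      (subset_closure (Or.inl (Or.inr rfl))) (subset_closure (Or.inr (pow_mem hbSQ _))) hrz
      (subset_closure (Or.inl (Or.inl rfl))) hk4 hu1 huz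
    rintro g x ((rfl | rfl) | hx)
    · obtain ⟨p, hp, hp2, e⟩ := hucj g
      rw [e]
      refine mul_mem ?_ (subset_closure (Or.inl (Or.inl rfl)))
      by_cases hp1 : p = 1
      · rw [hp1]; exact one_mem _
      by_cases hpz : p = z
      · rw [hpz]; exact subset_closure (Or.inl (Or.inr rfl))
      exact (hQ.root_false hs hAK hAn hAc hzA hrA hrz hp hp2 hp1 hpz).elim
    · rw [hQ.z_comm g, mul_inv_cancel_right]; exact subset_closure (Or.inl (Or.inr rfl))
    · exact subset_closure (Or.inr (hsqconj g x hx))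
  · -- three independent involutions
    have hFu : ∀ x ∈ A, x * x = 1 → x * u = u * x := fun x hx hx2 => (hFc x hx hx2 u).symm
    refine five_closure hs (s := {u, z, w}) ?_ ?_ (a := 1) (b := z) (c := w) (d := z * w) (e := u) ?_
      hQ.z_ne.symm hw1.symm ?_ (Ne.symm hu1) (Ne.symm hwz) ?_ (Ne.symm huz) ?_ ?_ ?_
    · rintro x (rfl | rfl | rfl) y (rfl | rfl | rfl) <;>
        first | rfl | exact hQ.z_comm _ | exact (hQ.z_comm _).symm | exact hwc _ | exact (hwc _).symm
    · rintro g x (rfl | rfl | rfl)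
      · obtain ⟨p, hp, hp2, e⟩ := hucj g
        rw [e]
        refine mul_mem ?_ (subset_closure (Or.inl rfl))
        rcases hfive z hzA w hwA hQ.z_sq hw2 hQ.z_ne hw1 (Ne.symm hwz) p hp hp2 with r | r | r | r <;> rw [r]
        exacts [one_mem _, subset_closure (Or.inr (Or.inl rfl)), subset_closure (Or.inr (Or.inr rfl)),
          mul_mem (subset_closure (Or.inr (Or.inl rfl))) (subset_closure (Or.inr (Or.inr rfl)))]
      · rw [hQ.z_comm g, mul_inv_cancel_right]; exact subset_closure (Or.inr (Or.inl rfl))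
      · rw [hwc g, mul_inv_cancel_right]; exact subset_closure (Or.inr (Or.inr rfl))
    · rintro x (rfl | rfl | rfl | rfl | rfl) <;> refine ⟨?_, ?_⟩
      exacts [one_mem _, one_mul 1, subset_closure (Or.inr (Or.inl rfl)), hQ.z_sq,
        subset_closure (Or.inr (Or.inr rfl)), hw2,
        mul_mem (subset_closure (Or.inr (Or.inl rfl))) (subset_closure (Or.inr (Or.inr rfl))),
        by rw [(show Commute w z from hQ.z_comm w).mul_mul_mul_comm, hQ.z_sq, hw2, one_mul],
        subset_closure (Or.inl rfl), hk4]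
    · exact fun e => hwz (by rw [eq_inv_of_mul_eq_one_right e.symm, inv_eq_of_mul_eq_one_right hQ.z_sq])
    · exact fun e => hw1 (left_eq_mul.1 e)
    · exact fun e => hQ.z_ne (right_eq_mul.1 e)
    · exact fun e => huA (e ▸ hwA)
    · exact fun e => huA (e ▸ mul_mem hzA hwA)

/-- every square of order at most two is central -/
theorem sigma (hT : IsPGroup 2 T) (hs : FewInvol T) {s : T} (h4 : s * s * (s * s) = 1) : s * s ∈ center T := by
  obtain ⟨q, hq, k, hk, rfl⟩ := hQ.cover s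
  have e : q * k * (q * k) = q * q * (k * k) :=
    (show Commute k q from (hQ.comm q hq k hk).symm).mul_mul_mul_comm q k
  have hqq : q * q = 1 ∨ q * q = z := by
    rcases hQ.root q hq with r | r | r
    · left; rw [r, one_mul]
    · left; rw [r, hQ.z_sq]
    · exact Or.inr r
  rw [e] at h4 ⊢
  rcases hqq with r | r <;> rw [r] at h4 ⊢
  · rw [one_mul] at h4 ⊢; exact hQ.sigma_K hT hs hk h4
  · rw [(show Commute (k * k) z from hQ.z_comm _).mul_mul_mul_comm, hQ.z_sq, one_mul] at h4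
    exact mul_mem hQ.zc (hQ.sigma_K hT hs hk h4)

theorem exists_root_comm (t : T) : ∃ s, s * s = z ∧ s * t = t * s := by
  obtain ⟨q, hq, k, hk, rfl⟩ := hQ.cover t
  rcases hQ.root q hq with r | r | r
  · obtain ⟨i, hi, hi2, -⟩ := hQ.exists_root
    exact ⟨i, hi2, by rw [r, one_mul, hQ.comm i hi k hk]⟩
  · obtain ⟨i, hi, hi2, -⟩ := hQ.exists_root
    exact ⟨i, hi2, by rw [r, ← mul_assoc, hQ.z_comm i, mul_assoc, hQ.comm i hi k hk, mul_assoc]⟩
  · exact ⟨q, r, by rw [mul_assoc q k q, ← hQ.comm q hq k hk]⟩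

/-- three images of the central involution under automorphisms coincide somewhere -/
theorem three (hs : FewInvol T) (ψ χ : MulAut T) (h1 : ψ z ≠ z) (h2 : χ z ≠ z) (h3 : χ z ≠ ψ z) : False := by
  obtain ⟨i, hi, hi2, -⟩ := hQ.exists_root
  obtain ⟨a, ha, b, hb, hab⟩ := hQ.nab
  have hcomm : ∀ α β : MulAut T, α z ≠ β z → ∀ x ∈ Q, ∀ y ∈ Q, α x * β y = β y * α x := by
    intro α β hne x hx y hy
    set m := cm (α x) (β y) with hm
    have hnA : ∀ (γ : MulAut T) (g : T), ∀ w ∈ Q, ∃ w' ∈ Q, g * γ w * g⁻¹ = γ w' := fun γ g w hw =>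
      ⟨γ.symm g * w * (γ.symm g)⁻¹, hQ.Qn.conj_mem w hw _, by simp⟩
    obtain ⟨x', hx', ex⟩ := hnA α (β y) x⁻¹ (inv_mem hx)
    obtain ⟨y', hy', ey⟩ := hnA β (α x) y hy
    have h1 : m = α (x * x') := by
      rw [map_mul, ← ex, hm, map_inv]; simp only [cm]; group
    have h2 : m = β (y' * y⁻¹) := by
      rw [map_mul, map_inv, ← ey, hm]; simp only [cm]
    refine cm_eq_one.1 ?_
    rw [← hm]
    by_contra hne1
    have key : ∀ (γ : MulAut T) (w : T), w ∈ Q → m = γ w → m = γ z ∨ m * m = γ z := by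
      intro γ w hw e
      rcases hQ.root w hw with r | r | r
      · exact absurd (by rw [e, r, map_one]) hne1
      · exact Or.inl (by rw [e, r])
      · exact Or.inr (by rw [e, ← map_mul, r])
    have hz2 : ∀ γ : MulAut T, γ z * γ z = 1 := fun γ => by rw [← map_mul, hQ.z_sq, map_one]
    have hz1 : ∀ γ : MulAut T, γ z ≠ 1 := fun γ e => hQ.z_ne (γ.map_eq_one_iff.1 e)
    rcases key α _ (mul_mem hx hx') h1 with e | e <;> rcases key β _ (mul_mem hy' (inv_mem hy)) h2 with e' | e'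
    · exact hne (e.symm.trans e')
    · rw [e, hz2] at e'; exact hz1 β e'.symm
    · rw [e', hz2] at e; exact hz1 α e.symm
    · exact hne (e.symm.trans e')
  have c1 : ∀ x ∈ Q, ∀ y ∈ Q, x * ψ y = ψ y * x := hcomm 1 ψ (fun e => h1 e.symm)
  have c2 : ∀ x ∈ Q, ∀ y ∈ Q, x * χ y = χ y * x := hcomm 1 χ (fun e => h2 e.symm)
  have c3 : ∀ x ∈ Q, ∀ y ∈ Q, ψ x * χ y = χ y * ψ x := hcomm ψ χ (fun e => h3 e.symm)
  set s : Set T := {i, ψ i, χ i} with hs'
  have hcs : ∀ x ∈ s, ∀ y ∈ s, x * y = y * x := by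
    rintro x (e1 | e1 | e1) y (e2 | e2 | e2) <;> rw [e1, e2]
    exacts [c1 i hi i hi, c2 i hi i hi, (c1 i hi i hi).symm, c3 i hi i hi, (c2 i hi i hi).symm,
      (c3 i hi i hi).symm]
  have hsub : ∀ x ∈ s, x ∈ closure s := fun x hx => subset_closure hx
  have hcj1 : ∀ (γ : MulAut T), γ i ∈ s → ∀ g : T, g * γ i * g⁻¹ ∈ closure s := by
    intro γ hγ g
    rw [show g * γ i * g⁻¹ = γ (γ.symm g * i * (γ.symm g)⁻¹) by simp]
    rcases hQ.conj_Q hi (γ.symm g) with e | e <;> rw [e]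
    · exact hsub _ hγ
    · rw [← hi2, map_mul, map_mul]; exact mul_mem (hsub _ hγ) (mul_mem (hsub _ hγ) (hsub _ hγ))
  have hcj : ∀ g : T, ∀ x ∈ s, g * x * g⁻¹ ∈ closure s := by
    intro g x hx
    rcases hx with e | e | e <;> rw [e]
    · exact hcj1 1 (Or.inl rfl) g
    · exact hcj1 ψ (Or.inr (Or.inl rfl)) g
    · exact hcj1 χ (Or.inr (Or.inr rfl)) g
  have mz : z ∈ closure s := hi2 ▸ mul_mem (hsub i (Or.inl rfl)) (hsub i (Or.inl rfl))
  have mu : ψ z ∈ closure s := by
    rw [← hi2, map_mul]; exact mul_mem (hsub _ (Or.inr (Or.inl rfl))) (hsub _ (Or.inr (Or.inl rfl)))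
  have mw : χ z ∈ closure s := by
    rw [← hi2, map_mul]; exact mul_mem (hsub _ (Or.inr (Or.inr rfl))) (hsub _ (Or.inr (Or.inr rfl)))
  have hu2 : ψ z * ψ z = 1 := by rw [← map_mul, hQ.z_sq, map_one]
  have hw2 : χ z * χ z = 1 := by rw [← map_mul, hQ.z_sq, map_one]
  have hu1 : ψ z ≠ 1 := fun e => hQ.z_ne (ψ.map_eq_one_iff.1 e)
  have hzu : z * ψ z ≠ 1 := fun e => h1 (by rw [eq_inv_of_mul_eq_one_right e, inv_eq_of_mul_eq_one_right hQ.z_sq])
  have hzu2 : z * ψ z * (z * ψ z) = 1 := by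
    rw [(show Commute (ψ z) z from hQ.z_comm _).mul_mul_mul_comm, hQ.z_sq, hu2, one_mul]
  by_cases hw : χ z = z * ψ z
  · set p := i * ψ i * χ i with hp
    have hp2 : p * p = 1 := by
      rw [hp, (show Commute (χ i) (i * ψ i) from
        (Commute.mul_right (show Commute (χ i) i from (c2 i hi i hi).symm) (c3 i hi i hi).symm)).mul_mul_mul_comm,
        (show Commute (ψ i) i from (c1 i hi i hi).symm).mul_mul_mul_comm, hi2, ← map_mul, hi2, ← map_mul, hi2, hw,
        hzu2]
    have hpn : ∀ e ∈ ({1, z, ψ z, z * ψ z} : Set T), p ≠ e := by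
      intro e he hpe
      have hne : χ a * χ b ≠ χ b * χ a := by rw [← map_mul, ← map_mul]; exact fun q => hab (χ.injective q)
      have hchi : χ i = (i * ψ i)⁻¹ * e := by rw [← hpe, hp, inv_mul_cancel_left]
      have hall : ∀ y ∈ Q, χ y * χ i = χ i * χ y := by
        intro y hy
        have ce : Commute (χ y) e := by
          have k1 : Commute (χ y) z := hQ.z_comm _
          have k2 : Commute (χ y) (ψ z) := (c3 z hQ.zQ y hy).symm
          rcases he with rfl | rfl | rfl | rfl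
          exacts [Commute.one_right _, k1, k2, k1.mul_right k2]
        rw [hchi]
        exact ((Commute.mul_right (show Commute (χ y) i from (c2 i hi y hy).symm)
          (c3 i hi y hy).symm).inv_right.mul_right ce).eq
      -- so i would be central in the quaternion part
      have hcen : ∀ y ∈ Q, y * i = i * y := fun y hy => χ.injective (by rw [map_mul, map_mul]; exact hall y hy)
      have key : ∀ y ∈ Q, y = 1 ∨ y = z ∨ y = i ∨ y = i * z := by
        intro y hy
        rcases hQ.root y hy with r | r | r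
        · exact Or.inl r
        · exact Or.inr (Or.inl r)
        · have h4 : i * y * (i * y) = 1 := by
            rw [(show Commute y i from hcen y hy).mul_mul_mul_comm, hi2, r, hQ.z_sq]
          rcases hQ.root _ (mul_mem hi hy) with q | q | q
          · right; right; right
            rw [eq_inv_of_mul_eq_one_right q, inv_eq_iff_mul_eq_one, ← mul_assoc, hi2, hQ.z_sq]
          · right; right; left
            calc y = i⁻¹ * (i * y) := by group
              _ = i⁻¹ * (i * i) := by rw [q, hi2]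
              _ = i := by group
          · rw [q] at h4; exact absurd h4 hQ.z_ne
      refine hab ?_
      rcases key a ha with r | r | r | r <;> rcases key b hb with r' | r' | r' | r' <;> rw [r, r'] <;>
        first
          | rfl
          | simp only [one_mul, mul_one]
          | exact hQ.z_comm _
          | exact (hQ.z_comm _).symm
          | exact (Commute.mul_right (Commute.refl i) (show Commute i z from hQ.z_comm i)).eq
          | exact ((Commute.mul_right (Commute.refl i) (show Commute i z from hQ.z_comm i)).eq).symm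
    refine five_closure hs hcs hcj (a := 1) (b := z) (c := ψ z) (d := z * ψ z) (e := p) ?_
      hQ.z_ne.symm hu1.symm hzu.symm (fun e => hpn 1 (Or.inl rfl) e.symm) h1.symm
      (fun e => hu1 (left_eq_mul.1 e)) (fun e => hpn z (Or.inr (Or.inl rfl)) e.symm)
      (fun e => hQ.z_ne (right_eq_mul.1 e))
      (fun e => hpn _ (Or.inr (Or.inr (Or.inl rfl))) e.symm) (fun e => hpn _ (Or.inr (Or.inr (Or.inr rfl))) e.symm)
    rintro x (rfl | rfl | rfl | rfl | rfl)
    exacts [⟨one_mem _, one_mul 1⟩, ⟨mz, hQ.z_sq⟩, ⟨mu, hu2⟩, ⟨mul_mem mz mu, hzu2⟩,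
      ⟨mul_mem (mul_mem (hsub i (Or.inl rfl)) (hsub _ (Or.inr (Or.inl rfl)))) (hsub _ (Or.inr (Or.inr rfl))), hp2⟩]
  · refine five_closure hs hcs hcj (a := 1) (b := z) (c := ψ z) (d := z * ψ z) (e := χ z) ?_
      hQ.z_ne.symm hu1.symm hzu.symm (fun e => hQ.z_ne (χ.map_eq_one_iff.1 e.symm)) h1.symm
      (fun e => hu1 (left_eq_mul.1 e)) h2.symm (fun e => hQ.z_ne (right_eq_mul.1 e)) h3.symm (fun e => hw e.symm)
    rintro x (rfl | rfl | rfl | rfl | rfl)
    exacts [⟨one_mem _, one_mul 1⟩, ⟨mz, hQ.z_sq⟩, ⟨mu, hu2⟩, ⟨mul_mem mz mu, hzu2⟩, ⟨mw, hw2⟩]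

end QPart

variable {φ : MulAut T}

/-- the quaternion commutator gives such a decomposition -/
theorem Quat.qpart (h : Ctx T φ) (hq : Quat φ) : ∃ z : T, QPart (XX φ) (FX φ) z := by
  obtain ⟨z, hz, hz1, hZ⟩ : ∃ z ∈ ZX φ, z ≠ 1 ∧ ∀ v ∈ ZX φ, v = 1 ∨ v = z := by
    have h2 : (ZX φ : Set T).ncard = 2 := by rw [← Nat.card_coe_set_eq, SetLike.coe_sort_coe]; exact hq.card_Z
    obtain ⟨x, y, hxy, hset⟩ := Set.ncard_eq_two.1 h2
    have h1 : (1 : T) ∈ ({x, y} : Set T) := hset ▸ one_mem (ZX φ)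
    rcases h1 with e | e
    · refine ⟨y, (hset ▸ Or.inr rfl : y ∈ (ZX φ : Set T)), fun q => hxy (e.symm.trans q.symm), fun v hv => ?_⟩
      have : v ∈ ({x, y} : Set T) := hset ▸ hv
      rcases this with r | r
      exacts [Or.inl (r.trans e.symm), Or.inr r]
    · refine ⟨x, (hset ▸ Or.inl rfl : x ∈ (ZX φ : Set T)), fun q => hxy (q.trans e), fun v hv => ?_⟩
      have : v ∈ ({x, y} : Set T) := hset ▸ hv
      rcases this with r | r
      exacts [Or.inr r, Or.inl ((Set.mem_singleton_iff.1 r).trans e.symm)]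
  have hz2 : z * z = 1 := by
    rcases hZ _ (mul_mem hz hz) with e | e
    · exact e
    · exact absurd (mul_eq_left.1 e) hz1
  have hzc : z ∈ center T := mem_center_iff.2 fun g => by
    rcases hZ _ (ZX_normal.conj_mem z hz g) with e | e
    · exact absurd (conj_eq_one_iff.1 e) hz1
    · calc g * z = g * z * g⁻¹ * g := by group
        _ = _ := by rw [e]
  have hX := ZX_le (φ := φ)
  have hrel : (ZX φ).relIndex (XX φ) = 4 := by
    have h1 := relIndex_mul_relIndex (⊥ : Subgroup T) (ZX φ) (XX φ) bot_le hX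
    rw [relIndex_bot_left, relIndex_bot_left, hq.card_Z, hq.card_X] at h1
    omega
  haveI := ZX_normal (φ := φ)
  have hc4 : Nat.card (XX φ ⧸ (ZX φ).subgroupOf (XX φ)) = 2 ^ 2 := hrel
  haveI : Fact (Nat.Prime 2) := ⟨Nat.prime_two⟩
  have hQc : ∀ x ∈ XX φ, ∀ y ∈ XX φ, cm x y ∈ ZX φ := by
    intro x hx y hy
    letI := IsPGroup.commGroupOfCardEqPrimeSq hc4
    have h1 : (QuotientGroup.mk' ((ZX φ).subgroupOf (XX φ))) (⟨x, hx⟩ * ⟨y, hy⟩ * ⟨x, hx⟩⁻¹ * ⟨y, hy⟩⁻¹) = 1 := by
      rw [map_mul, map_mul, map_mul, map_inv, map_inv]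
      rw [mul_comm (QuotientGroup.mk' _ (⟨x, hx⟩ : XX φ)), mul_inv_cancel_right, mul_inv_cancel]
    exact mem_subgroupOf.1 ((QuotientGroup.eq_one_iff _).1 h1)
  refine ⟨z, XX_normal, ⟨fun k hk g => ?_⟩, fun t => ?_, fun q hq' k hk => (hq.cen k hk q hq').symm, hX hz,
    hq.fixed z hz, hz2, hz1, hzc, fun q hq' => ?_, fun g hg q hq' => ?_, fun x hx hxf => hZ x (hq.inter x hx hxf),
    hq.nab⟩
  · obtain ⟨s, hs, hgs⟩ := h.decomp g
    have h1 := hq.cen k hk _ (inv_mem hgs)
    have e : g * k * g⁻¹ = s * k * s⁻¹ := by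
      calc g * k * g⁻¹ = s * ((g⁻¹ * s)⁻¹ * k) * (g⁻¹ * s) * s⁻¹ := by group
        _ = s * (k * (g⁻¹ * s)⁻¹) * (g⁻¹ * s) * s⁻¹ := by rw [h1]
        _ = s * k * s⁻¹ := by group
    rw [e]
    exact mul_mem (mul_mem hs hk) (inv_mem hs)
  · obtain ⟨s, hs, hts⟩ := h.decomp t
    refine ⟨t * s⁻¹, ?_, s, hs, by group⟩
    have := conj_mem_XX (inv_mem hts) t
    rwa [show t * (t⁻¹ * s)⁻¹ * t⁻¹ = t * s⁻¹ by group] at this
  · by_cases hqZ : q ∈ ZX φ
    · rcases hZ q hqZ with e | e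
      exacts [Or.inl e, Or.inr (Or.inl e)]
    · refine Or.inr (Or.inr ?_)
      -- the square lies in the centre
      have hsq : q * q ∈ ZX φ := by
        by_contra hne
        letI := IsPGroup.commGroupOfCardEqPrimeSq hc4
        -- otherwise the quotient is cyclic and the commutator abelian
        obtain ⟨x, hx, y, hy, hxy⟩ := hq.nab
        have hord : orderOf (QuotientGroup.mk' ((ZX φ).subgroupOf (XX φ)) ⟨q, hq'⟩) = 4 := by
          have := orderOf_eq_prime_pow (p := 2) (n := 1)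
            (x := QuotientGroup.mk' ((ZX φ).subgroupOf (XX φ)) ⟨q, hq'⟩) (fun e => hne (by
              rw [pow_one, ← map_pow] at e
              have := mem_subgroupOf.1 ((QuotientGroup.eq_one_iff _).1 e)
              simpa [pow_two] using this)) (by rw [← hc4]; exact pow_card_eq_one')
          rw [this]; norm_num
        haveI hcyc : IsCyclic (XX φ ⧸ (ZX φ).subgroupOf (XX φ)) :=
          isCyclic_of_orderOf_eq_card _ (hord.trans hc4.symm)
        have hker : (QuotientGroup.mk' ((ZX φ).subgroupOf (XX φ))).ker ≤ center (XX φ) := fun v hv => by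
          rw [QuotientGroup.ker_mk'] at hv
          exact mem_center_iff.2 fun w => Subtype.ext ((mem_ZX.1 (mem_subgroupOf.1 hv)).2 w w.2)
        have := commutative_of_cyclic_center_quotient _ hker (⟨x, hx⟩ : XX φ) ⟨y, hy⟩
        exact hxy (congrArg Subtype.val this)
      rcases hZ _ hsq with e | e
      · exact absurd e (hq.ne_one q hq' hqZ)
      · exact e
  · rcases hZ _ (hQc g hg q hq') with e | e
    · left
      calc g * q * g⁻¹ = cm g q * q := by simp only [cm]; group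
        _ = q := by rw [e, one_mul]
    · right
      calc g * q * g⁻¹ = cm g q * q := by simp only [cm]; group
        _ = q * z := by rw [e]; exact (mem_center_iff.1 hzc q).symm

end Cfsg.Lib.NormalRankTwo
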