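import Cfsg.Agent.NormalRankTwo.Layer

/-!
The commutator with the automorphism is abelian or special.
-/

set_option autoImplicit false
set_option linter.unusedSectionVars false
set_option linter.style.haveILetI false

namespace Cfsg.Lib.NormalRankTwo

open Subgroup

variable {T : Type*} [Group T] [Finite T] {φ : MulAut T}

/-- the elements of order at most two of an abelian subgroup -/
def omegaOne {D : Subgroup T} (G : Good φ D) : Subgroup T where
  carrier := {x | x ∈ D ∧ x * x = 1}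
  one_mem' := ⟨one_mem _, one_mul 1⟩
  mul_mem' := fun {a b} ha hb => ⟨mul_mem ha.1 hb.1, by
    rw [(show Commute b a from G.comm b hb.1 a ha.1).mul_mul_mul_comm, ha.2, hb.2, one_mul]⟩
  inv_mem' := fun {a} ha => ⟨inv_mem ha.1, by rw [← mul_inv_rev, ha.2, inv_one]⟩

theorem mem_omegaOne {D : Subgroup T} (G : Good φ D) {x : T} : x ∈ omegaOne G ↔ x ∈ D ∧ x * x = 1 := Iff.rfl

theorem omegaOne_normal {D : Subgroup T} (G : Good φ D) : (omegaOne G).Normal := ⟨fun x hx g =>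
  ⟨G.nor.conj_mem x hx.1 g, by
    rw [show g * x * g⁻¹ * (g * x * g⁻¹) = g * (x * x) * g⁻¹ by group, hx.2]; group⟩⟩

theorem omegaOne_inv {D : Subgroup T} (G : Good φ D) : ∀ x ∈ omegaOne G, φ x ∈ omegaOne G := fun x hx =>
  ⟨G.inv x hx.1, by rw [← map_mul, hx.2, map_one]⟩

/-- a larger maximal one exists -/
theorem exists_max {B : Subgroup T} (hB : Good φ B) :
    ∃ D, Good φ D ∧ B ≤ D ∧ ∀ E, Good φ E → D ≤ E → E ≤ D := by
  classical
  haveI : Fintype (Subgroup T) := Fintype.ofFinite _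
  obtain ⟨D, hBD, hD⟩ := Finite.exists_le_maximal (p := fun E : Subgroup T => Good φ E) hB
  exact ⟨D, hD.1, hBD, fun E hE hle => hD.2 hE hle⟩

namespace Ctx

variable (h : Ctx T φ)

include h

/-- fixed involutions give fixed elements -/
theorem fixed_of_omega {D : Subgroup T} (G : Good φ D) (hf : ∀ v ∈ omegaOne G, φ v = v) : ∀ d ∈ D, φ d = d := by
  intro d hd
  obtain ⟨k, hk⟩ := h.two d
  induction k generalizing d with
  | zero => rw [pow_zero, pow_one] at hk; rw [hk, map_one]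
  | succ k ih =>
    have h1 := ih (d * d) (mul_mem hd hd) (by rw [← pow_two, ← pow_mul, ← pow_succ']; exact hk)
    rw [map_mul] at h1
    set c := d⁻¹ * φ d with hc
    have hcV : c ∈ omegaOne G := ⟨mul_mem (inv_mem hd) (G.inv d hd), by
      rw [hc, (show Commute (φ d) d⁻¹ from G.comm _ (G.inv d hd) _ (inv_mem hd)).mul_mul_mul_comm, h1,
        ← mul_inv_rev, inv_mul_cancel]⟩
    have h2 := h.fix_of_shift (x := d) (c := c) (by rw [hc, mul_inv_cancel_left]) (hf c hcV)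
    rw [hc, inv_mul_eq_one] at h2
    exact h2.symm

/-- a maximal one central in the commutator has elementary abelian quotient -/
theorem central_quot {D : Subgroup T} (G : Good φ D) (hmax : ∀ E, Good φ E → D ≤ E → E ≤ D)
    (hcen : ∀ d ∈ D, ∀ x ∈ XX φ, x * d = d * x) :
    (∀ x ∈ XX φ, x * x ∈ D) ∧ ∀ x ∈ XX φ, ∀ y ∈ XX φ, cm x y ∈ omegaOne G := by
  let N : Subgroup T :=
    { carrier := {t | t ∈ XX φ ∧ t * t ∈ D ∧ ∀ g : T, cm g t ∈ D}
      one_mem' := ⟨one_mem _, by rw [one_mul]; exact one_mem D,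
        fun g => by rw [show cm g (1 : T) = 1 by simp [cm]]; exact one_mem D⟩
      mul_mem' := by
        rintro a b ⟨ha, ha2, hag⟩ ⟨hb, hb2, hbg⟩
        refine ⟨mul_mem ha hb, ?_, fun g => ?_⟩
        · rw [show a * b * (a * b) = a * cm b a * a⁻¹ * (a * a) * (b * b) by simp only [cm]; group]
          exact mul_mem (mul_mem (G.nor.conj_mem _ (hag b) a) ha2) hb2
        · rw [show cm g (a * b) = cm g a * (a * cm g b * a⁻¹) from cm_mul_right g a b]
          exact mul_mem (hag g) (G.nor.conj_mem _ (hbg g) a)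
      inv_mem' := by
        rintro a ⟨ha, ha2, hag⟩
        refine ⟨inv_mem ha, by rw [← mul_inv_rev]; exact inv_mem ha2, fun g => ?_⟩
        rw [show cm g a⁻¹ = a⁻¹ * (cm g a)⁻¹ * a⁻¹⁻¹ by simp only [cm]; group]
        exact G.nor.conj_mem _ (inv_mem (hag g)) _ }
  have hDN : D ≤ N := fun d hd => ⟨G.le hd, mul_mem hd hd,
    fun g => mul_mem (G.nor.conj_mem d hd g) (inv_mem hd)⟩
  have hNn : N.Normal := ⟨fun t ht g => by
    obtain ⟨ht, ht2, htg⟩ := ht
    refine ⟨conj_mem_XX ht g, ?_, fun k => ?_⟩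
    · rw [show g * t * g⁻¹ * (g * t * g⁻¹) = g * (t * t) * g⁻¹ by group]
      exact G.nor.conj_mem _ ht2 g
    · rw [show cm k (g * t * g⁻¹) = g * cm (g⁻¹ * k * g) t * g⁻¹ by simp only [cm]; group]
      exact G.nor.conj_mem _ (htg _) g⟩
  have hNi : ∀ t ∈ N, φ t ∈ N := by
    rintro t ⟨ht, ht2, htg⟩
    refine ⟨map_mem_XX ht, by rw [← map_mul]; exact G.inv _ ht2, fun g => ?_⟩
    have := G.inv _ (htg (φ.symm g))
    rwa [cm_map, MulEquiv.apply_symm_apply] at this
  -- the centre of this layer is the subgroup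
  have hZN : N ⊓ centralizer (N : Set T) ≤ D := by
    refine hmax _ ⟨fun t ht => ht.1.1, ?_, fun t ht => ?_, fun a ha b hb => ?_⟩ fun d hd =>
      mem_inf.2 ⟨hDN hd, mem_centralizer_iff.2 fun t ht => hcen d hd t (ht : t ∈ N).1⟩
    · haveI := hNn
      infer_instance
    · refine mem_inf.2 ⟨hNi t ht.1, mem_centralizer_iff.2 fun u hu => ?_⟩
      have h1 := congrArg φ (mem_centralizer_iff.1 ht.2 (φ.symm u) (h.symm_mem hNi hu))
      simpa using h1
    · exact mem_centralizer_iff.1 hb.2 a ha.1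
  have hCN : ∀ x ∈ XX φ, (∀ t ∈ N, x * t = t * x) → x ∈ D := by
    intro x hx hc
    by_contra hxD
    haveI := hNn
    haveI := XX_normal (φ := φ)
    obtain ⟨t, ht, htD, ht2, htg⟩ := exists_step h.two G.nor (inferInstance : (XX φ ⊓ centralizer (N : Set T)).Normal)
      fun hle => hxD (hle ⟨hx, mem_centralizer_iff.2 fun u hu => (hc u hu).symm⟩)
    exact htD (hZN ⟨⟨ht.1, ht2, htg⟩, ht.2⟩)
  have hhom : ∀ a ∈ XX φ, ∀ b ∈ XX φ, ∀ t ∈ N, cm (a * b) t = cm a t * cm b t := by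
    intro a ha b hb t ht
    rw [cm_mul_left, hcen _ (ht.2.2 b) a ha, mul_inv_cancel_right]
    exact hcen _ (ht.2.2 a) _ (mul_mem (mul_mem (mul_mem hb ht.1) (inv_mem hb)) (inv_mem ht.1))
  have hsq : ∀ x ∈ XX φ, x * x ∈ D := fun x hx => hCN _ (mul_mem hx hx) fun t ht => cm_eq_one.1 (by
    have h2 : cm x (t * t) = 1 := cm_eq_one.2 (hcen _ ht.2.1 x hx)
    rw [cm_mul_right, hcen _ (ht.2.2 x) t ht.1, mul_inv_cancel_right] at h2
    rwa [hhom x hx x hx t ht])
  have hcom : ∀ x ∈ XX φ, ∀ y ∈ XX φ, cm x y ∈ D := fun x hx y hy => hCN _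
    (mul_mem (mul_mem (mul_mem hx hy) (inv_mem hx)) (inv_mem hy)) fun t ht => cm_eq_one.1 (by
      have hi : ∀ z ∈ XX φ, cm z⁻¹ t = (cm z t)⁻¹ := fun z hz => by
        refine eq_inv_of_mul_eq_one_left ?_
        rw [← hhom _ (inv_mem hz) z hz t ht, inv_mul_cancel]; simp [cm]
      rw [show cm x y = x * y * x⁻¹ * y⁻¹ from rfl,
        hhom _ (mul_mem (mul_mem hx hy) (inv_mem hx)) _ (inv_mem hy) t ht,
        hhom _ (mul_mem hx hy) _ (inv_mem hx) t ht, hhom x hx y hy t ht, hi x hx, hi y hy]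
      have k : cm y t * (cm x t)⁻¹ = (cm x t)⁻¹ * cm y t :=
        (hcen _ (inv_mem (ht.2.2 x)) _ (mul_mem (mul_mem (mul_mem hy ht.1) (inv_mem hy)) (inv_mem ht.1)))
      rw [mul_assoc (cm x t), k, mul_inv_cancel_left, mul_inv_cancel])
  refine ⟨hsq, fun x hx y hy => ⟨hcom x hx y hy, ?_⟩⟩
  have h2 : cm (x * x) y = 1 := cm_eq_one.2 (hcen _ (hsq x hx) y hy).symm
  rw [cm_mul_left, hcen _ (hcom x hx y hy) x hx, mul_inv_cancel_right] at h2
  exact h2

/-- the moved data of a maximal one -/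
theorem moved_of {D : Subgroup T} (G : Good φ D) (hmax : ∀ E, Good φ E → D ≤ E → E ≤ D)
    (hfree : ∀ v ∈ omegaOne G, φ v = v → v = 1) (hcen : omegaOne G ≤ center T) (h3 : orderOf φ = 3)
    (hcard : Nat.card (omegaOne G) = 4) (hrot : ∀ v ∈ omegaOne G, v * φ v = φ (φ v))
    (hlist : ∀ v ∈ omegaOne G, v ≠ 1 → ∀ u ∈ omegaOne G, u = 1 ∨ u = v ∨ u = φ v ∨ u = φ (φ v))
    {d : T} (hd : d ∈ D) (hd2 : d * d ≠ 1) : Moved φ D (omegaOne G) := by
  refine ⟨G, hmax, fun v => Iff.rfl, hfree, hcen, h3, hcard, hrot, hlist, fun v hv => ?_⟩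
  obtain ⟨k, hk⟩ := IsPGroup.iff_orderOf.1 h.two d
  have hk2 : 2 ≤ k := by
    by_contra hlt
    refine hd2 ?_
    rw [← pow_two]
    exact orderOf_dvd_iff_pow_eq_one.1 (hk ▸ (pow_one 2 ▸ pow_dvd_pow 2 (by omega : k ≤ 1)))
  set e := d ^ 2 ^ (k - 2) with he
  have e2 : e * e = d ^ 2 ^ (k - 1) := by
    rw [he, ← pow_two, ← pow_mul, ← pow_succ, show k - 2 + 1 = k - 1 by omega]
  have heV : e * e ∈ omegaOne G := ⟨mul_mem (pow_mem hd _) (pow_mem hd _), by
    rw [e2, ← pow_add, ← two_mul, ← pow_succ', show k - 1 + 1 = k by omega, ← hk, pow_orderOf_eq_one]⟩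
  have he1 : e * e ≠ 1 := fun hc => by
    rw [e2] at hc
    have := orderOf_dvd_of_pow_eq_one hc
    rw [hk, Nat.pow_dvd_pow_iff_le_right (by norm_num)] at this
    omega
  have heD : e ∈ D := pow_mem hd _
  rcases hlist _ heV he1 v hv with r | r | r | r
  · exact ⟨1, one_mem _, by rw [r, mul_one]⟩
  · exact ⟨e, heD, r.symm⟩
  · exact ⟨φ e, G.inv e heD, by rw [r, map_mul]⟩
  · exact ⟨φ (φ e), G.inv _ (G.inv e heD), by simp only [r, map_mul]⟩

/-- the commutator is abelian or special -/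
theorem dichotomy : (∀ x ∈ XX φ, ∀ y ∈ XX φ, x * y = y * x) ∨ Special φ := by
  by_cases hab : ∀ x ∈ XX φ, ∀ y ∈ XX φ, x * y = y * x
  · exact Or.inl hab
  refine Or.inr ?_
  have hnab : ∃ x ∈ XX φ, ∃ y ∈ XX φ, x * y ≠ y * x := by push Not at hab; exact hab
  obtain ⟨D, G, hZD, hmax⟩ := exists_max (φ := φ) (B := ZX φ)
    ⟨ZX_le, ZX_normal, fun z hz => h.ZX_inv hz, fun a ha b hb => ZX_comm ha hb⟩
  have hne : ¬ XX φ ≤ D := fun hle => hab fun x hx y hy => G.comm x (hle hx) y (hle hy)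
  -- a central one gives the special case
  have hspec : (∀ d ∈ D, ∀ x ∈ XX φ, x * d = d * x) → (∀ d ∈ D, d * d = 1) → Special φ := by
    intro hcen hexp
    obtain ⟨hsq, hcom⟩ := h.central_quot G hmax hcen
    have hDZ : ∀ d ∈ D, d ∈ ZX φ := fun d hd => mem_ZX.2 ⟨G.le hd, hcen d hd⟩
    exact ⟨hnab, fun z hz => hexp z (hZD hz), fun x hx => hDZ _ (hsq x hx),
      fun x hx y hy => hDZ _ (hcom x hx y hy).1⟩
  rcases h.four_cases (omegaOne_normal G) (omegaOne_inv G) (fun a ha => ha.2) with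
    hfix | ⟨hfree, hcen, h3, hcard, hrot, hlist⟩
  · have hf := h.fixed_of_omega G hfix
    have hc : ∀ d ∈ D, ∀ x ∈ XX φ, x * d = d * x := fun d hd => h.comm_of_fixed G.nor hf hd
    refine hspec hc fun d hd => ?_
    obtain ⟨hsq, hcom⟩ := h.central_quot G hmax hc
    have hV2 : ∀ x ∈ XX φ, x * x ∈ omegaOne G := by
      refine h.XX_induction (P := fun x => x * x ∈ omegaOne G) (fun x hx => ?_) ?_ (fun a ha b hb pa pb => ?_)
        (fun a _ pa => ?_)
      · have hx2 : φ (x * x) = x * x := hf _ (hsq x hx)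
        have e : x⁻¹ * φ x * (x⁻¹ * φ x) =
            x⁻¹ * cm (φ x) x⁻¹ * x⁻¹⁻¹ * ((x * x)⁻¹ * (φ x * φ x)) := by simp only [cm]; group
        rw [e, ← map_mul, hx2, inv_mul_cancel, mul_one]
        exact (omegaOne_normal G).conj_mem _ (hcom _ (map_mem_XX hx) _ (inv_mem hx)) _
      · rw [one_mul]; exact one_mem _
      · rw [show a * b * (a * b) = a * cm b a * a⁻¹ * (a * a) * (b * b) by simp only [cm]; group]
        exact mul_mem (mul_mem ((omegaOne_normal G).conj_mem _ (hcom b hb a ha) a) pa) pb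
      · rw [← mul_inv_rev]; exact inv_mem pa
    have := h.fixed_mem (omegaOne_normal G) (omegaOne_inv G) hcom (G.le hd)
      (by rw [hf d hd, inv_mul_cancel]; exact one_mem _)
    exact this.2
  · by_cases hexp : ∀ d ∈ D, d * d = 1
    · exact hspec (fun d hd x _ => mem_center_iff.1 (hcen ⟨hd, hexp d hd⟩) x) hexp
    push Not at hexp
    obtain ⟨d, hd, hd2⟩ := hexp
    exact (h.moved_of G hmax hfree hcen h3 hcard hrot hlist hd hd2).special h hne

end Ctx

end Cfsg.Lib.NormalRankTwo
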