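import Cfsg.Agent.NormalRankTwo.SpecialLarge

/-!
A special commutator with a quotient of order sixteen: the orders of the group.
-/

set_option autoImplicit false
set_option linter.unusedSectionVars false
set_option linter.style.haveILetI false

namespace Cfsg.Lib.NormalRankTwo

open Subgroup

variable {T : Type*} [Group T] [Finite T] {φ : MulAut T}

/-- the fixed points centralising the centre of the commutator -/
def KK (φ : MulAut T) : Subgroup T := FX φ ⊓ centralizer (ZX φ : Set T)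

theorem mem_KK {r : T} : r ∈ KK φ ↔ r ∈ FX φ ∧ ∀ v ∈ ZX φ, r * v = v * r := by
  rw [KK, mem_inf, mem_centralizer_iff]
  exact and_congr_right fun _ => ⟨fun h v hv => (h v hv).symm, fun h v hv => (h v hv).symm⟩

/-- the fixed elements acting trivially on the quotient, times the centre -/
def Kmoved (φ : MulAut T) (hc : ZX φ ≤ center T) : Subgroup T where
  carrier := {g | ∃ k ∈ FX φ, ∃ v ∈ ZX φ, g = k * v ∧ ∀ x ∈ XX φ, cm k x ∈ ZX φ}
  one_mem' := ⟨1, one_mem _, 1, one_mem _, (one_mul 1).symm,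
    fun x _ => by rw [show cm (1 : T) x = 1 by simp [cm]]; exact one_mem _⟩
  mul_mem' := by
    rintro _ _ ⟨k, hk, v, hv, rfl, hkx⟩ ⟨k', hk', v', hv', rfl, hkx'⟩
    refine ⟨k * k', mul_mem hk hk', v * v', mul_mem hv hv', ?_, fun x hx => ?_⟩
    · rw [mul_assoc k v, ← mul_assoc v k', ← mem_center_iff.1 (hc hv) k']; group
    · rw [cm_mul_left]
      exact mul_mem (ZX_normal.conj_mem _ (hkx' x hx) k) (hkx x hx)
  inv_mem' := by
    rintro _ ⟨k, hk, v, hv, rfl, hkx⟩
    refine ⟨k⁻¹, inv_mem hk, v⁻¹, inv_mem hv, ?_, fun x hx => ?_⟩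
    · rw [mul_inv_rev, ← mem_center_iff.1 (hc (inv_mem hv)) k⁻¹]
    · rw [show cm k⁻¹ x = k⁻¹ * (cm k x)⁻¹ * k⁻¹⁻¹ by simp only [cm]; group]
      exact ZX_normal.conj_mem _ (inv_mem (hkx x hx)) _

namespace Special

variable (h : Ctx T φ) (S : Special φ)

include h S

theorem not_le : ¬ XX φ ≤ ZX φ := fun hle => by
  obtain ⟨x, hx, y, hy, hxy⟩ := S.nab
  exact hxy (ZX_comm (hle hx) (hle hy))

/-- a nontrivial element of the centre -/
theorem exists_ne_one : ∃ z ∈ ZX φ, z ≠ 1 := by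
  obtain ⟨x, hx, y, hy, hxy⟩ := S.nab
  exact ⟨cm x y, S.com x hx y hy, fun e => hxy (cm_eq_one.1 e)⟩

/-- a stable element outside is no involution when the centre is a four group -/
theorem stab_ne_one (h4 : Nat.card (ZX φ) = 4) {x : T} (hx : x ∈ Stab φ) (hxV : x ∉ ZX φ) : x * x ≠ 1 := by
  intro e
  obtain ⟨z, hz, hz1⟩ := S.exists_ne_one h
  obtain ⟨y, hy, hy1, hyz⟩ : ∃ y ∈ ZX φ, y ≠ 1 ∧ y ≠ z := by
    by_contra hno
    push Not at hno
    have hle : (ZX φ : Set T) ⊆ {1, z} := fun v hv => by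
      by_cases hv1 : v = 1
      · exact Or.inl hv1
      · exact Or.inr (hno v hv hv1)
    have := Set.ncard_le_ncard hle (Set.toFinite _)
    rw [← Nat.card_coe_set_eq, SetLike.coe_sort_coe, h4, Set.ncard_pair hz1.symm] at this
    omega
  exact hxV (h.no_ext ZX_normal S.exp hz hy hz1 hy1 hyz e (fun v hv => S.v_comm hv hx.1) hx.2)

/-- a fixed element centralising the centre acts trivially on the quotient -/
theorem triv (h16 : (ZX φ).relIndex (XX φ) = 16) (hfix : ∀ v ∈ ZX φ, φ v = v) {r : T} (hr : r ∈ FX φ)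
    (hrc : ∀ v ∈ ZX φ, r * v = v * r) : ∀ x ∈ XX φ, cm r x ∈ ZX φ := by
  by_cases hS : XX φ ≤ Stab φ
  · exact fun x hx => (hS hx).2 r
  obtain ⟨a, ha, haV⟩ := S.exists_stab h
  rcases S.mid_cases h h16 ZX_le_Stab Stab_le (S.Stab_inv h) with r1 | ⟨hr4, h3⟩ | r1
  · exact absurd (r1 ha) haV
  swap
  · exact absurd r1 hS
  obtain ⟨b, hb, hbS, -, hbg⟩ := exists_step h.two (Stab_normal (φ := φ)) (XX_normal (φ := φ)) hS
  have hl : cm r b ∈ ZX φ := by
    by_contra hlV
    obtain ⟨-, hperp⟩ := S.shift h hrc hb (hbg r)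
    set l := cm r b
    have hl1 := map_mem_XX (φ := φ) (hbg r).1
    have hm := S.third_mod h h3 (hbg r).1
    have hc1 : cm (φ l) l = 1 := hperp _ (S.Stab_inv h l (hbg r))
    have hl2 : l * l = 1 := by
      have e2 : φ (φ l) * φ (φ l) = l * l := by
        rw [← map_mul, ← map_mul, hfix _ (S.sq l (hbg r).1), hfix _ (S.sq l (hbg r).1)]
      have e3 := S.sq_mod (mul_mem (hbg r).1 hl1) hm
      rw [e2, S.sq_mul (hbg r).1 hl1, ← map_mul, hfix _ (S.sq l (hbg r).1), S.exp _ (S.sq l (hbg r).1), one_mul,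
        ← S.cm_symm (hbg r).1 hl1, hc1] at e3
      exact e3
    obtain ⟨z, hz, hz1⟩ := S.exists_ne_one h
    obtain ⟨h01, -, h12, -, -⟩ := S.orbit_inc h (hbg r).1 hlV h3
    exact S.five_stable h hz hz1 (hbg r) (S.Stab_inv h l (hbg r)) hl2 (by rw [← map_mul, hl2, map_one])
      (cm_eq_one.1 hc1).symm hlV h01 h12
  have hSA : Stab φ ≤ StabAt φ r := fun x hx => ⟨hx.1, hx.2 r⟩
  rcases S.mid_cases h h16 (ZX_le_Stab.trans hSA) (fun x hx => hx.1) (S.stabAt_inv h hr) with r2 | ⟨hr2, -⟩ | r2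
  · exact absurd (r2 (hSA ha)) haV
  · exfalso
    have hmul := relIndex_mul_relIndex (ZX φ) (Stab φ) (StabAt φ r) ZX_le_Stab hSA
    rw [hr4, hr2] at hmul
    exact hbS (relIndex_eq_one.1 (by omega : (Stab φ).relIndex (StabAt φ r) = 1) ⟨hb, hl⟩)
  · exact fun x hx => (r2 hx).2

theorem KK_cent (h16 : (ZX φ).relIndex (XX φ) = 16) (hfix : ∀ v ∈ ZX φ, φ v = v) {k : T} (hk : k ∈ KK φ) {x : T}
    (hx : x ∈ XX φ) : k * x = x * k :=
  cm_eq_one.1 (S.cent_fixed h hfix (mem_KK.1 hk).1 (S.triv h h16 hfix (mem_KK.1 hk).1 (mem_KK.1 hk).2) x hx)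

/-- when every element is stable the centre is central in the group -/
theorem central_of_stab (hfix : ∀ v ∈ ZX φ, φ v = v) (hS : XX φ ≤ Stab φ) : ZX φ ≤ center T := by
  intro v hv
  have hsq : ∀ x ∈ XX φ, x * x ∈ ZX φ ⊓ center T := fun x hx => ⟨S.sq x hx, S.stab_sq h (hS hx)⟩
  haveI := ZX_normal (φ := φ)
  exact (h.fixed_mem (N := ZX φ ⊓ center T) inferInstance
    (fun x hx => by
      have e : φ x = x := hfix x hx.1
      rw [e]; exact hx)
    (fun x hx y hy => by
      have e : cm x y = (x * x * (y * y))⁻¹ * (x * y * (x * y)) := by rw [S.sq_mul hx hy]; group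
      show cm x y ∈ _
      rw [e]
      exact mul_mem (inv_mem (mul_mem (hsq x hx) (hsq y hy))) (hsq _ (mul_mem hx hy)))
    (ZX_le hv) (by rw [hfix v hv, inv_mul_cancel]; exact one_mem _)).2

theorem stab_of_cent (h16 : (ZX φ).relIndex (XX φ) = 16) (hfix : ∀ v ∈ ZX φ, φ v = v)
    (hC : ∀ r ∈ FX φ, ∀ v ∈ ZX φ, r * v = v * r) : XX φ ≤ Stab φ := by
  intro x hx
  refine ⟨hx, fun g => ?_⟩
  obtain ⟨r, hr, hgr⟩ := h.decomp g
  rw [show g = r * (g⁻¹ * r)⁻¹ by group, cm_mul_left]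
  exact mul_mem (ZX_normal.conj_mem _ (S.com _ (inv_mem hgr) x hx) r) (S.triv h h16 hfix hr (hC r hr) x hx)

theorem KK_normal (h16 : (ZX φ).relIndex (XX φ) = 16) (hfix : ∀ v ∈ ZX φ, φ v = v) : (KK φ).Normal := ⟨fun k hk g => by
  obtain ⟨r, hr, hgr⟩ := h.decomp g
  have e : g * k * g⁻¹ = r * k * r⁻¹ := by
    have h1 := S.KK_cent h h16 hfix hk (inv_mem hgr)
    calc g * k * g⁻¹ = r * ((g⁻¹ * r)⁻¹ * k) * (g⁻¹ * r) * r⁻¹ := by group
      _ = r * (k * (g⁻¹ * r)⁻¹) * (g⁻¹ * r) * r⁻¹ := by rw [h1]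
      _ = r * k * r⁻¹ := by group
  rw [e, mem_KK]
  refine ⟨mul_mem (mul_mem hr (mem_KK.1 hk).1) (inv_mem hr), fun v hv => ?_⟩
  have hv' : r⁻¹ * v * r ∈ ZX φ := by simpa using ZX_normal.conj_mem v hv r⁻¹
  calc r * k * r⁻¹ * v = r * (k * (r⁻¹ * v * r)) * r⁻¹ := by group
    _ = r * (r⁻¹ * v * r * k) * r⁻¹ := by rw [(mem_KK.1 hk).2 _ hv']
    _ = _ := by group⟩

/-- the part centralising the centre is the centre -/
theorem KK_eq (h16 : (ZX φ).relIndex (XX φ) = 16) (hfix : ∀ v ∈ ZX φ, φ v = v)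
    (hcard : Nat.card (ZX φ) = 2 ∨ Nat.card (ZX φ) = 4) (hC2 : Nat.card (ZX φ) = 2 → XX φ ≤ Stab φ) :
    ∀ k ∈ KK φ, k ∈ ZX φ := by
  by_contra hne
  push Not at hne
  obtain ⟨k₀, hk₀, hk₀V⟩ := hne
  obtain ⟨k, hk, hkV, hk2, hkg⟩ := exists_step h.two (ZX_normal (φ := φ)) (S.KK_normal h h16 hfix)
    (fun hle => hk₀V (hle hk₀))
  have hkX : k ∉ XX φ := fun hX => hkV (S.mem_of_fix h hX (by
    rw [mem_FX.1 (mem_KK.1 hk).1, inv_mul_cancel]; exact one_mem _))
  obtain ⟨z, hz, hz1⟩ := S.exists_ne_one h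
  -- no involution outside the commutator
  have hno : ∀ x ∈ Stab φ, x * x = k * k → (Nat.card (ZX φ) = 2 → ∃ y ∈ XX φ, y ∉ ZX φ ∧ y * y = 1 ∧ x * y = y * x)
      → False := by
    intro x hx hxk hy
    set s := x * k with hs
    have hs2 : s * s = 1 := by
      rw [hs, (show Commute k x from S.KK_cent h h16 hfix hk hx.1).mul_mul_mul_comm, hxk, S.exp _ hk2]
    have hsX : s ∉ XX φ := fun hX => hkX (by
      have := mul_mem (inv_mem hx.1) hX
      rwa [hs, inv_mul_cancel_left] at this)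
    have hsg : ∀ g : T, cm g s ∈ ZX φ := fun g => by
      rw [hs, cm_mul_right]; exact mul_mem (hx.2 g) (ZX_normal.conj_mem _ (hkg g) x)
    have hsc : ∀ v ∈ ZX φ, s * v = v * s := fun v hv => by
      rw [hs, mul_assoc, (mem_KK.1 hk).2 v hv, ← mul_assoc, S.v_comm hv hx.1, mul_assoc]
    rcases hcard with h2 | h4
    · obtain ⟨y, hy, hyV, hy2, hyx⟩ := hy h2
      refine S.five_near h hz hz1 hsg (hC2 h2 hy).2 hsc (fun v hv => S.v_comm hv hy) hs2 hy2 ?_
        (fun hc => hsX (ZX_le hc)) hyV (fun hc => hsX (by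
          have := mul_mem hy (inv_mem (ZX_le hc))
          rwa [mul_inv_rev, inv_inv, mul_inv_cancel_left] at this))
      rw [hs, mul_assoc, S.KK_cent h h16 hfix hk hy, ← mul_assoc, hyx, mul_assoc]
    · obtain ⟨y, hy, hy1, hyz⟩ : ∃ y ∈ ZX φ, y ≠ 1 ∧ y ≠ z := by
        by_contra hno
        push Not at hno
        have hle : (ZX φ : Set T) ⊆ {1, z} := fun v hv => by
          by_cases hv1 : v = 1
          · exact Or.inl hv1
          · exact Or.inr (hno v hv hv1)
        have := Set.ncard_le_ncard hle (Set.toFinite _)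
        rw [← Nat.card_coe_set_eq, SetLike.coe_sort_coe, h4, Set.ncard_pair hz1.symm] at this
        omega
      exact hsX (ZX_le (h.no_ext ZX_normal S.exp hz hy hz1 hy1 hyz hs2 hsc hsg))
  by_cases hu1 : k * k = 1
  · refine hno 1 (one_mem _) (by rw [one_mul, hu1]) fun h2 => ?_
    obtain ⟨y, hy, hyV, hy2⟩ := S.singular h h16 h2
    exact ⟨y, hy, hyV, hy2, by rw [one_mul, mul_one]⟩
  rcases hcard with h2 | h4
  · obtain ⟨y, hy, hyV, hy2⟩ := S.singular h h16 h2
    obtain ⟨x, hx, hxV, hyx, hc⟩ := S.perp_exists h h16 hy (fun s => s = 1) fun s hs t ht ps pt => by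
      have hset : ∀ v ∈ ZX φ, v ≠ 1 → v = z := fun v hv hv1 => by
        by_contra hne
        have h3 : ({1, v, z} : Set T).ncard = 3 := by
          rw [Set.ncard_insert_of_notMem (by simp [hv1.symm, hz1.symm]), Set.ncard_pair hne]
        have hle : ({1, v, z} : Set T) ⊆ (ZX φ : Set T) := by
          rintro w (rfl | rfl | rfl)
          exacts [one_mem _, hv, hz]
        have := Set.ncard_le_ncard hle (Set.toFinite _)
        rw [h3, ← Nat.card_coe_set_eq, SetLike.coe_sort_coe, h2] at this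
        omega
      rw [hset s hs ps, hset t ht pt, S.exp z hz]
    refine hno x (hC2 h2 hx) ?_ fun _ => ⟨y, hy, hyV, hy2, (cm_eq_one.1 hc).symm⟩
    by_contra hne
    have h1 : x * x = 1 := by
      by_contra hx1
      refine hne ?_
      have hle : ({1, x * x, k * k} : Set T) ⊆ (ZX φ : Set T) := by
        rintro w (rfl | rfl | rfl)
        exacts [one_mem _, S.sq x hx, hk2]
      have := Set.ncard_le_ncard hle (Set.toFinite _)
      rw [Set.ncard_insert_of_notMem (by simp [Ne.symm hx1, Ne.symm hu1]), Set.ncard_pair hne,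
        ← Nat.card_coe_set_eq, SetLike.coe_sort_coe, h2] at this
      omega
    exact S.five_stable h hz hz1 (hC2 h2 hy) (hC2 h2 hx) hy2 h1 (cm_eq_one.1 hc) hyV hxV hyx
  · have hkc : k * k ∈ center T := mem_center_iff.2 fun g => by
      have hv := hkg g
      have e : g * k * g⁻¹ = cm g k * k := by simp only [cm]; group
      have h1 : g * (k * k) * g⁻¹ = k * k := by
        rw [show g * (k * k) * g⁻¹ = g * k * g⁻¹ * (g * k * g⁻¹) by group, e,
          (show Commute k (cm g k) from (mem_KK.1 hk).2 _ hv).mul_mul_mul_comm, S.exp _ hv, one_mul]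
      calc g * (k * k) = g * (k * k) * g⁻¹ * g := by group
        _ = _ := by rw [h1]
    by_cases hS : XX φ ≤ Stab φ
    · obtain ⟨x, hx, hxk⟩ := S.roots h h16 (fun x hx hxV => S.stab_ne_one h h4 (hS hx) hxV) hk2 hu1
      exact hno x (hS hx) hxk fun h2 => by omega
    · obtain ⟨a, ha, haV⟩ := S.exists_stab h
      refine hno a ha ?_ fun h2 => by omega
      by_contra hne
      refine hS (S.stab_of_cent h h16 hfix fun r _ v hv => ?_)
      rcases h.four_list ZX_normal S.exp (S.sq a ha.1) hk2 (S.stab_ne_one h h4 ha haV) hu1 (Ne.symm hne) hv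
        with e | e | e | e <;> rw [e]
      · rw [mul_one, one_mul]
      · exact mem_center_iff.1 (S.stab_sq h ha) r
      · exact mem_center_iff.1 hkc r
      · exact mem_center_iff.1 (mul_mem (S.stab_sq h ha) hkc) r

/-- the fixed centre -/
theorem fixed_case (h16 : (ZX φ).relIndex (XX φ) = 16) (hfix : ∀ v ∈ ZX φ, φ v = v) :
    Nat.card T = 64 ∨ Nat.card T = 128 ∨ (Nat.card T = 32 ∧ Cfsg.PRankLE 2 2 T) := by
  obtain ⟨z, hz, hz1⟩ := S.exists_ne_one h
  have hcard : Nat.card (ZX φ) = 2 ∨ Nat.card (ZX φ) = 4 := by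
    have h1 := h.card_le_four ZX_normal S.exp
    obtain ⟨k, hk⟩ := IsPGroup.iff_card.1 (h.two.to_subgroup (ZX φ))
    rw [hk] at h1 ⊢
    rcases k with _ | _ | _ | k
    · exact absurd (Subgroup.card_eq_one.1 (by rw [hk, pow_zero]) ▸ hz : z ∈ (⊥ : Subgroup T))
        (fun hb => hz1 (mem_bot.1 hb))
    · exact Or.inl rfl
    · exact Or.inr rfl
    · have := Nat.le_self_pow (show k + 1 + 1 + 1 ≠ 0 by omega) 2
      have : 2 ^ 3 ≤ 2 ^ (k + 1 + 1 + 1) := Nat.pow_le_pow_right (by norm_num) (by omega)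
      omega
  have hC2 : Nat.card (ZX φ) = 2 → XX φ ≤ Stab φ := fun h2 => S.stab_of_cent h h16 hfix fun r _ v hv => by
    by_cases hv1 : v = 1
    · rw [hv1, mul_one, one_mul]
    have hv' : r * v * r⁻¹ ∈ ZX φ := ZX_normal.conj_mem v hv r
    have e : r * v * r⁻¹ = v := by
      by_contra hne
      have hle : ({1, r * v * r⁻¹, v} : Set T) ⊆ (ZX φ : Set T) := by
        rintro w (rfl | rfl | rfl)
        exacts [one_mem _, hv', hv]
      have := Set.ncard_le_ncard hle (Set.toFinite _)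
      rw [Set.ncard_insert_of_notMem (by
          rintro (e | e)
          exacts [hv1 (conj_eq_one_iff.1 e.symm), hv1 (Set.mem_singleton_iff.1 e).symm]), Set.ncard_pair hne,
        ← Nat.card_coe_set_eq, SetLike.coe_sort_coe, h2] at this
      omega
    calc r * v = r * v * r⁻¹ * r := by group
      _ = _ := by rw [e]
  have hK := S.KK_eq h h16 hfix hcard hC2
  have hVF : ZX φ ≤ FX φ := fun v hv => hfix v hv
  have hmul := h.card_mul
  rw [S.inter_eq h hfix, S.card_XX h, h16] at hmul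
  have hpos : 0 < Nat.card (ZX φ) := Nat.card_pos
  have hT : Nat.card T = 16 * Nat.card (FX φ) := by
    refine Nat.eq_of_mul_eq_mul_left hpos ?_
    rw [mul_comm, hmul, mul_assoc]
  rw [hT]
  by_cases hS : XX φ ≤ Stab φ
  · have hc := S.central_of_stab h hfix hS
    have hFV : FX φ = ZX φ := le_antisymm
      (fun r hr => hK r (mem_KK.2 ⟨hr, fun v hv => mem_center_iff.1 (hc hv) r⟩)) hVF
    rw [hFV]
    rcases hcard with h2 | h4
    · refine Or.inr (Or.inr ⟨by rw [h2], fun E hE hexp => ?_⟩)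
      have hTX : ∀ t : T, t ∈ XX φ := fun t => by
        obtain ⟨r, hr, htr⟩ := h.decomp t
        have := mul_mem (ZX_le (show r ∈ ZX φ from hFV ▸ hr)) (inv_mem htr)
        rwa [mul_inv_rev, inv_inv, mul_inv_cancel_left] at this
      have h2' : ∀ e ∈ E, e * e = 1 := fun e he => by rw [← pow_two]; exact hexp e he
      have hcm : ∀ e ∈ E, ∀ f ∈ E, e * f = f * e := fun e he f hf =>
        congrArg Subtype.val (hE.is_comm.comm (⟨e, he⟩ : E) ⟨f, hf⟩)
      have hsub : (ZX φ).relIndex E ≤ 2 := by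
        by_contra hlt
        obtain ⟨x, hx, hxo⟩ := exists_out (N := ZX φ) (K := E) {(1 : T)} (by rw [Finset.card_singleton]; omega)
        classical
        obtain ⟨y, hy, hyo⟩ := exists_out (N := ZX φ) (K := E) {1, x}
          (lt_of_le_of_lt Finset.card_le_two (by omega))
        exact S.five_stable h hz hz1 (hS (hTX x)) (hS (hTX y)) (h2' x hx) (h2' y hy) (hcm x hx y hy)
          (by simpa using hxo 1 (by simp)) (by simpa using hyo 1 (by simp)) (hyo x (by simp))
      have h5 := (ZX φ ⊓ E).relIndex_bot_left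
      have h6 := relIndex_mul_relIndex (⊥ : Subgroup T) (ZX φ ⊓ E) E bot_le inf_le_right
      rw [h5, inf_relIndex_right, relIndex_bot_left] at h6
      have h7 : Nat.card (ZX φ ⊓ E : Subgroup T) ≤ 2 := h2 ▸ Subgroup.card_le_of_le inf_le_left
      calc Nat.card E = _ := h6.symm
        _ ≤ 2 * 2 := Nat.mul_le_mul h7 hsub
        _ = 2 ^ 2 := by norm_num
    · left; rw [h4]
  · have h4 : Nat.card (ZX φ) = 4 := hcard.resolve_left fun h2 => hS (hC2 h2)
    obtain ⟨a, ha, haV⟩ := S.exists_stab h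
    set A := a * a with hA
    have hA1 : A ≠ 1 := S.stab_ne_one h h4 ha haV
    have hAc := S.stab_sq h ha
    have hswap : ∀ r ∈ FX φ, r ∉ ZX φ → ∀ v ∈ ZX φ, v ≠ 1 → v ≠ A → r * v * r⁻¹ = A * v := by
      intro r hr hrV v hv hv1 hvA
      rcases h.four_list ZX_normal S.exp (S.sq a ha.1) hv hA1 hv1 hvA (ZX_normal.conj_mem v hv r) with e | e | e | e
      · exact absurd (conj_eq_one_iff.1 e) hv1
      · exfalso
        refine hvA ?_
        calc v = r⁻¹ * (r * v * r⁻¹) * r := by group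
          _ = r⁻¹ * A * r := by rw [e]
          _ = A := by rw [mem_center_iff.1 hAc r⁻¹, inv_mul_cancel_right]
      · exfalso
        refine hrV (hK r (mem_KK.2 ⟨hr, fun w hw => ?_⟩))
        have e' : r * v = v * r := by
          calc r * v = r * v * r⁻¹ * r := by group
            _ = _ := by rw [e]
        rcases h.four_list ZX_normal S.exp (S.sq a ha.1) hv hA1 hv1 hvA hw with q | q | q | q <;> rw [q]
        · rw [mul_one, one_mul]
        · exact mem_center_iff.1 hAc r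
        · exact e'
        · rw [← mul_assoc, mem_center_iff.1 hAc r, mul_assoc, e', ← mul_assoc]
      · exact e
    have hprod : ∀ r ∈ FX φ, r ∉ ZX φ → ∀ s ∈ FX φ, s ∉ ZX φ → r * s ∈ ZX φ := by
      intro r hr hrV s hs hsV
      refine hK _ (mem_KK.2 ⟨mul_mem hr hs, fun v hv => ?_⟩)
      by_cases hv1 : v = 1
      · rw [hv1, mul_one, one_mul]
      by_cases hvA : v = A
      · rw [hvA]; exact mem_center_iff.1 hAc _
      have e : r * s * v * (r * s)⁻¹ = v := by
        calc r * s * v * (r * s)⁻¹ = r * (s * v * s⁻¹) * r⁻¹ := by group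
          _ = r * (A * v) * r⁻¹ := by rw [hswap s hs hsV v hv hv1 hvA]
          _ = r * A * (v * r⁻¹) := by group
          _ = A * r * (v * r⁻¹) := by rw [mem_center_iff.1 hAc r]
          _ = A * (r * v * r⁻¹) := by group
          _ = v := by rw [hswap r hr hrV v hv hv1 hvA, ← mul_assoc, S.exp _ (S.sq a ha.1), one_mul]
      calc r * s * v = r * s * v * (r * s)⁻¹ * (r * s) := by group
        _ = _ := by rw [e]
    have hidx : (ZX φ).relIndex (FX φ) ≤ 2 := by
      by_contra hlt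
      classical
      obtain ⟨r, hr, hro⟩ := exists_out (N := ZX φ) (K := FX φ) {(1 : T)} (by rw [Finset.card_singleton]; omega)
      have hrV : r ∉ ZX φ := by simpa using hro 1 (by simp)
      obtain ⟨s, hs, hso⟩ := exists_out (N := ZX φ) (K := FX φ) {1, r⁻¹}
        (lt_of_le_of_lt Finset.card_le_two (by omega))
      have := hprod r hr hrV s hs (by simpa using hso 1 (by simp))
      exact hso r⁻¹ (by simp) (by rwa [inv_inv])
    have h6 := relIndex_mul_relIndex (⊥ : Subgroup T) (ZX φ) (FX φ) bot_le hVF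
    rw [relIndex_bot_left, relIndex_bot_left, h4] at h6
    have : (ZX φ).relIndex (FX φ) ≠ 0 := fun e => by rw [e, mul_zero] at h6; exact Nat.card_pos.ne' h6.symm
    omega

/-- the moved centre -/
theorem moved_case (h16 : (ZX φ).relIndex (XX φ) = 16) (hfree : ∀ v ∈ ZX φ, φ v = v → v = 1)
    (hc : ZX φ ≤ center T) (h3 : orderOf φ = 3) (h4 : Nat.card (ZX φ) = 4) :
    Nat.card T = 64 ∨ Nat.card T = 128 := by
  have hrc : ∀ r : T, ∀ v ∈ ZX φ, r * v = v * r := fun r v hv => mem_center_iff.1 (hc hv) r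
  obtain ⟨z, hz, hz1⟩ := S.exists_ne_one h
  have hK1 : ∀ r ∈ FX φ, (∀ x ∈ XX φ, cm r x ∈ ZX φ) → r = 1 := by
    intro r hr hrx
    have hn : (Kmoved φ hc).Normal := ⟨by
      rintro _ ⟨k, hk, v, hv, rfl, hkx⟩ g
      obtain ⟨s, hs, hgs⟩ := h.decomp g
      set w := (g⁻¹ * s)⁻¹ with hw
      have hwX : w ∈ XX φ := inv_mem hgs
      have hgw : g = s * w := by rw [hw]; group
      have hwk : cm w k ∈ ZX φ := by
        have := inv_mem (hkx w hwX)
        rwa [show (cm k w)⁻¹ = cm w k by simp only [cm]; group] at this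
      refine ⟨s * k * s⁻¹, mul_mem (mul_mem hs hk) (inv_mem hs), cm w k * v, mul_mem hwk hv, ?_, fun x hx => ?_⟩
      · rw [hgw]
        calc s * w * (k * v) * (s * w)⁻¹ = s * (cm w k * k * (w * v * w⁻¹)) * s⁻¹ := by simp only [cm]; group
          _ = s * (cm w k * k * v) * s⁻¹ := by rw [hrc w v hv, mul_inv_cancel_right]
          _ = s * (k * cm w k * v) * s⁻¹ := by rw [hrc k _ hwk]
          _ = s * k * (cm w k * v * s⁻¹) := by group
          _ = s * k * (s⁻¹ * (cm w k * v)) := by rw [hrc s⁻¹ _ (mul_mem hwk hv)]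
          _ = _ := by group
      · rw [show cm (s * k * s⁻¹) x = s * cm k (s⁻¹ * x * s⁻¹⁻¹) * s⁻¹ by simp only [cm]; group]
        exact ZX_normal.conj_mem _ (hkx _ (conj_mem_XX hx _)) s⟩
    have hrW : r ∈ Kmoved φ hc := ⟨r, hr, 1, one_mem _, (mul_one r).symm, hrx⟩
    by_contra hr1
    have hrV : r ∉ ZX φ := fun hc' => hr1 (hfree r hc' hr)
    obtain ⟨_, ⟨k, hk, v, hv, rfl, -⟩, hgV, hg2, hgg⟩ :=
      exists_step h.two (ZX_normal (φ := φ)) hn (fun hle => hrV (hle hrW))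
    rw [(show Commute v k from (hrc k v hv).symm).mul_mul_mul_comm, S.exp v hv, mul_one] at hg2
    have hk2 : k * k = 1 := hfree _ hg2 (mem_FX.1 (mul_mem hk hk))
    have hkV : k ∈ ZX φ := by
      obtain ⟨y, hy, hy1, hyz⟩ : ∃ y ∈ ZX φ, y ≠ 1 ∧ y ≠ z :=
        ⟨φ z, h.ZX_inv hz, fun e => hz1 (φ.map_eq_one_iff.1 e), fun e => hz1 (hfree z hz e)⟩
      refine h.no_ext ZX_normal S.exp hz hy hz1 hy1 hyz hk2 (fun w hw => hrc k w hw) fun g => ?_
      have := hgg g
      rwa [cm_mul_right, cm_eq_one.2 (hrc g v hv), mul_one, mul_inv_cancel, mul_one] at this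
    exact hgV (mul_mem hkV hv)
  have hinter : (XX φ ⊓ FX φ : Subgroup T) = ⊥ := (eq_bot_iff_forall _).2 fun x hx =>
    hfree x (S.mem_of_fix h hx.1 (by rw [mem_FX.1 hx.2, inv_mul_cancel]; exact one_mem _)) hx.2
  have hmul := h.card_mul
  rw [hinter, Subgroup.card_bot, mul_one, S.card_XX h, h16, h4] at hmul
  suffices hF : Nat.card (FX φ) ≤ 2 by
    rw [hmul]
    have : 0 < Nat.card (FX φ) := Nat.card_pos
    omega
  by_cases hS : XX φ ≤ Stab φ
  · have : FX φ = ⊥ := (eq_bot_iff_forall _).2 fun r hr => hK1 r hr fun x hx => (hS hx).2 r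
    rw [this, Subgroup.card_bot]; norm_num
  obtain ⟨a, ha, haV⟩ := S.exists_stab h
  rcases S.mid_cases h h16 ZX_le_Stab Stab_le (S.Stab_inv h) with r1 | ⟨hr4, -⟩ | r1
  · exact absurd (r1 ha) haV
  swap
  · exact absurd r1 hS
  obtain ⟨b, hb, hbS, -, hbg⟩ := exists_step h.two (Stab_normal (φ := φ)) (XX_normal (φ := φ)) hS
  have hsh := fun (r : T) => S.shift h (hrc r) hb (hbg r)
  let ψ : FX φ →* T := MonoidHom.mk' (fun r => cm (r : T) b * cm (r : T) b) fun r s => by
    show cm ((r : T) * s) b * cm ((r : T) * s) b = cm (r : T) b * cm (r : T) b * (cm (s : T) b * cm (s : T) b)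
    rw [cm_mul_left]
    set l := cm (r : T) b
    set l' := cm (s : T) b
    have hy : (r : T) * l' * (r : T)⁻¹ ∈ Stab φ := Stab_normal.conj_mem _ (hbg _) r
    rw [S.sq_mul hy.1 (hbg _).1, (hsh r).2 _ hy, mul_one, S.sq_mod (hbg _).1 (S.stab_conj h (hbg _) r)]
    exact ZX_comm (S.sq _ (hbg _).1) (S.sq _ (hbg _).1)
  have hinj : Function.Injective ψ := (injective_iff_map_eq_one ψ).2 fun r hr => by
    refine Subtype.ext (hK1 r r.2 ?_)
    have hlV : cm (r : T) b ∈ ZX φ := by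
      by_contra hlV
      exact S.stab_ne_one h h4 (hbg _) hlV hr
    have hSA : Stab φ ≤ StabAt φ r := fun x hx => ⟨hx.1, hx.2 r⟩
    rcases S.mid_cases h h16 (ZX_le_Stab.trans hSA) (fun x hx => hx.1) (S.stabAt_inv h r.2) with r2 | ⟨hr2, -⟩ | r2
    · exact absurd (r2 (hSA ha)) haV
    · exfalso
      have hmul := relIndex_mul_relIndex (ZX φ) (Stab φ) (StabAt φ r) ZX_le_Stab hSA
      rw [hr4, hr2] at hmul
      exact hbS (relIndex_eq_one.1 (by omega : (Stab φ).relIndex (StabAt φ (r : T)) = 1) ⟨hb, hlV⟩)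
    · exact fun x hx => (r2 hx).2
  let ψ' : FX φ → ZX φ := fun r => ⟨ψ r, S.sq _ (hbg _).1⟩
  have hinj' : Function.Injective ψ' := fun r s e => hinj (congrArg Subtype.val e)
  have hle : Nat.card (FX φ) ≤ 4 := h4 ▸ Nat.card_le_card_of_injective ψ' hinj'
  by_contra hlt
  have heq : Nat.card (FX φ) = 4 := by
    obtain ⟨k, hk⟩ := IsPGroup.iff_card.1 (h.two.to_subgroup (FX φ))
    rw [hk] at hle hlt ⊢
    rcases k with _ | _ | _ | k
    · norm_num at hlt
    · norm_num at hlt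
    · rfl
    · have : 2 ^ 3 ≤ 2 ^ (k + 1 + 1 + 1) := Nat.pow_le_pow_right (by norm_num) (by omega)
      omega
  have hbij : Function.Bijective ψ' := (Nat.bijective_iff_injective_and_card ψ').2 ⟨hinj', by rw [heq, h4]⟩
  have hbx : ∀ x ∈ Stab φ, cm b x = x * x := by
    intro x hx
    obtain ⟨r, hr⟩ := hbij.2 ⟨x * x, S.sq x hx.1⟩
    have hr' : cm (r : T) b * cm (r : T) b = x * x := congrArg Subtype.val hr
    obtain ⟨e1, e2⟩ := hsh r
    set l := cm (r : T) b
    have hl := hbg (r : T)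
    have hxl : x * l ∈ ZX φ := by
      by_contra hne
      refine S.stab_ne_one h h4 (mul_mem hx hl) hne ?_
      rw [S.sq_mul hx.1 hl.1, hr', e2 x hx, mul_one, S.exp _ (S.sq x hx.1)]
    have hlx : l⁻¹ * x ∈ ZX φ := by
      have h1 := ZX_normal.conj_mem _ hxl l
      rw [show l * (x * l) * l⁻¹ = l * l * (l⁻¹ * x) by group] at h1
      have := mul_mem (inv_mem (S.sq l hl.1)) h1
      rwa [inv_mul_cancel_left] at this
    rw [S.cm_mod hl.1 hb hlx, S.cm_symm hl.1 hb, e1, hr']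
  have hb1 := map_mem_XX hb
  have hb2 := map_mem_XX hb1
  have hcube := S.cube h h3
  have k1 : cm (φ b) a = a * a := by
    have e := congrArg φ (hbx _ (S.Stab_inv h _ (S.Stab_inv h a ha)))
    rwa [cm_map, map_mul, hcube] at e
  have k2 : cm (φ (φ b)) a = a * a := by
    have e := congrArg φ (congrArg φ (hbx _ (S.Stab_inv h a ha)))
    rwa [cm_map, cm_map, map_mul, map_mul, hcube] at e
  have hprod := S.three_prod h h3 hb
  have e : cm (b * φ b * φ (φ b)) a = 1 := by
    rw [← S.cm_symm (mul_mem (mul_mem hb hb1) hb2) ha.1 |>.symm.trans (S.cm_symm (mul_mem (mul_mem hb hb1) hb2) ha.1)]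
    exact cm_eq_one.2 ((mem_ZX.1 hprod).2 a ha.1).symm
  rw [S.cm_l (mul_mem hb hb1) hb2 ha.1, S.cm_l hb hb1 ha.1, hbx a ha, k1, k2, S.exp _ (S.sq a ha.1), one_mul] at e
  exact S.stab_ne_one h h4 ha haV e

/-- the special case -/
theorem cases : Quat φ ∨ Nat.card T = 64 ∨ Nat.card T = 128 ∨ (Nat.card T = 32 ∧ Cfsg.PRankLE 2 2 T) := by
  rcases S.dims h with ⟨h4, h3⟩ | ⟨h8, h7⟩ | ⟨h16, -⟩
  · exact Or.inl (S.quat h h4 h3)
  · exact (S.not_eight h h8 h7).elim
  · refine Or.inr ?_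
    rcases h.four_cases ZX_normal (fun _ hv => h.ZX_inv hv) S.exp with hfix | ⟨hfree, hc, h3, h4, -, -⟩
    · exact S.fixed_case h h16 hfix
    · rcases S.moved_case h h16 hfree hc h3 h4 with r | r
      exacts [Or.inl r, Or.inr (Or.inl r)]

end Special

end Cfsg.Lib.NormalRankTwo
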