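import Cfsg.Agent.NormalRankTwo.SpecialSmall

/-!
A special commutator with a quotient of order sixteen: auxiliary facts.
-/

set_option autoImplicit false
set_option linter.unusedSectionVars false
set_option linter.style.haveILetI false

namespace Cfsg.Lib.NormalRankTwo

open Subgroup

variable {T : Type*} [Group T] [Finite T] {φ : MulAut T}

namespace Ctx

/-- the order of the group from the commutator and the fixed points -/
theorem card_mul (h : Ctx T φ) :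
    Nat.card T * Nat.card (XX φ ⊓ FX φ : Subgroup T) = Nat.card (XX φ) * Nat.card (FX φ) := by
  haveI := XX_normal (φ := φ)
  set f := (QuotientGroup.mk' (XX φ)).comp (FX φ).subtype
  have hsurj : Function.Surjective f := fun q => by
    obtain ⟨t, rfl⟩ := QuotientGroup.mk_surjective q
    obtain ⟨r, hr, htr⟩ := h.decomp t
    exact ⟨⟨r, hr⟩, (QuotientGroup.eq.2 htr).symm⟩
  have h1 := f.ker.card_eq_card_quotient_mul_card_subgroup
  rw [Nat.card_congr (QuotientGroup.quotientKerEquivOfSurjective f hsurj).toEquiv] at h1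
  have h2 : Nat.card f.ker = Nat.card (XX φ ⊓ FX φ : Subgroup T) :=
    Nat.card_congr
      ⟨fun k => ⟨((k : FX φ) : T), mem_inf.2 ⟨(QuotientGroup.eq_one_iff _).1 k.2, (k : FX φ).2⟩⟩,
        fun x => ⟨⟨(x : T), x.2.2⟩, (QuotientGroup.eq_one_iff _).2 x.2.1⟩, fun _ => rfl, fun _ => rfl⟩
  rw [h2] at h1
  rw [h1, card_eq_card_quotient_mul_card_subgroup (XX φ)]
  ring

end Ctx

/-- the elements moved into the centre by a fixed element -/
def StabAt (φ : MulAut T) (r : T) : Subgroup T where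
  carrier := {x | x ∈ XX φ ∧ cm r x ∈ ZX φ}
  one_mem' := ⟨one_mem _, by rw [show cm r (1 : T) = 1 by simp [cm]]; exact one_mem _⟩
  mul_mem' := fun {a b} ha hb => ⟨mul_mem ha.1 hb.1, by
    rw [cm_mul_right]; exact mul_mem ha.2 (ZX_normal.conj_mem _ hb.2 a)⟩
  inv_mem' := fun {a} ha => ⟨inv_mem ha.1, by
    rw [show cm r a⁻¹ = a⁻¹ * (cm r a)⁻¹ * a⁻¹⁻¹ by simp only [cm]; group]
    exact ZX_normal.conj_mem _ (inv_mem ha.2) _⟩

namespace Special

variable (h : Ctx T φ) (S : Special φ)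

include h S

theorem stab_conj {x : T} (hx : x ∈ Stab φ) (g : T) : x⁻¹ * (g * x * g⁻¹) ∈ ZX φ := by
  have := ZX_normal.conj_mem _ (hx.2 g) x⁻¹
  rwa [show x⁻¹ * cm g x * x⁻¹⁻¹ = x⁻¹ * (g * x * g⁻¹) by simp only [cm]; group] at this

/-- the square of a stable element is central -/
theorem stab_sq {x : T} (hx : x ∈ Stab φ) : x * x ∈ center T := mem_center_iff.2 fun g => by
  have h1 := S.sq_mod hx.1 (S.stab_conj h hx g)
  rw [show g * x * g⁻¹ * (g * x * g⁻¹) = g * (x * x) * g⁻¹ by group] at h1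
  calc g * (x * x) = g * (x * x) * g⁻¹ * g := by group
    _ = x * x * g := by rw [h1]

theorem stabAt_inv {r : T} (hr : r ∈ FX φ) : ∀ x ∈ StabAt φ r, φ x ∈ StabAt φ r := fun x hx =>
  ⟨map_mem_XX hx.1, by
    have := h.ZX_inv hx.2
    rwa [cm_map, mem_FX.1 hr] at this⟩

/-- the fixed part of the commutator -/
theorem inter_eq (hfix : ∀ v ∈ ZX φ, φ v = v) : XX φ ⊓ FX φ = ZX φ :=
  le_antisymm (fun x hx => S.mem_of_fix h hx.1 (by rw [mem_FX.1 hx.2, inv_mul_cancel]; exact one_mem _))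
    fun v hv => ⟨ZX_le hv, hfix v hv⟩

/-- a shift by a fixed element centralising the centre -/
theorem shift {r : T} (hrc : ∀ v ∈ ZX φ, r * v = v * r) {b : T} (hb : b ∈ XX φ) (hl : cm r b ∈ Stab φ) :
    cm (cm r b) b = cm r b * cm r b ∧ ∀ x ∈ Stab φ, cm x (cm r b) = 1 := by
  set l := cm r b with hldef
  have hrb : r * b * r⁻¹ = l * b := by simp only [hldef, cm]; group
  have hsq : ∀ y ∈ XX φ, r * y * r⁻¹ * (r * y * r⁻¹) = y * y := fun y hy => by
    rw [show r * y * r⁻¹ * (r * y * r⁻¹) = r * (y * y) * r⁻¹ by group, hrc _ (S.sq y hy), mul_inv_cancel_right]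
  have h1 := hsq b hb
  rw [hrb, S.sq_mul hl.1 hb] at h1
  have hc : cm l b = l * l := by
    have e : l * l * (b * b) * cm l b = b * b * (l * l * cm l b) := by
      rw [ZX_comm (S.sq l hl.1) (S.sq b hb), mul_assoc]
    rw [e, mul_eq_left] at h1
    rw [eq_inv_of_mul_eq_one_right h1, S.v_inv (S.sq l hl.1)]
  refine ⟨hc, fun x hx => ?_⟩
  have hy : r * x * r⁻¹ ∈ XX φ := conj_mem_XX hx.1 r
  have hm := S.stab_conj h hx r
  have hlb : l * b ∈ XX φ := mul_mem hl.1 hb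
  have h2 := hsq _ (mul_mem hx.1 hb)
  rw [show r * (x * b) * r⁻¹ = r * x * r⁻¹ * (r * b * r⁻¹) by group, hrb, S.sq_mul hy hlb, S.sq_mul hx.1 hb,
    S.sq_mod hx.1 hm, ← S.cm_symm hy hlb, S.cm_mod hx.1 hlb hm, S.cm_symm hx.1 hlb, S.cm_r hx.1 hl.1 hb,
    S.sq_mul hl.1 hb, hc] at h2
  have h3 : l * l * (b * b) * (l * l) = b * b := by
    rw [ZX_comm (S.sq l hl.1) (S.sq b hb), mul_assoc, S.exp _ (S.sq l hl.1), mul_one]
  rw [h3, ← mul_assoc, mul_assoc _ (cm x l) (cm x b),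
    S.v_comm (S.com x hx.1 b hb) (ZX_le (S.com x hx.1 l hl.1)), ← mul_assoc, mul_eq_left] at h2
  exact h2

omit h S in
/-- a congruence shift -/
theorem shift_mem (S : Special φ) {a b c : T} (ha : a ∈ XX φ) (hb : b ∈ XX φ) (hm : a⁻¹ * (b * c) ∈ ZX φ) :
    (a * b)⁻¹ * c ∈ ZX φ := by
  have h1 : a⁻¹ * (b * b)⁻¹ * a⁻¹⁻¹ ∈ ZX φ := ZX_normal.conj_mem _ (inv_mem (S.sq b hb)) a⁻¹
  have h2 := mul_mem (mul_mem (S.com _ (inv_mem hb) _ (inv_mem ha)) h1) hm
  convert h2 using 1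
  simp only [cm]; group

/-- a second element congruent to none of two, orthogonal to a given one -/
theorem perp_exists (h16 : (ZX φ).relIndex (XX φ) = 16) {x : T} (hx : x ∈ XX φ) (P : T → Prop)
    (hP : ∀ s ∈ ZX φ, ∀ t ∈ ZX φ, ¬ P s → ¬ P t → P (s * t)) :
    ∃ y ∈ XX φ, y ∉ ZX φ ∧ x⁻¹ * y ∉ ZX φ ∧ P (cm x y) := by
  classical
  obtain ⟨y₁, hy₁, o1⟩ := exists_out (N := ZX φ) (K := XX φ) {1, x}
    (lt_of_le_of_lt Finset.card_le_two (by rw [h16]; norm_num))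
  obtain ⟨y₂, hy₂, o2⟩ := exists_out (N := ZX φ) (K := XX φ) {1, x, y₁, x * y₁}
    (lt_of_le_of_lt Finset.card_le_four (by rw [h16]; norm_num))
  have a1 : y₁ ∉ ZX φ := by simpa using o1 1 (by simp)
  have a2 : y₂ ∉ ZX φ := by simpa using o2 1 (by simp)
  by_cases p1 : P (cm x y₁)
  · exact ⟨y₁, hy₁, a1, o1 x (by simp), p1⟩
  by_cases p2 : P (cm x y₂)
  · exact ⟨y₂, hy₂, a2, o2 x (by simp), p2⟩
  refine ⟨y₁ * y₂, mul_mem hy₁ hy₂, fun hc => ?_, fun hc => o2 (x * y₁) (by simp) (shift_mem S hx hy₁ hc), ?_⟩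
  · refine o2 y₁ (by simp) ?_
    have h4 := mul_mem (inv_mem (S.sq y₁ hy₁)) hc
    rwa [show (y₁ * y₁)⁻¹ * (y₁ * y₂) = y₁⁻¹ * y₂ by group] at h4
  · rw [S.cm_r hx hy₁ hy₂]
    exact hP _ (S.com x hx y₁ hy₁) _ (S.com x hx y₂ hy₂) p1 p2

theorem prod_not_mem {x y : T} (hx : x ∈ XX φ) (hne : x⁻¹ * y ∉ ZX φ) : x * y ∉ ZX φ := fun hc => hne (by
  have h4 := mul_mem (inv_mem (S.sq x hx)) hc
  rwa [show (x * x)⁻¹ * (x * y) = x⁻¹ * y by group] at h4)

/-- with no involution outside a four group every involution of it is a square -/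
theorem roots (h16 : (ZX φ).relIndex (XX φ) = 16) (hinv : ∀ x ∈ XX φ, x ∉ ZX φ → x * x ≠ 1) {u : T}
    (hu : u ∈ ZX φ) (hu1 : u ≠ 1) : ∃ x ∈ XX φ, x * x = u := by
  by_contra hno
  push Not at hno
  obtain ⟨x, hx, hxV⟩ : ∃ x ∈ XX φ, x ∉ ZX φ := SetLike.not_le_iff_exists.1 fun hle => by
    rw [relIndex_eq_one.2 hle] at h16; omega
  set w := x * x with hw
  have hwV : w ∈ ZX φ := S.sq x hx
  have hw1 : w ≠ 1 := hinv x hx hxV
  have hwu : w ≠ u := hno x hx
  have hL := fun {s : T} (hs : s ∈ ZX φ) => h.four_list ZX_normal S.exp hu hwV hu1 hw1 hwu hs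
  have key : ∀ s ∈ ZX φ, s ≠ 1 → s ≠ u → ∀ t ∈ ZX φ, t ≠ 1 → t ≠ u → s * t = 1 ∨ s * t = u := by
    intro s hs s1 su t ht t1 tu
    rcases hL hs with r | r | r | r <;> rcases hL ht with q | q | q | q <;>
      first
        | exact absurd r s1 | exact absurd r su | exact absurd q t1 | exact absurd q tu | skip
    · left; rw [r, q, S.exp w hwV]
    · right; rw [r, q, ← mul_assoc, ZX_comm hwV hu, mul_assoc, S.exp w hwV, mul_one]
    · right; rw [r, q, mul_assoc, S.exp w hwV, mul_one]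
    · left; rw [r, q, S.exp _ (mul_mem hu hwV)]
  obtain ⟨y, hy, hyV, hxy, hc⟩ := S.perp_exists h h16 hx (fun s => s = 1 ∨ s = u) fun s hs t ht ps pt =>
    key s hs (fun e => ps (Or.inl e)) (fun e => ps (Or.inr e)) t ht (fun e => pt (Or.inl e))
      (fun e => pt (Or.inr e))
  have h1 := hinv _ (mul_mem hx hy) (S.prod_not_mem h hx hxy)
  have h2 := hno _ (mul_mem hx hy)
  rw [S.sq_mul hx hy] at h1 h2
  rcases key w hwV hw1 hwu _ (S.sq y hy) (hinv y hy hyV) (hno y hy) with e | e <;> rcases hc with e' | e' <;>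
    rw [← hw, e, e'] at h1 h2
  · exact h1 (one_mul 1)
  · exact h2 (one_mul u)
  · exact h2 (mul_one u)
  · exact h1 (S.exp u hu)

/-- a centre of order two has a singular element -/
theorem singular (h16 : (ZX φ).relIndex (XX φ) = 16) (h2 : Nat.card (ZX φ) = 2) :
    ∃ y ∈ XX φ, y ∉ ZX φ ∧ y * y = 1 := by
  have key : ∀ s ∈ ZX φ, s ≠ 1 → ∀ t ∈ ZX φ, t ≠ 1 → s = t := by
    intro s hs hs1 t ht ht1
    by_contra hne
    have h3 : ({1, s, t} : Set T).ncard = 3 := by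
      rw [Set.ncard_insert_of_notMem (by simp [hs1.symm, ht1.symm]), Set.ncard_pair hne]
    have hle : ({1, s, t} : Set T) ⊆ (ZX φ : Set T) := by
      rintro v (rfl | rfl | rfl)
      exacts [one_mem _, hs, ht]
    have := Set.ncard_le_ncard hle (Set.toFinite _)
    rw [h3, ← Nat.card_coe_set_eq, SetLike.coe_sort_coe, h2] at this
    omega
  by_contra hno
  push Not at hno
  obtain ⟨x, hx, hxV⟩ : ∃ x ∈ XX φ, x ∉ ZX φ := SetLike.not_le_iff_exists.1 fun hle => by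
    rw [relIndex_eq_one.2 hle] at h16; omega
  obtain ⟨y, hy, hyV, hxy, hc⟩ := S.perp_exists h h16 hx (fun s => s = 1)
    fun s hs t ht ps pt => by rw [key s hs ps t ht pt, S.exp t ht]
  refine hno _ (mul_mem hx hy) (S.prod_not_mem h hx hxy) ?_
  rw [S.sq_mul hx hy, key _ (S.sq x hx) (hno x hx hxV) _ (S.sq y hy) (hno y hy hyV), S.exp _ (S.sq y hy), one_mul]
  exact hc

end Special

end Cfsg.Lib.NormalRankTwo
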