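import Cfsg.Agent.NormalRankTwo.SpecialTools

/-!
A special commutator with a quotient of order four or eight.
-/

set_option autoImplicit false
set_option linter.unusedSectionVars false
set_option linter.style.haveILetI false

namespace Cfsg.Lib.NormalRankTwo

open Subgroup

variable {T : Type*} [Group T] [Finite T] {φ : MulAut T}

/-- the commutator is quaternion, centralised by the fixed points -/
structure Quat (φ : MulAut T) : Prop where
  card_Z : Nat.card (ZX φ) = 2
  card_X : Nat.card (XX φ) = 8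
  fixed : ∀ v ∈ ZX φ, φ v = v
  ne_one : ∀ x ∈ XX φ, x ∉ ZX φ → x * x ≠ 1
  nab : ∃ x ∈ XX φ, ∃ y ∈ XX φ, x * y ≠ y * x
  cen : ∀ r ∈ FX φ, ∀ x ∈ XX φ, r * x = x * r
  inter : ∀ x ∈ XX φ, φ x = x → x ∈ ZX φ

namespace Special

variable (h : Ctx T φ) (S : Special φ)

include h S

theorem card_XX : Nat.card (XX φ) = Nat.card (ZX φ) * (ZX φ).relIndex (XX φ) := by
  rw [← relIndex_bot_left (H := XX φ), ← relIndex_bot_left (H := ZX φ),
    relIndex_mul_relIndex _ _ _ bot_le ZX_le]

/-- the quotient of order four -/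
theorem quat (h4 : (ZX φ).relIndex (XX φ) = 4) (h3 : orderOf φ = 3) : Quat φ := by
  obtain ⟨a, haS, haV⟩ := S.exists_stab h
  have ha := haS.1
  have ha1 := map_mem_XX ha
  have ha2 := map_mem_XX ha1
  have hlist := fun {x : T} (hx : x ∈ XX φ) =>
    S.orbit_list h (N := XX φ) le_rfl (fun _ hy => map_mem_XX hy) h4 h3 ha haV hx
  set u := cm a (φ a) with hu
  have huV : u ∈ ZX φ := S.com a ha _ ha1
  have h3m := S.third_mod h h3 ha
  have t13 : cm a (φ (φ a)) = u := by
    rw [S.cm_mod (mul_mem ha ha1) ha h3m, S.cm_r ha ha ha1, S.cm_self, one_mul]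
  have t23 : cm (φ a) (φ (φ a)) = u := by
    rw [S.cm_mod (mul_mem ha ha1) ha1 h3m, S.cm_r ha1 ha ha1, S.cm_self, mul_one, S.cm_symm ha ha1]
  have hrep : ∀ x ∈ XX φ, ∀ z ∈ XX φ, cm z x = 1 ∨ cm z x = cm z a ∨ cm z x = cm z (φ a) ∨
      cm z x = cm z (φ (φ a)) := by
    intro x hx z hz
    rcases hlist hx with e | e | e | e
    · exact Or.inl (S.cm_v hz e)
    · exact Or.inr (Or.inl (S.cm_mod ha hz e))
    · exact Or.inr (Or.inr (Or.inl (S.cm_mod ha1 hz e)))
    · exact Or.inr (Or.inr (Or.inr (S.cm_mod ha2 hz e)))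
  have hval : ∀ x ∈ XX φ, ∀ y ∈ XX φ, cm x y = 1 ∨ cm x y = u := by
    have hrow : ∀ y ∈ XX φ, (cm a y = 1 ∨ cm a y = u) ∧ (cm (φ a) y = 1 ∨ cm (φ a) y = u) ∧
        (cm (φ (φ a)) y = 1 ∨ cm (φ (φ a)) y = u) := by
      intro y hy
      refine ⟨?_, ?_, ?_⟩
      · rcases hrep y hy a ha with e | e | e | e
        · exact Or.inl e
        · exact Or.inl (e.trans (S.cm_self a))
        · exact Or.inr e
        · exact Or.inr (e.trans t13)
      · rcases hrep y hy _ ha1 with e | e | e | e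
        · exact Or.inl e
        · exact Or.inr (e.trans (S.cm_symm ha ha1))
        · exact Or.inl (e.trans (S.cm_self _))
        · exact Or.inr (e.trans t23)
      · rcases hrep y hy _ ha2 with e | e | e | e
        · exact Or.inl e
        · exact Or.inr (e.trans ((S.cm_symm ha ha2).trans t13))
        · exact Or.inr (e.trans ((S.cm_symm ha1 ha2).trans t23))
        · exact Or.inl (e.trans (S.cm_self _))
    intro x hx y hy
    obtain ⟨r1, r2, r3⟩ := hrow x hx
    rcases hrep y hy x hx with e | e | e | e <;> rw [e]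
    · exact Or.inl rfl
    · rwa [S.cm_symm ha hx]
    · rwa [S.cm_symm ha1 hx]
    · rwa [S.cm_symm ha2 hx]
  have hu1 : u ≠ 1 := by
    intro e
    obtain ⟨x, hx, y, hy, hxy⟩ := S.nab
    refine hxy (cm_eq_one.1 ?_)
    rcases hval x hx y hy with r | r
    · exact r
    · exact r.trans e
  have hfu : φ u = u := by rw [hu, cm_map, t23]
  have hfix : ∀ v ∈ ZX φ, φ v = v := h.fix_all ZX_normal (fun _ hv => h.ZX_inv hv) S.exp huV hu1 hfu
  have hu2 := S.exp u huV
  have hq : a * a = u := by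
    have e1 : φ (φ a) * φ (φ a) = a * a := by
      rw [← map_mul, ← map_mul, hfix _ (S.sq a ha), hfix _ (S.sq a ha)]
    have e2 := S.sq_mod (mul_mem ha ha1) h3m
    rw [e1, S.sq_mul ha ha1, ← map_mul, hfix _ (S.sq a ha), S.exp _ (S.sq a ha), one_mul] at e2
    exact e2
  have hsq : ∀ x ∈ XX φ, x * x = 1 ∨ x * x = u := by
    intro x hx
    rcases hlist hx with e | e | e | e
    · exact Or.inl (S.exp x e)
    · exact Or.inr ((S.sq_mod ha e).trans hq)
    · exact Or.inr ((S.sq_mod ha1 e).trans (by rw [← map_mul, hq, hfu]))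
    · exact Or.inr ((S.sq_mod ha2 e).trans (by rw [← map_mul, ← map_mul, hq, hfu, hfu]))
  let U : Subgroup T :=
    { carrier := {s | s = 1 ∨ s = u}
      one_mem' := Or.inl rfl
      mul_mem' := by
        rintro s t (rfl | rfl) (rfl | rfl)
        exacts [Or.inl (one_mul 1), Or.inr (one_mul _), Or.inr (mul_one _), Or.inl hu2]
      inv_mem' := by
        rintro s (rfl | rfl)
        exacts [Or.inl inv_one, Or.inr (eq_inv_of_sq hu2)] }
  have hUn : U.Normal := ⟨fun s hs g => by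
    rcases hs with rfl | rfl
    · left; group
    · rw [hu, show g * cm a (φ a) * g⁻¹ = cm (g * a * g⁻¹) (g * φ a * g⁻¹) by simp only [cm]; group]
      exact hval _ (conj_mem_XX ha g) _ (conj_mem_XX ha1 g)⟩
  have hVU : ∀ v ∈ ZX φ, v = 1 ∨ v = u := fun v hv => h.fixed_mem hUn (fun s hs => by
      rcases hs with rfl | rfl
      · exact Or.inl (map_one φ)
      · exact Or.inr hfu) (fun x hx y hy => hval x hx y hy) (ZX_le hv)
      (by rw [hfix v hv, inv_mul_cancel]; exact Or.inl rfl)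
  have hset : (ZX φ : Set T) = {1, u} := Set.ext fun v => ⟨fun hv => hVU v hv, fun hv => by
    rcases hv with rfl | rfl
    exacts [one_mem _, huV]⟩
  have hcZ : Nat.card (ZX φ) = 2 := by
    rw [← SetLike.coe_sort_coe, Nat.card_coe_set_eq, hset, Set.ncard_pair hu1.symm]
  refine ⟨hcZ, by rw [S.card_XX h, hcZ, h4], hfix, fun x hx hxV => ?_, S.nab, fun r hr x hx => ?_,
    fun x hx e => S.mem_of_fix h hx (by rw [e, inv_mul_cancel]; exact one_mem _)⟩
  · have hxu : x * x = u := by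
      rcases hlist hx with e | e | e | e
      · exact absurd e hxV
      · exact (S.sq_mod ha e).trans hq
      · exact (S.sq_mod ha1 e).trans (by rw [← map_mul, hq, hfu])
      · exact (S.sq_mod ha2 e).trans (by rw [← map_mul, ← map_mul, hq, hfu, hfu])
    rw [hxu]; exact hu1
  · refine cm_eq_one.1 (S.cent_fixed h hfix hr (fun y hy => ?_) x hx)
    have hall : y ∈ Stab φ := by
      have key : ∀ b ∈ Stab φ, b⁻¹ * y ∈ ZX φ → y ∈ Stab φ := fun b hb e => by
        have := mul_mem hb (ZX_le_Stab e); rwa [mul_inv_cancel_left] at this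
      rcases hlist hy with e | e | e | e
      exacts [ZX_le_Stab e, key a haS e, key _ (S.Stab_inv h a haS) e,
        key _ (S.Stab_inv h _ (S.Stab_inv h a haS)) e]
    exact hall.2 r

/-- the quotient is not of order eight -/
theorem not_eight (h8 : (ZX φ).relIndex (XX φ) = 8) (h7 : orderOf φ = 7) : False := by
  classical
  have hfix : ∀ v ∈ ZX φ, φ v = v := by
    rcases h.four_cases ZX_normal (fun _ hv => h.ZX_inv hv) S.exp with r | ⟨-, -, r, -⟩
    · exact r
    · omega
  obtain ⟨x₀, hx₀, y₀, hy₀, hxy⟩ := S.nab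
  set u := cm x₀ y₀ with hu
  have huV : u ∈ ZX φ := S.com _ hx₀ _ hy₀
  have hu1 : u ≠ 1 := fun e => hxy (cm_eq_one.1 e)
  -- a subgroup of index two in the centre avoiding the commutator
  obtain ⟨v, hv, hvu, hprod⟩ : ∃ v ∈ ZX φ, u ≠ v ∧ ∀ s ∈ ZX φ, ∀ t ∈ ZX φ, s ≠ 1 → s ≠ v → t ≠ 1 → t ≠ v →
      s * t = 1 ∨ s * t = v := by
    by_cases hv : ∃ v ∈ ZX φ, v ≠ 1 ∧ v ≠ u
    · obtain ⟨v, hv, hv1, hvu⟩ := hv
      refine ⟨v, hv, Ne.symm hvu, fun s hs t ht s1 sv t1 tv => ?_⟩
      have hL := fun {w : T} (hw : w ∈ ZX φ) => h.four_list ZX_normal S.exp hv huV hv1 hu1 (Ne.symm hvu) hw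
      rcases hL hs with r | r | r | r <;> rcases hL ht with q | q | q | q <;>
        first
          | exact absurd r s1 | exact absurd r sv | exact absurd q t1 | exact absurd q tv | skip
      · left; rw [r, q, S.exp u huV]
      · right; rw [r, q, ← mul_assoc, ZX_comm huV hv, mul_assoc, S.exp u huV, mul_one]
      · right; rw [r, q, mul_assoc, S.exp u huV, mul_one]
      · left; rw [r, q, S.exp _ (mul_mem hv huV)]
    · push Not at hv
      refine ⟨1, one_mem _, hu1, fun s hs t ht s1 _ t1 _ => Or.inl ?_⟩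
      rw [hv s hs s1, hv t ht t1, S.exp u huV]
  let U : Subgroup T :=
    { carrier := {s | s = 1 ∨ s = v}
      one_mem' := Or.inl rfl
      mul_mem' := by
        rintro s t (rfl | rfl) (rfl | rfl)
        exacts [Or.inl (one_mul 1), Or.inr (one_mul _), Or.inr (mul_one _), Or.inl (S.exp _ hv)]
      inv_mem' := by
        rintro s (rfl | rfl)
        exacts [Or.inl inv_one, Or.inr (S.v_inv hv)] }
  have huU : u ∉ U := by rintro (r | r); exacts [hu1 r, hvu r]
  have hsum : ∀ s ∈ ZX φ, ∀ t ∈ ZX φ, s ∉ U → t ∉ U → s * t ∈ U := fun s hs t ht hsU htU =>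
    hprod s hs t ht (fun r => hsU (Or.inl r)) (fun r => hsU (Or.inr r)) (fun r => htU (Or.inl r))
      (fun r => htU (Or.inr r))
  let perp : T → Subgroup T := fun a =>
    if ha : a ∈ XX φ then
    { carrier := {y | y ∈ XX φ ∧ cm a y ∈ U}
      one_mem' := ⟨one_mem _, by rw [show cm a (1 : T) = 1 by simp [cm]]; exact one_mem U⟩
      mul_mem' := fun {p q} hp hq => ⟨mul_mem hp.1 hq.1, by rw [S.cm_r ha hp.1 hq.1]; exact mul_mem hp.2 hq.2⟩
      inv_mem' := fun {p} hp => ⟨inv_mem hp.1, by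
        rw [S.cm_mod (x := p) (y := p⁻¹) hp.1 ha (by rw [← mul_inv_rev]; exact inv_mem (S.sq p hp.1))]
        exact hp.2⟩ }
    else ⊥
  have hperp : ∀ a ∈ XX φ, ∀ y, y ∈ perp a ↔ y ∈ XX φ ∧ cm a y ∈ U := fun a ha y => by
    simp only [perp, dif_pos ha]
    rfl
  let Rad : Subgroup T :=
    { carrier := {a | a ∈ XX φ ∧ ∀ y ∈ XX φ, cm a y ∈ U}
      one_mem' := ⟨one_mem _, fun y _ => by rw [show cm (1 : T) y = 1 by simp [cm]]; exact one_mem U⟩
      mul_mem' := fun {p q} hp hq => ⟨mul_mem hp.1 hq.1, fun y hy => by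
        rw [S.cm_l hp.1 hq.1 hy]; exact mul_mem (hp.2 y hy) (hq.2 y hy)⟩
      inv_mem' := fun {p} hp => ⟨inv_mem hp.1, fun y hy => by
        rw [← S.cm_symm (inv_mem hp.1) hy,
          S.cm_mod (x := p) (y := p⁻¹) hp.1 hy (by rw [← mul_inv_rev]; exact inv_mem (S.sq p hp.1)),
          S.cm_symm hp.1 hy]
        exact hp.2 y hy⟩ }
  have hVR : ZX φ ≤ Rad := fun w hw => ⟨ZX_le hw, fun y hy => by
    rw [← S.cm_symm (ZX_le hw) hy, S.cm_v hy hw]; exact one_mem U⟩
  have hRV : Rad ≤ ZX φ := by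
    obtain ⟨k, hk⟩ := S.relIndex_pow h (N := Rad)
    have hmul := relIndex_mul_relIndex (ZX φ) Rad (XX φ) hVR (fun a ha => ha.1)
    rw [h8, hk] at hmul
    have hk3 : k ≤ 3 := (Nat.pow_dvd_pow_iff_le_right (by norm_num : 1 < 2)).1 ⟨_, hmul.symm⟩
    have hm := S.relIndex_mod h (N := Rad) (fun a ha => ha.1) fun a ha => ⟨map_mem_XX ha.1, fun y hy => by
      have h1 := ha.2 _ (h.symm_mem (fun _ hx => map_mem_XX hx) hy)
      have h2 := congrArg φ (rfl : cm a (φ.symm y) = cm a (φ.symm y))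
      rw [show cm (φ a) y = φ (cm a (φ.symm y)) by rw [cm_map, MulEquiv.apply_symm_apply]]
      rwa [hfix _ (S.com _ ha.1 _ (h.symm_mem (fun _ hx => map_mem_XX hx) hy))]⟩
    rw [hk, h7] at hm
    interval_cases k
    · exact relIndex_eq_one.1 (by rw [hk]; norm_num)
    · exact absurd hm (by decide)
    · exact absurd hm (by decide)
    · exfalso
      have h1 : XX φ ≤ Rad := relIndex_eq_one.1 (Nat.eq_of_mul_eq_mul_left (by norm_num : 0 < 2 ^ 3)
        (hmul.trans (by norm_num)))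
      exact huU ((h1 hx₀).2 y₀ hy₀)
  obtain ⟨a, ha, haV⟩ := exists_out (N := ZX φ) (K := XX φ) {(1 : T)} (by rw [h8, Finset.card_singleton]; norm_num)
  have haV' : a ∉ ZX φ := by simpa using haV 1 (Finset.mem_singleton_self 1)
  obtain ⟨y, hy, hay⟩ : ∃ y ∈ XX φ, cm a y ∉ U := by
    by_contra hno
    push Not at hno
    exact haV' (hRV ⟨ha, hno⟩)
  have hya : cm y a ∉ U := by rwa [S.cm_symm ha hy]
  obtain ⟨x, hx, hxo⟩ := exists_out (N := ZX φ) (K := XX φ) {1, a, y, a * y} (lt_of_le_of_lt Finset.card_le_four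
    (by rw [h8]; norm_num))
  have hinvmod : ∀ r ∈ XX φ, x * r ∈ ZX φ → r⁻¹ * x ∈ ZX φ := fun r hr e => by
    have h1 := (ZX_normal (φ := φ)).conj_mem _ e r
    rw [show r * (x * r) * r⁻¹ = r * r * (r⁻¹ * x) by group] at h1
    have := mul_mem (inv_mem (S.sq r hr)) h1
    rwa [inv_mul_cancel_left] at this
  -- shift into the orthogonal of both
  obtain ⟨w, hw, hwV, hwa, hwy⟩ : ∃ w ∈ XX φ, w ∉ ZX φ ∧ cm a w ∈ U ∧ cm y w ∈ U := by
    have key : ∀ r ∈ ({1, a, y, a * y} : Finset T), x * r ∉ ZX φ := fun r hr e => hxo r hr (hinvmod r (by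
      simp only [Finset.mem_insert, Finset.mem_singleton] at hr
      rcases hr with rfl | rfl | rfl | rfl
      exacts [one_mem _, ha, hy, mul_mem ha hy]) e)
    have hca := S.com a ha x hx
    have hcy := S.com y hy x hx
    by_cases p1 : cm a x ∈ U <;> by_cases p2 : cm y x ∈ U
    · exact ⟨x * 1, mul_mem hx (one_mem _), key 1 (by simp), by rwa [mul_one], by rwa [mul_one]⟩
    · refine ⟨x * a, mul_mem hx ha, key a (by simp), ?_, ?_⟩
      · rw [S.cm_r ha hx ha, S.cm_self, mul_one]; exact p1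
      · rw [S.cm_r hy hx ha]; exact hsum _ hcy _ (S.com y hy a ha) p2 hya
    · refine ⟨x * y, mul_mem hx hy, key y (by simp), ?_, ?_⟩
      · rw [S.cm_r ha hx hy]; exact hsum _ hca _ (S.com a ha y hy) p1 hay
      · rw [S.cm_r hy hx hy, S.cm_self, mul_one]; exact p2
    · refine ⟨x * (a * y), mul_mem hx (mul_mem ha hy), key _ (by simp), ?_, ?_⟩
      · rw [S.cm_r ha hx (mul_mem ha hy), S.cm_r ha ha hy, S.cm_self, one_mul]
        exact hsum _ hca _ (S.com a ha y hy) p1 hay
      · rw [S.cm_r hy hx (mul_mem ha hy), S.cm_r hy ha hy, S.cm_self, mul_one]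
        exact hsum _ hcy _ (S.com y hy a ha) p2 hya
  have hmem : ∀ p ∈ ({1, a, y, a * y, w} : Finset T), p ∈ perp w := by
    intro p hp
    rw [hperp w hw]
    simp only [Finset.mem_insert, Finset.mem_singleton] at hp
    rcases hp with h | h | h | h | h <;> rw [h]
    · exact ⟨one_mem _, by rw [show cm w (1 : T) = 1 by simp [cm]]; exact one_mem U⟩
    · exact ⟨ha, by rwa [S.cm_symm ha hw]⟩
    · exact ⟨hy, by rwa [S.cm_symm hy hw]⟩
    · refine ⟨mul_mem ha hy, ?_⟩
      rw [S.cm_r hw ha hy, S.cm_symm ha hw, S.cm_symm hy hw]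
      exact mul_mem hwa hwy
    · exact ⟨hw, by rw [S.cm_self]; exact one_mem U⟩
  -- the five are independent
  have hinc : ∀ p ∈ ({1, a, y, a * y, w} : Finset T), ∀ q ∈ ({1, a, y, a * y, w} : Finset T),
      p⁻¹ * q ∈ ZX φ → cm a p = cm a q ∧ cm y p = cm y q := by
    intro p hp q hq e
    have hp' := (hperp w hw p).1 (hmem p hp)
    exact ⟨(S.cm_mod hp'.1 ha e).symm, (S.cm_mod hp'.1 hy e).symm⟩
  have hya1 : cm y a ≠ 1 := fun e => hya (e ▸ one_mem U)
  have hay1 : cm a y ≠ 1 := fun e => hay (e ▸ one_mem U)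
  have h5 : 5 ≤ (ZX φ).relIndex (perp w) := by
    have hval : ∀ {p : T}, p ∈ XX φ → cm a p ∈ U → cm y p ∈ U → p ≠ a ∧ p ≠ y ∧ p ≠ a * y := by
      intro p hp pa py
      refine ⟨fun e => hya (e ▸ py), fun e => hay (e ▸ pa), fun e => hay ?_⟩
      rw [e, S.cm_r ha ha hy, S.cm_self, one_mul] at pa
      exact pa
    have c1a : cm a (a * y) = cm a y := by rw [S.cm_r ha ha hy, S.cm_self, one_mul]
    have c2a : cm y (a * y) = cm y a := by rw [S.cm_r hy ha hy, S.cm_self, mul_one]
    have hU1 : cm a (1 : T) = 1 ∧ cm y (1 : T) = 1 := ⟨by simp [cm], by simp [cm]⟩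
    have hd : ∀ p ∈ ({1, a, y, a * y, w} : Finset T), ∀ q ∈ ({1, a, y, a * y, w} : Finset T),
        p⁻¹ * q ∈ ZX φ → p = q := by
      intro p hp q hq e
      obtain ⟨ea, ey⟩ := hinc p hp q hq e
      simp only [Finset.mem_insert, Finset.mem_singleton] at hp hq
      rcases hp with h | h | h | h | h <;> rcases hq with h' | h' | h' | h' | h' <;>
        simp only [h, h', S.cm_self, hU1.1, hU1.2, c1a, c2a, inv_one, one_mul, mul_one] at ea ey e ⊢ <;>
        first
          | rfl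
          | exact absurd ea hay1 | exact absurd ea.symm hay1 | exact absurd ey hya1 | exact absurd ey.symm hya1
          | exact absurd e hwV | exact absurd (inv_mem_iff.1 e) hwV
          | (rw [ea] at hay; exact absurd hwa hay) | (rw [← ea] at hay; exact absurd hwa hay)
          | (rw [ey] at hya; exact absurd hwy hya) | (rw [← ey] at hya; exact absurd hwy hya)
    have := card_le_relIndex (N := ZX φ) (K := perp w) ({1, a, y, a * y, w} : Finset T) hmem hd
    have hne : ∀ {p q : T}, p⁻¹ * q ∉ ZX φ → p ≠ q := fun hn e => hn (by rw [e, inv_mul_cancel]; exact one_mem _)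
    rwa [Finset.card_insert_of_notMem, Finset.card_insert_of_notMem, Finset.card_insert_of_notMem,
      Finset.card_insert_of_notMem, Finset.card_singleton] at this <;>
      simp only [Finset.mem_insert, Finset.mem_singleton, not_or]
    · exact fun e => (hval hw hwa hwy).2.2 e.symm
    · exact ⟨fun e => haV' (by rw [right_eq_mul.1 e]; exact one_mem _), fun e => (hval hw hwa hwy).2.1 e.symm⟩
    · exact ⟨fun e => hay1 (by rw [← e, S.cm_self]),
        fun e => hay1 (by rw [left_eq_mul.1 e, hU1.1]),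
        fun e => (hval hw hwa hwy).1 e.symm⟩
    · refine ⟨fun e => haV' (e ▸ one_mem _), fun e => hay1 (by rw [← e, hU1.1]), fun e => ?_,
        fun e => hwV (e ▸ one_mem _)⟩
      refine hay1 ?_
      have := congrArg (cm a) e
      rw [hU1.1, c1a] at this
      exact this.symm
  obtain ⟨k, hk⟩ := S.relIndex_pow h (N := perp w)
  have hmul := relIndex_mul_relIndex (ZX φ) (perp w) (XX φ) (fun z hz => (hperp w hw z).2
    ⟨ZX_le hz, by rw [S.cm_v hw hz]; exact one_mem U⟩) (fun z hz => ((hperp w hw z).1 hz).1)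
  rw [h8, hk] at hmul
  have hk3 : k ≤ 3 := (Nat.pow_dvd_pow_iff_le_right (by norm_num : 1 < 2)).1 ⟨_, hmul.symm⟩
  rw [hk] at h5
  interval_cases k <;> norm_num at h5
  exact hwV (hRV ⟨hw, fun z hz => ((hperp w hw z).1 (relIndex_eq_one.1 (by omega) hz)).2⟩)

end Special

end Cfsg.Lib.NormalRankTwo
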