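import Cfsg.Agent.NormalRankTwo.SpecialBasic

/-!
A special commutator: the elements central modulo the centre and the orbits of length three.
-/

set_option autoImplicit false
set_option linter.unusedSectionVars false
set_option linter.style.haveILetI false

namespace Cfsg.Lib.NormalRankTwo

open Subgroup

variable {T : Type*} [Group T] [Finite T] {φ : MulAut T}

/-- the members of the commutator central modulo its centre in the whole group -/
def Stab (φ : MulAut T) : Subgroup T where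
  carrier := {x | x ∈ XX φ ∧ ∀ g : T, cm g x ∈ ZX φ}
  one_mem' := ⟨one_mem _, fun g => by rw [show cm g (1 : T) = 1 by simp [cm]]; exact one_mem _⟩
  mul_mem' := fun {a b} ha hb => ⟨mul_mem ha.1 hb.1, fun g => by
    rw [cm_mul_right]; exact mul_mem (ha.2 g) (ZX_normal.conj_mem _ (hb.2 g) a)⟩
  inv_mem' := fun {a} ha => ⟨inv_mem ha.1, fun g => by
    rw [show cm g a⁻¹ = a⁻¹ * (cm g a)⁻¹ * a⁻¹⁻¹ by simp only [cm]; group]
    exact ZX_normal.conj_mem _ (inv_mem (ha.2 g)) _⟩

theorem mem_Stab {x : T} : x ∈ Stab φ ↔ x ∈ XX φ ∧ ∀ g : T, cm g x ∈ ZX φ := Iff.rfl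

theorem Stab_le : Stab φ ≤ XX φ := fun _ hx => hx.1

theorem ZX_le_Stab : ZX φ ≤ Stab φ := fun v hv =>
  ⟨ZX_le hv, fun g => mul_mem (ZX_normal.conj_mem v hv g) (inv_mem hv)⟩

theorem Stab_normal : (Stab φ).Normal := ⟨fun x hx g => ⟨conj_mem_XX hx.1 g, fun k => by
  rw [show cm k (g * x * g⁻¹) = g * cm (g⁻¹ * k * g) x * g⁻¹ by simp only [cm]; group]
  exact ZX_normal.conj_mem _ (hx.2 _) g⟩⟩

namespace Special

variable (h : Ctx T φ) (S : Special φ)

include S h

theorem Stab_inv : ∀ x ∈ Stab φ, φ x ∈ Stab φ := fun x hx => ⟨map_mem_XX hx.1, fun g => by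
  have := h.ZX_inv (hx.2 (φ.symm g))
  rwa [cm_map, MulEquiv.apply_symm_apply] at this⟩

/-- there is a central element of the quotient -/
theorem exists_stab : ∃ a ∈ Stab φ, a ∉ ZX φ := by
  obtain ⟨a, ha, haV, -, hag⟩ := exists_step h.two (ZX_normal (φ := φ)) (XX_normal (φ := φ)) fun hle => by
    obtain ⟨x, hx, y, hy, hxy⟩ := S.nab
    exact hxy (ZX_comm (hle hx) (hle hy))
  exact ⟨a, ⟨ha, hag⟩, haV⟩

/-- no two independent commuting involutions central modulo the centre -/
theorem five_near {z x y : T} (hz : z ∈ ZX φ) (hz1 : z ≠ 1) (hx : ∀ g : T, cm g x ∈ ZX φ)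
    (hy : ∀ g : T, cm g y ∈ ZX φ) (hxc : ∀ v ∈ ZX φ, x * v = v * x) (hyc : ∀ v ∈ ZX φ, y * v = v * y)
    (hx2 : x * x = 1) (hy2 : y * y = 1) (hxy : x * y = y * x) (hxV : x ∉ ZX φ) (hyV : y ∉ ZX φ)
    (hne : x⁻¹ * y ∉ ZX φ) : False := by
  classical
  set s : Set T := insert x (insert y (ZX φ : Set T)) with hs
  set A := closure s with hA
  have hVA : ZX φ ≤ A := fun v hv => subset_closure (Set.mem_insert_of_mem _ (Set.mem_insert_of_mem _ hv))
  have hxA : x ∈ A := subset_closure (Set.mem_insert _ _)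
  have hyA : y ∈ A := subset_closure (Set.mem_insert_of_mem _ (Set.mem_insert _ _))
  have hsS : ∀ g ∈ s, ∀ t : T, cm t g ∈ ZX φ := by
    intro g hg
    rcases hg with rfl | rfl | hg
    exacts [hx, hy, (ZX_le_Stab hg).2]
  have hcs : ∀ g ∈ s, ∀ k ∈ s, g * k = k * g := by
    intro g hg k hk
    rcases hg with rfl | rfl | hg
    · rcases hk with rfl | rfl | hk
      exacts [rfl, hxy, hxc k hk]
    · rcases hk with rfl | rfl | hk
      exacts [hxy.symm, rfl, hyc k hk]
    · rcases hk with rfl | rfl | hk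
      exacts [(hxc g hg).symm, (hyc g hg).symm, ZX_comm hg hk]
  have h1 : ∀ g ∈ s, ∀ b ∈ A, g * b = b * g := fun g hg b hb => by
    refine mem_centralizer_singleton_iff.1 ((closure_le _).2 (fun k hk => ?_) hb : b ∈ centralizer ({g} : Set T)) |>.symm
    exact mem_centralizer_singleton_iff.2 (hcs k hk g hg)
  have hc : ∀ a ∈ A, ∀ b ∈ A, a * b = b * a := fun a ha b hb => by
    refine mem_centralizer_singleton_iff.1 ((closure_le _).2 (fun k hk => ?_) ha : a ∈ centralizer ({b} : Set T))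
    exact mem_centralizer_singleton_iff.2 (h1 k hk b hb)
  have hn : A.Normal := ⟨fun a ha g => by
    refine closure_induction (fun b hb => ?_) ?_ (fun b c _ _ hb hc => ?_) (fun b _ hb => ?_) ha
    · rw [show g * b * g⁻¹ = cm g b * b by simp only [cm]; group]
      exact mul_mem (hVA (hsS b hb g)) (subset_closure hb)
    · simp
    · rw [show g * (b * c) * g⁻¹ = g * b * g⁻¹ * (g * c * g⁻¹) by group]; exact mul_mem hb hc
    · rw [show g * b⁻¹ * g⁻¹ = (g * b * g⁻¹)⁻¹ by group]; exact inv_mem hb⟩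
  have hne' : x * y ∉ ZX φ := by rwa [eq_inv_of_sq hx2] at hne
  refine h.five_false hn hc (s := {1, z, x, y, x * y}) ?_ ?_
  · rw [Finset.card_insert_of_notMem, Finset.card_insert_of_notMem, Finset.card_insert_of_notMem,
      Finset.card_insert_of_notMem, Finset.card_singleton] <;>
      simp only [Finset.mem_insert, Finset.mem_singleton, not_or]
    · exact fun e => hxV (by
        have := congrArg (fun t => t * y) e.symm
        simp only [mul_assoc, hy2, mul_one] at this
        exact absurd (this ▸ one_mem _ : x ∈ ZX φ) hxV)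
    · exact ⟨fun e => hne (by rw [e, inv_mul_cancel]; exact one_mem _),
        fun e => hyV (by rw [left_eq_mul.1 e]; exact one_mem _)⟩
    · exact ⟨fun e => hxV (e ▸ hz), fun e => hyV (e ▸ hz), fun e => hne' (e ▸ hz)⟩
    · exact ⟨hz1.symm, fun e => hxV (e ▸ one_mem _), fun e => hyV (e ▸ one_mem _), fun e => hne' (e ▸ one_mem _)⟩
  · intro t ht
    simp only [Finset.mem_insert, Finset.mem_singleton] at ht
    rcases ht with rfl | rfl | rfl | rfl | rfl
    exacts [⟨one_mem _, one_mul 1⟩, ⟨hVA hz, S.exp _ hz⟩, ⟨hxA, hx2⟩, ⟨hyA, hy2⟩,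
      ⟨mul_mem hxA hyA, by rw [(show Commute y x from hxy.symm).mul_mul_mul_comm, hx2, hy2, one_mul]⟩]

/-- no two independent commuting stable involutions -/
theorem five_stable {z x y : T} (hz : z ∈ ZX φ) (hz1 : z ≠ 1) (hx : x ∈ Stab φ) (hy : y ∈ Stab φ) (hx2 : x * x = 1)
    (hy2 : y * y = 1) (hxy : x * y = y * x) (hxV : x ∉ ZX φ) (hyV : y ∉ ZX φ) (hne : x⁻¹ * y ∉ ZX φ) : False :=
  S.five_near h hz hz1 hx.2 hy.2 (fun _ hv => S.v_comm hv hx.1) (fun _ hv => S.v_comm hv hy.1) hx2 hy2 hxy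
    hxV hyV hne

/-- with a fixed centre an element acting trivially on the quotient centralises the commutator -/
theorem cent_fixed (hfix : ∀ v ∈ ZX φ, φ v = v) {r : T} (hr : r ∈ FX φ)
    (hcm : ∀ x ∈ XX φ, cm r x ∈ ZX φ) : ∀ x ∈ XX φ, cm r x = 1 := by
  have hmul : ∀ a ∈ XX φ, ∀ b ∈ XX φ, cm r (a * b) = cm r a * cm r b := fun a ha b hb => by
    rw [cm_mul_right, S.v_conj (hcm b hb) ha]
  have h1 : cm r (1 : T) = 1 := by simp [cm]
  have hinv : ∀ a ∈ XX φ, cm r a⁻¹ = (cm r a)⁻¹ := fun a ha => by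
    refine eq_inv_of_mul_eq_one_left ?_
    rw [← hmul _ (inv_mem ha) a ha, inv_mul_cancel, h1]
  refine h.XX_induction (P := fun x => cm r x = 1) (fun x hx => ?_) h1
    (fun a ha b hb ea eb => by rw [hmul a ha b hb, ea, eb, one_mul])
    (fun a ha ea => by rw [hinv a ha, ea, inv_one])
  rw [hmul _ (inv_mem hx) _ (map_mem_XX hx), hinv x hx]
  have e : cm r (φ x) = cm r x := by
    have := hfix _ (hcm x hx)
    rwa [cm_map, mem_FX.1 hr] at this
  rw [e, inv_mul_cancel]

theorem cube (h3 : orderOf φ = 3) (y : T) : φ (φ (φ y)) = y := by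
  have := DFunLike.congr_fun (pow_orderOf_eq_one φ) y
  rwa [h3, show (3 : ℕ) = 1 + 1 + 1 from rfl, pow_succ, pow_succ, pow_one] at this

theorem orbit_inc {a : T} (ha : a ∈ XX φ) (haV : a ∉ ZX φ) (h3 : orderOf φ = 3) :
    φ a ∉ ZX φ ∧ φ (φ a) ∉ ZX φ ∧ a⁻¹ * φ a ∉ ZX φ ∧ a⁻¹ * φ (φ a) ∉ ZX φ ∧ (φ a)⁻¹ * φ (φ a) ∉ ZX φ := by
  have h01 : φ a ∉ ZX φ := fun hc => haV (by
    have := h.ZX_inv (h.ZX_inv hc); rwa [S.cube h h3] at this)
  have h02 : φ (φ a) ∉ ZX φ := fun hc => haV (by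
    have := h.ZX_inv hc; rwa [S.cube h h3] at this)
  have h12 : a⁻¹ * φ a ∉ ZX φ := fun hc => haV (S.mem_of_fix h ha hc)
  refine ⟨h01, h02, h12, fun hc => ?_, fun hc => h01 (S.mem_of_fix h (map_mem_XX ha) hc)⟩
  have := inv_mem (h.ZX_inv hc)
  rw [map_mul, map_inv, S.cube h h3, mul_inv_rev, inv_inv] at this
  exact h12 this

/-- an invariant section of order four is one orbit -/
theorem orbit_list {N : Subgroup T} (hN : N ≤ XX φ) (hinv : ∀ x ∈ N, φ x ∈ N)
    (h4 : (ZX φ).relIndex N = 4) (h3 : orderOf φ = 3) {a : T} (ha : a ∈ N) (haV : a ∉ ZX φ) {x : T} (hx : x ∈ N) :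
    x ∈ ZX φ ∨ a⁻¹ * x ∈ ZX φ ∨ (φ a)⁻¹ * x ∈ ZX φ ∨ (φ (φ a))⁻¹ * x ∈ ZX φ := by
  classical
  obtain ⟨h01, h02, h12, h13, h23⟩ := S.orbit_inc h (hN ha) haV h3
  by_contra hne
  simp only [not_or] at hne
  obtain ⟨hx0, hx1, hx2, hx3⟩ := hne
  have hd : ∀ p ∈ ({1, a, φ a, φ (φ a), x} : Finset T), ∀ q ∈ ({1, a, φ a, φ (φ a), x} : Finset T),
      p⁻¹ * q ∈ ZX φ → p = q := by
    intro p hp q hq hm
    have hm' : q⁻¹ * p ∈ ZX φ := by simpa using inv_mem hm
    simp only [Finset.mem_insert, Finset.mem_singleton] at hp hq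
    rcases hp with h | h | h | h | h <;> rcases hq with h' | h' | h' | h' | h' <;>
      simp only [h, h', inv_one, one_mul] at hm hm' ⊢ <;>
      first
        | exact absurd hm haV | exact absurd hm' haV | exact absurd hm h01 | exact absurd hm' h01
        | exact absurd hm h02 | exact absurd hm' h02 | exact absurd hm h12 | exact absurd hm' h12
        | exact absurd hm h13 | exact absurd hm' h13 | exact absurd hm h23 | exact absurd hm' h23
        | exact absurd hm hx0 | exact absurd hm' hx0 | exact absurd hm hx1 | exact absurd hm' hx1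
        | exact absurd hm hx2 | exact absurd hm' hx2 | exact absurd hm hx3 | exact absurd hm' hx3
  have hcard : ({1, a, φ a, φ (φ a), x} : Finset T).card = 5 := by
    rw [Finset.card_insert_of_notMem, Finset.card_insert_of_notMem, Finset.card_insert_of_notMem,
      Finset.card_insert_of_notMem, Finset.card_singleton] <;>
      simp only [Finset.mem_insert, Finset.mem_singleton, not_or]
    · exact fun e => hx3 (by rw [← e, inv_mul_cancel]; exact one_mem _)
    · exact ⟨fun e => h23 (by rw [← e, inv_mul_cancel]; exact one_mem _),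
        fun e => hx2 (by rw [← e, inv_mul_cancel]; exact one_mem _)⟩
    · exact ⟨fun e => h12 (by rw [← e, inv_mul_cancel]; exact one_mem _),
        fun e => h13 (by rw [← e, inv_mul_cancel]; exact one_mem _),
        fun e => hx1 (by rw [← e, inv_mul_cancel]; exact one_mem _)⟩
    · exact ⟨fun e => haV (e ▸ one_mem _), fun e => h01 (e ▸ one_mem _), fun e => h02 (e ▸ one_mem _),
        fun e => hx0 (e ▸ one_mem _)⟩
  have := card_le_relIndex (N := ZX φ) (K := N) ({1, a, φ a, φ (φ a), x} : Finset T) (fun p hp => by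
    simp only [Finset.mem_insert, Finset.mem_singleton] at hp
    rcases hp with rfl | rfl | rfl | rfl | rfl
    exacts [one_mem _, ha, hinv _ ha, hinv _ (hinv _ ha), hx]) hd
  omega

/-- an orbit product relation -/
theorem third_mod (h3 : orderOf φ = 3) {a : T} (ha : a ∈ XX φ) : (a * φ a)⁻¹ * φ (φ a) ∈ ZX φ := by
  have h1 := S.three_prod h h3 ha
  have h2 := S.sq _ (mul_mem ha (map_mem_XX ha))
  have := mul_mem (inv_mem h2) h1
  rwa [show (a * φ a * (a * φ a))⁻¹ * (a * φ a * φ (φ a)) = (a * φ a)⁻¹ * φ (φ a) by group] at this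

end Special

end Cfsg.Lib.NormalRankTwo
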